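import Groth.Prelude.Def_GrLC
import Mathlib

/-!
Components, homogeneous submodules, graded sub- and quotient objects, shifts.
-/

set_option autoImplicit false
set_option linter.unusedSectionVars false
universe u

open scoped Classical
open DirectSum

noncomputable section

namespace Groth.Agent.GrLCLib

variable {ι : Type} [AddCommGroup ι] [DecidableEq ι]
variable {R : Type u} [CommRing R] {σ : Type u} [SetLike σ R] [AddSubgroupClass σ R] (𝒜 : ι → σ) [GradedRing 𝒜]

section Comp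

variable {M : Type u} [AddCommGroup M] [Module R M] {τ : Type u} [SetLike τ M] [AddSubgroupClass τ M]
  (ℳ : ι → τ) [DirectSum.Decomposition ℳ]

/-- The component of degree `g`. -/
def pr (g : ι) : M →+ M where
  toFun x := (DirectSum.decompose ℳ x g : M)
  map_zero' := by simp
  map_add' x y := by simp

lemma pr_mem (g : ι) (x : M) : pr ℳ g x ∈ ℳ g := (DirectSum.decompose ℳ x g).2

lemma pr_of_mem {g : ι} {x : M} (hx : x ∈ ℳ g) : pr ℳ g x = x := DirectSum.decompose_of_mem_same ℳ hx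

lemma pr_of_mem_ne {g h : ι} {x : M} (hx : x ∈ ℳ h) (hne : h ≠ g) : pr ℳ g x = 0 :=
  DirectSum.decompose_of_mem_ne ℳ hx hne

/-- A submodule containing the components of its elements. -/
def Homog (K : Submodule R M) : Prop := ∀ x ∈ K, ∀ g, pr ℳ g x ∈ K

lemma sum_pr (x : M) : ∑ g ∈ (DirectSum.decompose ℳ x).support, pr ℳ g x = x :=
  DirectSum.sum_support_decompose ℳ x

lemma mem_of_pr_mem {K : Submodule R M} {x : M} (h : ∀ g, pr ℳ g x ∈ K) : x ∈ K := by
  rw [← sum_pr ℳ x]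
  exact Submodule.sum_mem _ fun g _ => h g

variable [SetLike.GradedSMul 𝒜 ℳ]

lemma smul_mem {e g : ι} {r : R} (hr : r ∈ 𝒜 e) {x : M} (hx : x ∈ ℳ g) : r • x ∈ ℳ (e + g) :=
  SetLike.GradedSMul.smul_mem hr hx

lemma pr_smul {e : ι} {r : R} (hr : r ∈ 𝒜 e) (g : ι) (x : M) :
    pr ℳ g (r • x) = r • pr ℳ (g - e) x := by
  induction x using DirectSum.Decomposition.inductionOn ℳ with
  | zero => simp
  | @homogeneous j m =>
    have hm : r • (m : M) ∈ ℳ (e + j) := smul_mem 𝒜 ℳ hr m.2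
    by_cases h : e + j = g
    · subst h
      rw [pr_of_mem ℳ hm, add_sub_cancel_left, pr_of_mem ℳ m.2]
    · rw [pr_of_mem_ne ℳ hm h, pr_of_mem_ne ℳ m.2 (fun h' => h (by rw [h', add_sub_cancel])), smul_zero]
  | add x y hx hy => simp only [smul_add, map_add, hx, hy]

variable {N : Type u} [AddCommGroup N] [Module R N] {τ' : Type u} [SetLike τ' N] [AddSubgroupClass τ' N]
  (𝒩 : ι → τ') [DirectSum.Decomposition 𝒩]
  {f : M →ₗ[R] N}

lemma pr_map_deg {δ : ι} (hf : GrLC.IsGrHomDeg ℳ 𝒩 f δ) (g : ι) (x : M) :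
    pr 𝒩 (g + δ) (f x) = f (pr ℳ g x) := by
  induction x using DirectSum.Decomposition.inductionOn ℳ with
  | zero => simp
  | @homogeneous j q =>
    by_cases h : j = g
    · subst h
      rw [pr_of_mem 𝒩 (hf j _ q.2), pr_of_mem ℳ q.2]
    · rw [pr_of_mem_ne 𝒩 (hf j _ q.2) (fun h' => h (add_right_cancel h')), pr_of_mem_ne ℳ q.2 h, map_zero]
  | add a b ha hb => simp only [map_add, ha, hb]

lemma pr_map (hf : GrLC.IsGrHom ℳ 𝒩 f) (g : ι) (x : M) : pr 𝒩 g (f x) = f (pr ℳ g x) := by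
  induction x using DirectSum.Decomposition.inductionOn ℳ with
  | zero => simp
  | @homogeneous j q =>
    by_cases h : j = g
    · subst h
      rw [pr_of_mem 𝒩 (hf j _ q.2), pr_of_mem ℳ q.2]
    · rw [pr_of_mem_ne 𝒩 (hf j _ q.2) h, pr_of_mem_ne ℳ q.2 h, map_zero]
  | add a b ha hb => simp only [map_add, ha, hb]

lemma homog_ker (hf : GrLC.IsGrHom ℳ 𝒩 f) : Homog ℳ (LinearMap.ker f) := fun x hx g => by
  rw [LinearMap.mem_ker] at hx ⊢
  rw [← pr_map ℳ 𝒩 hf, hx, map_zero]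

lemma homog_range (hf : GrLC.IsGrHom ℳ 𝒩 f) : Homog 𝒩 (LinearMap.range f) := by
  rintro _ ⟨x, rfl⟩ g
  exact ⟨pr ℳ g x, (pr_map ℳ 𝒩 hf g x).symm⟩

lemma exists_preimage (hf : GrLC.IsGrHom ℳ 𝒩 f) {g : ι} {y : N} (hy : y ∈ 𝒩 g) (h : y ∈ LinearMap.range f) :
    ∃ x ∈ ℳ g, f x = y := by
  obtain ⟨x, rfl⟩ := h
  exact ⟨pr ℳ g x, pr_mem ℳ g x, by rw [← pr_map ℳ 𝒩 hf, pr_of_mem 𝒩 hy]⟩

lemma ext_of_homog {f' : M →ₗ[R] N} (h : ∀ g, ∀ x ∈ ℳ g, f x = f' x) : f = f' := by
  refine LinearMap.ext fun x => ?_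
  induction x using DirectSum.Decomposition.inductionOn ℳ with
  | zero => simp
  | @homogeneous j q => exact h j _ q.2
  | add a b ha hb => simp only [map_add, ha, hb]

lemma eq_zero_of_homog (h : ∀ g, ∀ x ∈ ℳ g, f x = 0) : f = 0 := ext_of_homog ℳ fun g x hx => h g x hx

variable {ℳ}

lemma homog_gam (a : HomogeneousIdeal 𝒜) : Homog ℳ (GrLC.gam a.toIdeal M) := by
  intro x hx g
  obtain ⟨N₀, hN⟩ := hx
  refine ⟨N₀, fun r hr => ?_⟩
  have hh : (a.toIdeal ^ N₀).IsHomogeneous 𝒜 := by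
    clear hN hr
    induction N₀ with
    | zero => rw [pow_zero, Ideal.one_eq_top]; exact Ideal.IsHomogeneous.top 𝒜
    | succ m ih => rw [pow_succ]; exact Ideal.IsHomogeneous.mul ih a.isHomogeneous
  rw [← DirectSum.sum_support_decompose 𝒜 r, Finset.sum_smul]
  refine Finset.sum_eq_zero fun e _ => ?_
  have h1 := pr_smul 𝒜 ℳ (DirectSum.decompose 𝒜 r e).2 (g + e) x
  rw [hN _ (hh e hr), map_zero, add_sub_cancel_right] at h1
  exact h1.symm

end Comp

section Gam

variable {M N : Type u} [AddCommGroup M] [Module R M] [AddCommGroup N] [Module R N]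

lemma mem_gam_iff {a : Ideal R} {x : M} : x ∈ GrLC.gam a M ↔ ∃ n : ℕ, ∀ r ∈ a ^ n, r • x = 0 := Iff.rfl

lemma map_mem_gam {a : Ideal R} (f : M →ₗ[R] N) {x : M} (hx : x ∈ GrLC.gam a M) : f x ∈ GrLC.gam a N := by
  obtain ⟨n, hn⟩ := hx
  exact ⟨n, fun r hr => by rw [← map_smul, hn r hr, map_zero]⟩

lemma mem_gam_of_injective {a : Ideal R} {f : M →ₗ[R] N} (hf : Function.Injective f) {x : M}
    (hx : f x ∈ GrLC.gam a N) : x ∈ GrLC.gam a M := by
  obtain ⟨n, hn⟩ := hx
  exact ⟨n, fun r hr => hf (by rw [map_smul, hn r hr, map_zero])⟩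

lemma gam_mono {a b : Ideal R} (h : a ≤ b) : GrLC.gam b M ≤ GrLC.gam a M := fun _ ⟨n, hn⟩ =>
  ⟨n, fun r hr => hn r (Ideal.pow_right_mono h n hr)⟩

end Gam

section Objects

/-- The pieces of a submodule. -/
def subPiece {M : Type u} [AddCommGroup M] [Module R M] (ℳ : ι → AddSubgroup M) (K : Submodule R M) (g : ι) :
    AddSubgroup K := (ℳ g).comap K.subtype.toAddMonoidHom

/-- The pieces of a quotient. -/
def quotPiece {M : Type u} [AddCommGroup M] [Module R M] (ℳ : ι → AddSubgroup M) (K : Submodule R M) (g : ι) :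
    AddSubgroup (M ⧸ K) := (ℳ g).map K.mkQ.toAddMonoidHom

variable {M : Type u} [AddCommGroup M] [Module R M] (ℳ : ι → AddSubgroup M) [DirectSum.Decomposition ℳ]
  [SetLike.GradedSMul 𝒜 ℳ] (K : Submodule R M)

instance subPiece_gradedSMul : SetLike.GradedSMul 𝒜 (subPiece ℳ K) :=
  ⟨fun {_ _ _ m} hr hm => SetLike.GradedSMul.smul_mem (A := 𝒜) (B := ℳ) (bj := (m : M)) hr hm⟩

instance quotPiece_gradedSMul : SetLike.GradedSMul 𝒜 (quotPiece ℳ K) :=
  ⟨fun {_ _ r _} hr hm => by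
    obtain ⟨x, hx, rfl⟩ := hm
    exact ⟨r • x, smul_mem 𝒜 ℳ hr hx, map_smul K.mkQ r x⟩⟩

lemma coe_component_sub (w : ⨁ g, subPiece ℳ K g) (g : ι) :
    pr ℳ g ((DirectSum.coeAddMonoidHom (subPiece ℳ K) w : K) : M) = ((w g : K) : M) := by
  induction w using DirectSum.induction_on with
  | zero => simp
  | of j x =>
    rw [DirectSum.coeAddMonoidHom_of]
    by_cases h : j = g
    · subst h
      rw [pr_of_mem ℳ (show ((x : K) : M) ∈ ℳ j from x.2), DirectSum.of_eq_same]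
    · rw [pr_of_mem_ne ℳ (show ((x : K) : M) ∈ ℳ j from x.2) h, DirectSum.of_eq_of_ne _ _ _ (Ne.symm h)]
      rfl
  | add a b ha hb => simp only [map_add, Submodule.coe_add, DirectSum.add_apply, AddSubgroup.coe_add, ha, hb]

/-- A submodule with homogeneous components is graded. -/
@[instance_reducible]
def subDec (hK : Homog ℳ K) : DirectSum.Decomposition (subPiece ℳ K) := by
  refine DirectSum.IsInternal.chooseDecomposition _ ⟨fun a b h => ?_, fun z => ?_⟩
  · refine DFinsupp.ext fun e => Subtype.ext (Subtype.ext ?_)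
    rw [← coe_component_sub ℳ K a e, ← coe_component_sub ℳ K b e]
    exact congrArg (fun z : K => pr ℳ e (z : M)) h
  · refine ⟨∑ e ∈ (DirectSum.decompose ℳ (z : M)).support, DirectSum.of (fun e => subPiece ℳ K e) e
      ⟨⟨_, hK z.1 z.2 e⟩, pr_mem ℳ e _⟩, Subtype.ext ?_⟩
    rw [map_sum, AddSubmonoidClass.coe_finsetSum]
    simp only [DirectSum.coeAddMonoidHom_of]
    exact sum_pr ℳ (z : M)

/-- A quotient by a submodule with homogeneous components is graded. -/
@[instance_reducible]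
def quotDec (hK : Homog ℳ K) : DirectSum.Decomposition (quotPiece ℳ K) := by
  let T : ∀ e, ℳ e →+ quotPiece ℳ K e := fun e =>
    (K.mkQ.toAddMonoidHom.comp (ℳ e).subtype).codRestrict (quotPiece ℳ K e) fun x => ⟨x, x.2, rfl⟩
  let A : M →+ ⨁ e, quotPiece ℳ K e := (DirectSum.map T).comp (DirectSum.decomposeAddEquiv ℳ).toAddMonoidHom
  have hA : ∀ x e, ((A x e : quotPiece ℳ K e) : M ⧸ K) = Submodule.Quotient.mk (pr ℳ e x) := fun x e => by
    simp [A, T, DirectSum.map_apply, pr]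
  have hcoe : ∀ x, DirectSum.coeAddMonoidHom (quotPiece ℳ K) (A x) = Submodule.Quotient.mk x := by
    intro x
    induction x using DirectSum.Decomposition.inductionOn ℳ with
    | zero => simp
    | @homogeneous j q => simp [A, T, DirectSum.map_of]
    | add a b ha hb => rw [map_add, map_add, ha, hb]; rfl
  have hsurj : Function.Surjective A := fun w => by
    induction w using DirectSum.induction_on with
    | zero => exact ⟨0, map_zero _⟩
    | of e y =>
      obtain ⟨_, x, hx, rfl⟩ := y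
      refine ⟨x, ?_⟩
      simp only [A, AddMonoidHom.comp_apply, AddEquiv.coe_toAddMonoidHom, DirectSum.decomposeAddEquiv_apply,
        DirectSum.decompose_of_mem ℳ hx, DirectSum.map_of]
      rfl
    | add a b ha hb =>
      obtain ⟨x, rfl⟩ := ha
      obtain ⟨y, rfl⟩ := hb
      exact ⟨x + y, map_add _ _ _⟩
  refine DirectSum.IsInternal.chooseDecomposition _ ⟨fun a b h => ?_, fun z => ?_⟩
  · obtain ⟨x, rfl⟩ := hsurj a
    obtain ⟨y, rfl⟩ := hsurj b
    have h' : Submodule.Quotient.mk x = (Submodule.Quotient.mk y : M ⧸ K) :=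
      (hcoe x).symm.trans (h.trans (hcoe y))
    refine DFinsupp.ext fun e => Subtype.ext ?_
    rw [hA, hA]
    refine (Submodule.Quotient.eq K).2 ?_
    rw [← map_sub]
    exact hK _ ((Submodule.Quotient.eq K).1 h') e
  · obtain ⟨x, rfl⟩ := Submodule.Quotient.mk_surjective _ z
    exact ⟨A x, hcoe x⟩

/-- The graded submodule as an object. -/
def subObj (hK : Homog ℳ K) : GrLC.GMod.{u} 𝒜 :=
  letI := subDec ℳ K hK
  GrLC.GMod.of 𝒜 K (subPiece ℳ K)

/-- The graded quotient as an object. -/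
def quotObj (hK : Homog ℳ K) : GrLC.GMod.{u} 𝒜 :=
  letI := quotDec ℳ K hK
  GrLC.GMod.of 𝒜 (M ⧸ K) (quotPiece ℳ K)

lemma subtype_grHom : GrLC.IsGrHom (subPiece ℳ K) ℳ K.subtype := fun _ _ hx => hx

lemma mkQ_grHom : GrLC.IsGrHom ℳ (quotPiece ℳ K) K.mkQ := fun _ x hx => ⟨x, hx, rfl⟩

end Objects

end Groth.Agent.GrLCLib
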