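import Groth.Agent.GrLCLib.Basic
import Groth.Agent.S14424

/-!
Dimension of a positively graded *local ring: it is the height of the homogeneous maximal ideal.
-/

set_option autoImplicit false
set_option linter.unusedSectionVars false
universe u

open scoped Classical
open DirectSum

noncomputable section

namespace Groth.Agent.GrLCLib

variable {R : Type u} [CommRing R] (𝒜 : ℤ → AddSubgroup R) [GradedRing 𝒜]

/-- Degrees of the components outside an ideal. -/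
def outDeg (c : Ideal R) (g : R) : Finset ℤ :=
  (DirectSum.decompose 𝒜 g).support.filter fun n => pr 𝒜 n g ∉ c

lemma mem_outDeg {c : Ideal R} {g : R} {n : ℤ} : n ∈ outDeg 𝒜 c g ↔ pr 𝒜 n g ∉ c := by
  rw [outDeg, Finset.mem_filter]
  refine ⟨fun h => h.2, fun h => ⟨?_, h⟩⟩
  by_contra hn
  have h0 : DirectSum.decompose 𝒜 g n = 0 := DFinsupp.notMem_support_iff.1 hn
  exact h (by rw [show pr 𝒜 n g = 0 from congrArg Subtype.val h0]; exact c.zero_mem)

lemma mem_of_outDeg_eq_empty {c : Ideal R} {g : R} (h : outDeg 𝒜 c g = ∅) : g ∈ c :=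
  mem_of_pr_mem 𝒜 fun n => by_contra fun hn => by simpa [h] using (mem_outDeg 𝒜).2 hn

/-- The width. -/
def width (c : Ideal R) (g : R) : ℕ :=
  if h : (outDeg 𝒜 c g).Nonempty then ((outDeg 𝒜 c g).max' h - (outDeg 𝒜 c g).min' h).toNat else 0

lemma pr_mul {e : ℤ} {a : R} (ha : a ∈ 𝒜 e) (n : ℤ) (g : R) : pr 𝒜 n (a * g) = a * pr 𝒜 (n - e) g :=
  pr_smul 𝒜 𝒜 ha n g

theorem exists_homog_mul_sub_mem {P c : Ideal R} [P.IsPrime] [c.IsPrime] (hcP : c ≤ P)
    (hcore : ∀ n, ∀ a ∈ 𝒜 n, a ∈ P → a ∈ c) {f : R} (hfP : f ∈ P) (hf : (outDeg 𝒜 c f).Nonempty)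
    (hmin : ∀ g ∈ P, g ∉ c → width 𝒜 c f ≤ width 𝒜 c g) :
    ∀ (w : ℕ) (g : R), g ∈ P → width 𝒜 c g ≤ w → ∃ a q : R, a ∉ P ∧ a * g - q * f ∈ c := by
  intro w
  induction w using Nat.strong_induction_on with
  | h w ih =>
    intro g hgP hgw
    by_cases hgc : g ∈ c
    · exact ⟨1, 0, fun h => Ideal.IsPrime.ne_top ‹_› ((Ideal.eq_top_iff_one P).2 h), by rwa [one_mul, zero_mul, sub_zero]⟩
    have hg : (outDeg 𝒜 c g).Nonempty := Finset.nonempty_iff_ne_empty.2 fun h => hgc (mem_of_outDeg_eq_empty 𝒜 h)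
    set df := (outDeg 𝒜 c f).max' hf
    set dg := (outDeg 𝒜 c g).max' hg
    have hwf : width 𝒜 c f = (df - (outDeg 𝒜 c f).min' hf).toNat := dif_pos hf
    have hwg : width 𝒜 c g = (dg - (outDeg 𝒜 c g).min' hg).toNat := dif_pos hg
    have hle := hmin g hgP hgc
    have hmf := Finset.min'_le _ _ (Finset.max'_mem _ hf)
    have hmg := Finset.min'_le _ _ (Finset.max'_mem _ hg)
    set a := pr 𝒜 df f
    set b := pr 𝒜 dg g
    have hac : a ∉ c := (mem_outDeg 𝒜).1 (Finset.max'_mem _ hf)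
    have haP : a ∉ P := fun h => hac (hcore _ a (pr_mem 𝒜 _ _) h)
    let g' := a * g - b * f
    have hg'P : g' ∈ P := P.sub_mem (P.mul_mem_left _ hgP) (P.mul_mem_left _ hfP)
    have hrange : ∀ n ∈ outDeg 𝒜 c g', (outDeg 𝒜 c g).min' hg + df ≤ n ∧ n < df + dg := by
      intro n hn
      rw [mem_outDeg, map_sub, pr_mul 𝒜 (pr_mem 𝒜 _ _), pr_mul 𝒜 (pr_mem 𝒜 _ _)] at hn
      have hne : n ≠ df + dg := by
        rintro rfl
        rw [add_sub_cancel_left, add_sub_cancel_right] at hn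
        exact hn (by rw [mul_comm, sub_self]; exact c.zero_mem)
      by_cases h1 : n - df ∈ outDeg 𝒜 c g
      · have h2 := Finset.le_max' _ _ h1
        have h3 := Finset.min'_le _ _ h1
        omega
      · have h1' : pr 𝒜 (n - df) g ∈ c := not_not.1 fun h => h1 ((mem_outDeg 𝒜).2 h)
        have h4 : n - dg ∈ outDeg 𝒜 c f := (mem_outDeg 𝒜).2 fun h => hn (c.sub_mem (c.mul_mem_left _ h1') (c.mul_mem_left _ h))
        have h2 := Finset.le_max' _ _ h4
        have h3 := Finset.min'_le _ _ h4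
        omega
    by_cases hg'c : g' ∈ c
    · exact ⟨a, b, haP, hg'c⟩
    have hg' : (outDeg 𝒜 c g').Nonempty := Finset.nonempty_iff_ne_empty.2 fun h => hg'c (mem_of_outDeg_eq_empty 𝒜 h)
    have hlt : width 𝒜 c g' < w := by
      have h5 := hrange _ (Finset.max'_mem _ hg')
      have h6 := hrange _ (Finset.min'_mem _ hg')
      have h7 := Finset.min'_le _ _ (Finset.max'_mem _ hg')
      rw [width, dif_pos hg']
      omega
    obtain ⟨a', q', ha', hq'⟩ := ih _ hlt g' hg'P le_rfl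
    refine ⟨a' * a, a' * b + q', fun h => (Ideal.IsPrime.mem_or_mem ‹_› h).elim ha' haP, ?_⟩
    rw [show a' * a * g - (a' * b + q') * f = a' * (a * g - b * f) - q' * f by ring]
    exact hq'

variable [IsNoetherianRing R]

theorem height_map_core_le_one {P c : Ideal R} [P.IsPrime] [c.IsPrime] (hcP : c ≤ P)
    (hcore : ∀ n, ∀ a ∈ 𝒜 n, a ∈ P → a ∈ c) : (P.map (Ideal.Quotient.mk c)).height ≤ 1 := by
  have hker : RingHom.ker (Ideal.Quotient.mk c) ≤ P := by rwa [Ideal.mk_ker]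
  haveI hP' := Ideal.map_isPrime_of_surjective Ideal.Quotient.mk_surjective hker
  by_cases hne : ∃ g ∈ P, g ∉ c
  · let S : Set ℕ := {w | ∃ g ∈ P, g ∉ c ∧ width 𝒜 c g = w}
    obtain ⟨g0, hg0, hg0'⟩ := hne
    obtain ⟨f, hfP, hfc, hfw⟩ : sInf S ∈ S := Nat.sInf_mem ⟨_, g0, hg0, hg0', rfl⟩
    have hf : (outDeg 𝒜 c f).Nonempty := Finset.nonempty_iff_ne_empty.2 fun h => hfc (mem_of_outDeg_eq_empty 𝒜 h)
    have hmin : ∀ g ∈ P, g ∉ c → width 𝒜 c f ≤ width 𝒜 c g := fun g hg hgc =>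
      hfw ▸ Nat.sInf_le ⟨g, hg, hgc, rfl⟩
    refine Ideal.height_le_one_of_isPrincipal_of_mem_minimalPrimes (Ideal.span {Ideal.Quotient.mk c f}) _
      ⟨⟨hP', (Ideal.span_singleton_le_iff_mem _).2 (Ideal.mem_map_of_mem _ hfP)⟩, ?_⟩
    rintro J ⟨hJ, hfJ⟩ hJP x hx
    obtain ⟨g, rfl⟩ := Ideal.Quotient.mk_surjective x
    have hgP : g ∈ P := (Ideal.comap_map_of_surjective _ Ideal.Quotient.mk_surjective P).trans
      (sup_eq_left.2 (by rwa [← RingHom.ker_eq_comap_bot])) ▸ (Ideal.mem_comap.2 hx : g ∈ Ideal.comap _ _)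
    obtain ⟨a, q, ha, haq⟩ := exists_homog_mul_sub_mem 𝒜 hcP hcore hfP hf hmin _ g hgP le_rfl
    have h1 : Ideal.Quotient.mk c a * Ideal.Quotient.mk c g ∈ J := by
      rw [← map_mul, Ideal.Quotient.eq.2 haq, map_mul]
      exact J.mul_mem_left _ ((Ideal.span_singleton_le_iff_mem _).1 hfJ)
    refine (hJ.mem_or_mem h1).resolve_left fun h => ha ?_
    exact (Ideal.comap_map_of_surjective _ Ideal.Quotient.mk_surjective P).trans
      (sup_eq_left.2 (by rwa [← RingHom.ker_eq_comap_bot])) ▸ (Ideal.mem_comap.2 (hJP h) : a ∈ Ideal.comap _ _)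
  · push Not at hne
    obtain rfl : P = c := le_antisymm hne hcP
    rw [Ideal.map_quotient_self, Ideal.height_bot]
    exact zero_le_one

omit [IsNoetherianRing R] in
lemma core_isPrime {P : Ideal R} (hP : P.IsPrime) : (Ideal.homogeneousCore 𝒜 P).toIdeal.IsPrime :=
  hP.homogeneousCore

theorem height_le_core_height_add_one : ∀ (n : ℕ) (P : Ideal R) [P.IsPrime], P.height ≤ n →
    P.height ≤ (Ideal.homogeneousCore 𝒜 P).toIdeal.height + 1 := by
  intro n
  induction n with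
  | zero => intro P _ h; exact le_trans h (by simp)
  | succ n ih =>
    intro P _ hn
    haveI hc := core_isPrime 𝒜 (P := P) ‹_›
    set c := (Ideal.homogeneousCore 𝒜 P).toIdeal
    have hcP : c ≤ P := Ideal.toIdeal_homogeneousCore_le 𝒜 P
    have hcore : ∀ n, ∀ a ∈ 𝒜 n, a ∈ P → a ∈ c := fun n a ha haP =>
      Ideal.mem_homogeneousCore_of_homogeneous_of_mem ⟨n, ha⟩ haP
    have hclt : c.height < ⊤ := (Ideal.height_mono hcP).trans_lt (hn.trans_lt (ENat.natCast_lt_top _))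
    obtain ⟨k, hk⟩ := ENat.ne_top_iff_exists.1 hclt.ne
    rw [← hk]
    refine (Ideal.height_le_iff (n := k + 1)).2 fun Q hQ hQP => ?_
    have hQn : Q.height ≤ n := by
      have h1 := (Ideal.height_add_one_le_of_lt_of_isPrime hQP).trans hn
      rw [Nat.cast_succ] at h1
      exact (WithTop.add_le_add_iff_right ENat.one_ne_top).1 h1
    haveI hd := core_isPrime 𝒜 (P := Q) hQ
    set d := (Ideal.homogeneousCore 𝒜 Q).toIdeal
    have hdc : d ≤ c := Ideal.homogeneousCore_mono 𝒜 hQP.le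
    rcases lt_or_eq_of_le hdc with hlt | heq
    · have h1 := Ideal.height_add_one_le_of_lt_of_isPrime hlt
      calc Q.height ≤ d.height + 1 := ih Q hQn
        _ ≤ c.height := h1
        _ = (k : ℕ∞) := hk.symm
        _ < ((k + 1 : ℕ) : ℕ∞) := by exact_mod_cast Nat.lt_succ_self k
    · have hcQ : c ≤ Q := heq ▸ Ideal.toIdeal_homogeneousCore_le 𝒜 Q
      rcases lt_or_eq_of_le hcQ with hlt | heq'
      · exfalso
        have hkc : RingHom.ker (Ideal.Quotient.mk c) = c := Ideal.mk_ker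
        haveI hP' := Ideal.map_isPrime_of_surjective (f := Ideal.Quotient.mk c) Ideal.Quotient.mk_surjective (hkc.trans_le hcP)
        haveI hQ' := Ideal.map_isPrime_of_surjective (f := Ideal.Quotient.mk c) Ideal.Quotient.mk_surjective (hkc.trans_le hcQ)
        have hcm : ∀ J : Ideal R, c ≤ J → (J.map (Ideal.Quotient.mk c)).comap (Ideal.Quotient.mk c) = J := fun J hJ => by
          rw [Ideal.comap_map_of_surjective _ Ideal.Quotient.mk_surjective, ← RingHom.ker_eq_comap_bot, hkc, sup_eq_left.2 hJ]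
        have h1 : Q.map (Ideal.Quotient.mk c) < P.map (Ideal.Quotient.mk c) :=
          lt_of_le_of_ne (Ideal.map_mono hQP.le) fun h => hQP.ne (by rw [← hcm Q hcQ, h, hcm P hcP])
        have h2 : (⊥ : Ideal (R ⧸ c)) < Q.map (Ideal.Quotient.mk c) :=
          bot_lt_iff_ne_bot.2 fun h => hlt.ne (by rw [← hcm Q hcQ, h, ← RingHom.ker_eq_comap_bot, hkc])
        have h3 := Ideal.height_add_one_le_of_lt_of_isPrime h1
        have h4 := Ideal.height_add_one_le_of_lt_of_isPrime h2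
        rw [Ideal.height_bot, zero_add] at h4
        have h5 := ((add_le_add_left h4 1).trans h3).trans (height_map_core_le_one 𝒜 hcP hcore)
        norm_num at h5
      · rw [← heq', ← hk]
        exact_mod_cast Nat.lt_succ_self k

variable {𝒜} {m : HomogeneousIdeal 𝒜}

lemma isStarLocal_ne_top (hm : GrLC.IsStarLocal 𝒜 m) : m.toIdeal ≠ ⊤ :=
  fun h => hm.1.1 (HomogeneousIdeal.toIdeal_injective (h.trans HomogeneousIdeal.toIdeal_top.symm))

lemma le_of_isHomogeneous (hm : GrLC.IsStarLocal 𝒜 m) {I : Ideal R} (hI : I.IsHomogeneous 𝒜) (hne : I ≠ ⊤) :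
    I ≤ m.toIdeal := by
  let S : Set (Ideal R) := {J | J.IsHomogeneous 𝒜 ∧ J ≠ ⊤ ∧ I ≤ J}
  obtain ⟨J, ⟨hJ, hJne, hIJ⟩, hJmax⟩ :=
    (wellFounded_gt (α := Ideal R)).has_min S ⟨I, hI, hne, le_rfl⟩
  let J' : HomogeneousIdeal 𝒜 := ⟨J, hJ⟩
  have hco : IsCoatom J' := by
    refine ⟨fun h => hJne ((congrArg HomogeneousIdeal.toIdeal h).trans HomogeneousIdeal.toIdeal_top), fun K hK => ?_⟩
    by_contra hKne
    exact hJmax K.toIdeal ⟨K.isHomogeneous, fun h => hKne ((HomogeneousIdeal.eq_top_iff K).2 h), hIJ.trans hK.le⟩ hK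
  exact hm.2 J' hco ▸ hIJ

omit [IsNoetherianRing R] in
lemma mem_span_pos_pr_zero (hpos : ∀ n : ℤ, n < 0 → 𝒜 n = ⊥) {x : R}
    (hx : x ∈ Ideal.span (⋃ n ∈ Set.Ioi (0 : ℤ), (𝒜 n : Set R))) : pr 𝒜 0 x = 0 := by
  induction hx using Submodule.span_induction with
  | mem y hy =>
    obtain ⟨n, hn, hy⟩ := Set.mem_iUnion₂.1 hy
    exact pr_of_mem_ne 𝒜 hy (Set.mem_Ioi.1 hn).ne'
  | zero => exact map_zero _
  | add a b _ _ ha hb => rw [map_add, ha, hb, add_zero]
  | smul c u _ hu =>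
    induction c using DirectSum.Decomposition.inductionOn 𝒜 with
    | zero => rw [zero_smul, map_zero]
    | @homogeneous i q =>
      rw [pr_smul 𝒜 𝒜 q.2]
      rcases lt_trichotomy i 0 with h | rfl | h
      · rw [show (q : R) = 0 from (hpos i h).le q.2, zero_smul]
      · rw [sub_zero, hu, smul_zero]
      · rename_i hu'
        rw [show pr 𝒜 (0 - i) u = 0 from ((hpos _ (by omega)).le (pr_mem 𝒜 _ u)), smul_zero]
    | add a b ha hb => rw [add_smul, map_add, ha, hb, add_zero]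

lemma mem_of_pos (hpos : ∀ n : ℤ, n < 0 → 𝒜 n = ⊥) (hm : GrLC.IsStarLocal 𝒜 m) {e : ℤ} (he : 0 < e) {r : R}
    (hr : r ∈ 𝒜 e) : r ∈ m.toIdeal := by
  refine le_of_isHomogeneous hm (Ideal.homogeneous_span 𝒜 (⋃ n ∈ Set.Ioi (0 : ℤ), (𝒜 n : Set R)) ?_) ?_
    (Ideal.subset_span (Set.mem_iUnion₂.2 ⟨e, he, hr⟩))
  · intro x hx
    obtain ⟨n, -, hx⟩ := Set.mem_iUnion₂.1 hx
    exact ⟨n, hx⟩
  · intro htop
    have h1 : (1 : R) = 0 := (pr_of_mem 𝒜 (SetLike.one_mem_graded 𝒜)).symm.trans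
      (mem_span_pos_pr_zero hpos (htop ▸ Submodule.mem_top))
    exact isStarLocal_ne_top hm ((Ideal.eq_top_iff_one _).2 (h1 ▸ zero_mem _))

lemma sub_pr_zero_mem (hpos : ∀ n : ℤ, n < 0 → 𝒜 n = ⊥) (hm : GrLC.IsStarLocal 𝒜 m) (x : R) :
    x - pr 𝒜 0 x ∈ m.toIdeal := by
  induction x using DirectSum.Decomposition.inductionOn 𝒜 with
  | zero => simp
  | @homogeneous i q =>
    rcases lt_trichotomy i 0 with h | rfl | h
    · rw [show (q : R) = 0 from (hpos i h).le q.2]; simp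
    · rw [pr_of_mem 𝒜 q.2, sub_self]; exact zero_mem _
    · rw [pr_of_mem_ne 𝒜 q.2 h.ne', sub_zero]; exact mem_of_pos hpos hm h q.2
  | add a b ha hb => rw [map_add, add_sub_add_comm]; exact add_mem ha hb

theorem isMaximal_of_isStarLocal (hpos : ∀ n : ℤ, n < 0 → 𝒜 n = ⊥) (hm : GrLC.IsStarLocal 𝒜 m) :
    m.toIdeal.IsMaximal := by
  refine Ideal.isMaximal_def.2 ⟨isStarLocal_ne_top hm, fun J hJ => ?_⟩
  obtain ⟨x, hxJ, hxm⟩ := SetLike.exists_of_lt hJ
  have h0 : pr 𝒜 0 x ∉ m.toIdeal := fun h => hxm (by simpa using add_mem (sub_pr_zero_mem hpos hm x) h)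
  have h0J : pr 𝒜 0 x ∈ J := by simpa using sub_mem hxJ (hJ.le (sub_pr_zero_mem hpos hm x))
  have hI : (m.toIdeal ⊔ Ideal.span {pr 𝒜 0 x}).IsHomogeneous 𝒜 :=
    m.isHomogeneous.sup (Ideal.homogeneous_span 𝒜 _ fun y hy => ⟨0, by rw [Set.mem_singleton_iff.1 hy]; exact pr_mem 𝒜 0 x⟩)
  have htop : m.toIdeal ⊔ Ideal.span {pr 𝒜 0 x} = ⊤ := by
    by_contra h
    exact h0 (le_of_isHomogeneous hm hI h (Ideal.mem_sup_right (Ideal.mem_span_singleton_self _)))
  exact top_le_iff.1 (htop ▸ sup_le hJ.le ((Ideal.span_singleton_le_iff_mem _).2 h0J))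

theorem ringKrullDim_eq_height (hpos : ∀ n : ℤ, n < 0 → 𝒜 n = ⊥) (hm : GrLC.IsStarLocal 𝒜 m) :
    ringKrullDim R = m.toIdeal.height := by
  haveI hmax := isMaximal_of_isStarLocal hpos hm
  refine le_antisymm ?_ (Ideal.height_le_ringKrullDim_of_ne_top hmax.ne_top)
  haveI : Nontrivial R := nontrivial_of_ne (1 : R) 0 fun h => hmax.ne_top ((Ideal.eq_top_iff_one _).2 (h ▸ zero_mem _))
  rw [← Ideal.sup_isPrime_height_eq_ringKrullDim, WithBot.coe_le_coe]
  refine iSup₂_le fun P hP => ?_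
  haveI hc := core_isPrime 𝒜 hP
  set c := (Ideal.homogeneousCore 𝒜 P).toIdeal
  have hcm : c ≤ m.toIdeal := le_of_isHomogeneous hm (Ideal.homogeneousCore 𝒜 P).isHomogeneous hc.ne_top
  rcases lt_or_eq_of_le hcm with hlt | heq
  · obtain ⟨n, hn⟩ := ENat.ne_top_iff_exists.1 (Ideal.height_ne_top (I := P) hP.ne_top)
    exact (height_le_core_height_add_one 𝒜 n P hn.symm.le).trans (Ideal.height_add_one_le_of_lt_of_isPrime hlt)
  · exact Ideal.height_mono (le_of_eq (hmax.eq_of_le hP.ne_top (heq ▸ Ideal.toIdeal_homogeneousCore_le 𝒜 P)).symm)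

omit [IsNoetherianRing R] in
lemma nonneg_or_eq_zero (hpos : ∀ n : ℤ, n < 0 → 𝒜 n = ⊥) {k : ℤ} {x : R} (hx : x ∈ 𝒜 k) : 0 ≤ k ∨ x = 0 :=
  (le_or_gt 0 k).imp_right fun h => (hpos k h).le hx

omit [IsNoetherianRing R] in
/-- Below the height local cohomology of a Cohen–Macaulay ring vanishes. -/
theorem subsingleton_H_of_lt_height [LocCoh.IsCohenMacaulayRing R] {I : Ideal R} (hI : I ≠ ⊤) {i : ℕ}
    (hi : (i : ℕ∞) < I.height) : Subsingleton (LocCoh.H I i R) := by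
  have h1 := (Groth.Agent.S14424.result R).1 inferInstance I hI
  exact (LocH.le_idealDepth_iff I R (i + 1)).1 (h1 ▸ (by rw [Nat.cast_succ]; exact Order.add_one_le_of_lt hi)) i (by omega)

end Groth.Agent.GrLCLib
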