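import Groth.Agent.GrLCLib.Shift

/-!
The graded Baer criterion; the torsion part of a graded injective is injective.
-/

set_option autoImplicit false
set_option linter.unusedSectionVars false
set_option linter.style.haveILetI false
universe u

open scoped Classical
open DirectSum

noncomputable section

namespace Groth.Agent.GrLCLib

variable {ι : Type} [AddCommGroup ι] [DecidableEq ι]
variable {R : Type u} [CommRing R] {σ : Type u} [SetLike σ R] [AddSubgroupClass σ R] (𝒜 : ι → σ) [GradedRing 𝒜]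

section Smul

variable {M : Type u} [AddCommGroup M] [Module R M] {τ : Type u} [SetLike τ M] [AddSubgroupClass τ M]
  (ℳ : ι → τ) [DirectSum.Decomposition ℳ] [SetLike.GradedSMul 𝒜 ℳ]

lemma pr_smul_left {e : ι} {b : M} (hb : b ∈ ℳ e) (g : ι) (r : R) :
    pr ℳ g (r • b) = pr 𝒜 (g - e) r • b := by
  induction r using DirectSum.Decomposition.inductionOn 𝒜 with
  | zero => simp
  | @homogeneous j q =>
    have hm : (q : R) • b ∈ ℳ (j + e) := smul_mem 𝒜 ℳ q.2 hb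
    by_cases h : j + e = g
    · subst h
      rw [pr_of_mem ℳ hm, add_sub_cancel_right, pr_of_mem 𝒜 q.2]
    · rw [pr_of_mem_ne ℳ hm h, pr_of_mem_ne 𝒜 q.2 (fun h' => h (by rw [h', sub_add_cancel])), zero_smul]
  | add x y hx hy => simp only [add_smul, map_add, hx, hy]

end Smul

/-- The extension property against homogeneous ideals. -/
def IsGrBaer {X : Type u} [AddCommGroup X] [Module R X] {τ : Type u} [SetLike τ X] [AddSubgroupClass τ X]
    (𝒳 : ι → τ) : Prop :=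
  ∀ (I : Submodule R R), Homog 𝒜 I → ∀ (e : ι) (φ : I →ₗ[R] X),
    (∀ (g : ι) (r : I), (r : R) ∈ 𝒜 g → φ r ∈ 𝒳 (g + e)) → ∃ y ∈ 𝒳 e, ∀ r : I, φ r = (r : R) • y

section Criterion

variable {X : Type u} [AddCommGroup X] [Module R X] {τ : Type u} [SetLike τ X] [AddSubgroupClass τ X]
  (𝒳 : ι → τ) [DirectSum.Decomposition 𝒳] [SetLike.GradedSMul 𝒜 𝒳]

theorem isGrBaer_of_isStarInj (hX : GrLC.IsStarInj 𝒜 𝒳) : IsGrBaer 𝒜 𝒳 := by
  intro I hI e φ hφ
  letI := shiftDec (ℳ := 𝒜) (-e)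
  have hpr : ∀ g x, pr (shiftPiece 𝒜 (-e)) g x = pr 𝒜 (g + -e) x := fun g x => by
    induction x using DirectSum.Decomposition.inductionOn 𝒜 with
    | zero => simp
    | @homogeneous j q =>
      by_cases h : j = g + -e
      · subst h
        rw [pr_of_mem 𝒜 q.2, pr_of_mem (shiftPiece 𝒜 (-e)) (mem_shiftPiece.2 q.2)]
      · rw [pr_of_mem_ne 𝒜 q.2 h, pr_of_mem_ne (shiftPiece 𝒜 (-e)) (h := j + e)
          (mem_shiftPiece.2 (by rw [add_neg_cancel_right]; exact q.2)) (fun h' => h (by rw [← h']; simp))]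
    | add u v hu hv => exact (map_add _ _ _).trans ((congrArg₂ (· + ·) hu hv).trans (map_add _ _ _).symm)
  have hI' : Homog (shiftPiece 𝒜 (-e)) I := fun x hx g => by
    rw [hpr]
    exact hI x hx _
  let A := subObj 𝒜 (shiftPiece 𝒜 (-e)) I hI'
  obtain ⟨h, hh, hh'⟩ := hX A (shiftObj 𝒜 𝒜 (-e)) I.subtype (fun g x hx => hx) (Submodule.injective_subtype _) φ
    (fun g x hx => by
      have h1 := hφ (g + -e) x hx
      rwa [neg_add_cancel_right] at h1)
  refine ⟨h (1 : R), hh e (1 : R) (show (1 : R) ∈ 𝒜 (e + -e) by rw [add_neg_cancel]; exact SetLike.one_mem_graded _), fun r => ?_⟩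
  exact (LinearMap.congr_fun hh' r).symm.trans ((congrArg h (mul_one (r : R)).symm).trans (map_smul h (r : R) (1 : R)))

/-- Homogeneous domain and degree-preserving values. -/
def GrPMap {B : GrLC.GMod.{u} 𝒜} (p : B.carrier →ₗ.[R] X) : Prop :=
  Homog B.gr p.domain ∧ ∀ (g : ι) (x : p.domain), (x : B.carrier) ∈ B.gr g → p x ∈ 𝒳 g

theorem isStarInj_of_isGrBaer (hX : IsGrBaer 𝒜 𝒳) : GrLC.IsStarInj 𝒜 𝒳 := by
  intro A B f hf hinj g hg
  let eA : A.carrier ≃ₗ[R] LinearMap.range f := LinearEquiv.ofInjective f hinj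
  let base : B.carrier →ₗ.[R] X := ⟨LinearMap.range f, g ∘ₗ eA.symm.toLinearMap⟩
  have hbase : GrPMap 𝒜 𝒳 base := by
    refine ⟨homog_range A.gr B.gr hf, fun i x hx => ?_⟩
    obtain ⟨a, ha, hax⟩ := exists_preimage A.gr B.gr hf hx x.2
    have : eA.symm x = a := eA.injective (by rw [LinearEquiv.apply_symm_apply]; exact Subtype.ext hax.symm)
    show g (eA.symm x) ∈ _
    rw [this]
    exact hg i a ha
  obtain ⟨m, hbm, hm⟩ := zorn_le_nonempty₀ {p | base ≤ p ∧ GrPMap 𝒜 𝒳 p} (fun c hcs hc y hy => by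
    have hdir : DirectedOn (· ≤ ·) c := hc.directedOn
    refine ⟨LinearPMap.sSup c hdir, ⟨(hcs hy).1.trans (LinearPMap.le_sSup hdir hy), ?_, ?_⟩, fun z hz => LinearPMap.le_sSup hdir hz⟩
    · intro x hx i
      rw [LinearPMap.mem_domain_sSup_iff ⟨y, hy⟩ hdir] at hx ⊢
      obtain ⟨p, hp, hxp⟩ := hx
      exact ⟨p, hp, (hcs hp).2.1 x hxp i⟩
    · intro i x hx
      obtain ⟨p, hp, hxp⟩ := (LinearPMap.mem_domain_sSup_iff ⟨y, hy⟩ hdir).1 x.2
      have h1 := LinearPMap.sSup_apply hdir hp ⟨x.1, hxp⟩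
      rw [Subtype.coe_eta] at h1
      rw [h1]
      exact (hcs hp).2.2 i _ hx) base ⟨le_rfl, hbase⟩
  obtain ⟨⟨-, hmh, hmg⟩, hmax⟩ := hm
  have key : ∀ (e : ι) (b : B.carrier), b ∈ B.gr e → b ∈ m.domain := by
    intro e b hb
    let I : Submodule R R := m.domain.comap (LinearMap.toSpanSingleton R B.carrier b)
    have hI : Homog 𝒜 I := fun r hr i => by
      have h1 := hmh _ hr (i + e)
      rw [LinearMap.toSpanSingleton_apply, pr_smul_left 𝒜 B.gr hb, add_sub_cancel_right] at h1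
      exact h1
    let φ : I →ₗ[R] X := m.toFun ∘ₗ ((LinearMap.toSpanSingleton R B.carrier b).restrict (fun r (hr : r ∈ I) => hr))
    obtain ⟨y, hy, hyφ⟩ := hX I hI e φ (fun i r hr => hmg _ _ (smul_mem 𝒜 B.gr hr hb))
    have H : ∀ c : R, c • b = 0 → c • y = 0 := fun c hc => by
      have hc' : c ∈ I := by
        show c • b ∈ m.domain
        rw [hc]
        exact Submodule.zero_mem _
      rw [← hyφ ⟨c, hc'⟩]
      exact (congrArg m (show (⟨c • b, hc'⟩ : m.domain) = 0 from Subtype.ext hc)).trans m.map_zero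
    let q : B.carrier →ₗ.[R] X := LinearPMap.mkSpanSingleton' b y H
    have hq : ∀ (c : R) (h : c • b ∈ q.domain), q ⟨c • b, h⟩ = c • y := fun c h =>
      LinearPMap.mkSpanSingleton'_apply b y H c h
    have hagree : ∀ (x : m.domain) (z : q.domain), (x : B.carrier) = z → m x = q z := by
      rintro ⟨x, hx⟩ ⟨z, hz⟩ (rfl : x = z)
      obtain ⟨c, rfl⟩ := Submodule.mem_span_singleton.1 hz
      rw [hq, ← hyφ ⟨c, hx⟩]
      rfl
    let m' := m.sup q hagree
    have hm' : GrPMap 𝒜 𝒳 m' := by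
      refine ⟨fun x hx i => ?_, fun i x hx => ?_⟩
      · obtain ⟨x1, hx1, z, hz, rfl⟩ := Submodule.mem_sup.1 hx
        obtain ⟨c, rfl⟩ := Submodule.mem_span_singleton.1 hz
        rw [map_add, pr_smul_left 𝒜 B.gr hb]
        exact Submodule.add_mem_sup (hmh x1 hx1 i) (Submodule.mem_span_singleton.2 ⟨_, rfl⟩)
      · obtain ⟨x1, hx1, z, hz, hsum⟩ := Submodule.mem_sup.1 x.2
        obtain ⟨c, rfl⟩ := Submodule.mem_span_singleton.1 hz
        have hz' : pr 𝒜 (i - e) c • b ∈ q.domain := Submodule.mem_span_singleton.2 ⟨_, rfl⟩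
        rw [LinearPMap.sup_apply hagree ⟨pr B.gr i x1, hmh x1 hx1 i⟩ ⟨pr 𝒜 (i - e) c • b, hz'⟩ x (by
          show pr B.gr i x1 + pr 𝒜 (i - e) c • b = x.1
          rw [← pr_smul_left 𝒜 B.gr hb, ← map_add, hsum, pr_of_mem B.gr hx]), hq]
        refine add_mem (hmg i _ (pr_mem B.gr i x1)) ?_
        have h1 := smul_mem 𝒜 𝒳 (pr_mem 𝒜 (i - e) c) hy
        rwa [sub_add_cancel] at h1
    have hle : m ≤ m' := LinearPMap.left_le_sup m q hagree
    exact (hmax ⟨hbm.trans hle, hm'⟩ hle).1 (Submodule.mem_sup_right (Submodule.mem_span_singleton_self b))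
  have htop : ∀ b, b ∈ m.domain := fun b => mem_of_pr_mem B.gr fun i => key i _ (pr_mem B.gr i b)
  refine ⟨m.toFun ∘ₗ LinearMap.id.codRestrict m.domain htop, fun i b hb => hmg i _ hb, LinearMap.ext fun a => ?_⟩
  refine (hbm.2 (x := ⟨f a, ⟨a, rfl⟩⟩) (y := ⟨f a, htop (f a)⟩) rfl).symm.trans ?_
  show g (eA.symm ⟨f a, _⟩) = g a
  exact congrArg g (eA.symm_apply_apply a)

end Criterion

section Gam

variable [IsNoetherianRing R] {X : GrLC.GMod.{u} 𝒜} (a : HomogeneousIdeal 𝒜)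

/-- The torsion part as an object. -/
def gamObj (X : GrLC.GMod.{u} 𝒜) : GrLC.GMod.{u} 𝒜 :=
  subObj 𝒜 X.gr (GrLC.gam a.toIdeal X.carrier) (homog_gam 𝒜 a)

theorem isStarInj_gamObj (hX : GrLC.IsStarInj 𝒜 X.gr) : GrLC.IsStarInj 𝒜 (gamObj 𝒜 a X).gr := by
  refine isStarInj_of_isGrBaer 𝒜 _ fun I hI e φ hφ => ?_
  let Γ := GrLC.gam a.toIdeal X.carrier
  let φ' : I →ₗ[R] X.carrier := Γ.subtype ∘ₗ φ
  obtain ⟨s, hs⟩ : (⊤ : Submodule R I).FG := IsNoetherian.noetherian _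
  choose N hN using fun x : I => (φ x).2
  obtain ⟨c, hc⟩ : ∃ c : ℕ, ∀ r ∈ a.toIdeal ^ c, ∀ x : I, r • φ' x = 0 := by
    refine ⟨s.sup N, fun r hr x => ?_⟩
    have hx : x ∈ Submodule.span R (s : Set I) := hs ▸ Submodule.mem_top
    induction hx using Submodule.span_induction with
    | mem y hy => exact hN y r (Ideal.pow_le_pow_right (Finset.le_sup (f := N) hy) hr)
    | zero => simp
    | add u v _ _ hu hv => rw [map_add, smul_add, hu, hv, add_zero]
    | smul t u _ hu => rw [map_smul, smul_comm, hu, smul_zero]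
  obtain ⟨k, hk⟩ := a.toIdeal.exists_pow_inf_eq_pow_smul (M := R) I
  let J : Submodule R R := a.toIdeal ^ (c + k)
  let p : R →ₗ.[R] X.carrier := ⟨I, φ'⟩
  let q : R →ₗ.[R] X.carrier := ⟨J, 0⟩
  have hvan : ∀ (x : R) (hx : x ∈ I), x ∈ J → φ' ⟨x, hx⟩ = 0 := by
    intro x hx hxJ
    have h1 : x ∈ a.toIdeal ^ c • (a.toIdeal ^ k • (⊤ : Submodule R R) ⊓ I) := by
      have h2 := hk (c + k) (Nat.le_add_left k c)
      rw [Nat.add_sub_cancel] at h2
      rw [← h2]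
      refine ⟨?_, hx⟩
      rw [← mul_one x, ← smul_eq_mul]
      exact Submodule.smul_mem_smul hxJ Submodule.mem_top
    have h3 : x ∈ a.toIdeal ^ c • I := Submodule.smul_mono le_rfl inf_le_right h1
    have h4 : ∀ z ∈ a.toIdeal ^ c • I, ∀ hz : z ∈ I, φ' ⟨z, hz⟩ = 0 := by
      intro z hz
      refine (Submodule.smul_induction_on (p := fun z => ∃ hz : z ∈ I, φ' ⟨z, hz⟩ = 0) hz
        (fun r hr w hw => ⟨I.smul_mem r hw, (map_smul φ' r ⟨w, hw⟩).trans (hc r hr _)⟩) ?_).elim fun _ h _ => h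
      rintro u v ⟨hu, ihu⟩ ⟨hv, ihv⟩
      exact ⟨I.add_mem hu hv, (map_add φ' ⟨u, hu⟩ ⟨v, hv⟩).trans (by rw [ihu, ihv, add_zero])⟩
    exact h4 x h3 hx
  have hagree : ∀ (x : p.domain) (z : q.domain), (x : R) = z → p x = q z := by
    rintro ⟨x, hx⟩ ⟨z, hz⟩ (rfl : x = z)
    exact hvan x hx hz
  have hJ : Homog 𝒜 J := fun x hx g => by
    have hh : (a.toIdeal ^ (c + k)).IsHomogeneous 𝒜 := by
      generalize c + k = t
      induction t with
      | zero => rw [pow_zero, Ideal.one_eq_top]; exact Ideal.IsHomogeneous.top 𝒜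
      | succ t ih => rw [pow_succ]; exact Ideal.IsHomogeneous.mul ih a.isHomogeneous
    exact hh g hx
  obtain ⟨y, hy, hyψ⟩ := isGrBaer_of_isStarInj 𝒜 X.gr hX (I ⊔ J) (fun x hx g => by
      obtain ⟨x1, hx1, z, hz, rfl⟩ := Submodule.mem_sup.1 hx
      rw [map_add]
      exact Submodule.add_mem_sup (hI x1 hx1 g) (hJ z hz g)) e (p.sup q hagree).toFun (fun g x hx => by
      obtain ⟨x1, hx1, z, hz, hsum⟩ := Submodule.mem_sup.1 x.2
      have h1 : (p.sup q hagree).toFun x = p ⟨pr 𝒜 g x1, hI x1 hx1 g⟩ + q ⟨pr 𝒜 g z, hJ z hz g⟩ :=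
        LinearPMap.sup_apply hagree _ _ x (by
          show pr 𝒜 g x1 + pr 𝒜 g z = x.1
          rw [← map_add, hsum, pr_of_mem 𝒜 hx])
      exact Eq.subst (motive := fun v => v ∈ X.gr (g + e)) h1.symm (add_mem (hφ g _ (pr_mem 𝒜 g x1)) (zero_mem _)))
  have hyg : y ∈ Γ := by
    refine ⟨c + k, fun r hr => ?_⟩
    rw [← hyψ ⟨r, Submodule.mem_sup_right hr⟩]
    refine (LinearPMap.sup_apply hagree (0 : p.domain) ⟨r, hr⟩ _ (zero_add r)).trans ?_
    rw [p.map_zero, zero_add]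
    rfl
  refine ⟨⟨y, hyg⟩, hy, fun r => Subtype.ext ?_⟩
  refine Eq.trans ?_ (hyψ ⟨r.1, Submodule.mem_sup_left r.2⟩)
  refine Eq.symm ((LinearPMap.sup_apply hagree r (0 : q.domain) _ (add_zero r.1)).trans ?_)
  rw [q.map_zero, add_zero]
  rfl

end Gam

end Groth.Agent.GrLCLib
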