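import Groth.Agent.GrLCLib.Shift
import Groth.Agent.GrLCLib.Baer

/-!
`Ext^i(M, I) = 0` for a finitely generated graded module and a *injective one.
-/

set_option autoImplicit false
set_option linter.unusedSectionVars false
set_option linter.style.haveILetI false
universe u

open scoped Classical
open DirectSum CategoryTheory CategoryTheory.Abelian

noncomputable section

namespace Groth.Agent.GrLCLib

variable {ι : Type} [AddCommGroup ι] [DecidableEq ι]
variable {R : Type u} [CommRing R] (𝒜 : ι → AddSubgroup R) [GradedRing 𝒜]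

/-- Pieces of a free module with generators in given degrees. -/
def freePiece {s : ℕ} (d : Fin s → ι) (g : ι) : AddSubgroup (Fin s → R) where
  carrier := {v | ∀ j, v j ∈ 𝒜 (g - d j)}
  add_mem' hv hw j := add_mem (hv j) (hw j)
  zero_mem' _ := zero_mem _
  neg_mem' hv j := neg_mem (hv j)

instance freePiece_gradedSMul {s : ℕ} (d : Fin s → ι) : SetLike.GradedSMul 𝒜 (freePiece 𝒜 d) :=
  ⟨fun {e g r v} hr hv j => by
    rw [vadd_eq_add, add_sub_assoc]
    exact SetLike.mul_mem_graded hr (hv j)⟩

lemma isInternal_freePiece {s : ℕ} (d : Fin s → ι) : DirectSum.IsInternal (freePiece 𝒜 d) := by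
  have key : ∀ (w : ⨁ g, freePiece 𝒜 d g) (g : ι) (j : Fin s),
      pr 𝒜 (g - d j) ((DirectSum.coeAddMonoidHom (freePiece 𝒜 d) w) j) = (w g : Fin s → R) j := by
    intro w g j
    induction w using DirectSum.induction_on with
    | zero => simp
    | of i v =>
      rw [DirectSum.coeAddMonoidHom_of]
      by_cases h : i = g
      · subst h
        rw [DirectSum.of_eq_same, pr_of_mem 𝒜 (v.2 j)]
      · rw [DirectSum.of_eq_of_ne _ _ _ (Ne.symm h), pr_of_mem_ne 𝒜 (v.2 j) (fun h' => h (sub_left_inj.1 h'))]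
        rfl
    | add a b ha hb => simp only [map_add, DirectSum.add_apply, AddSubgroup.coe_add, Pi.add_apply, ha, hb]
  refine ⟨fun a b h => DFinsupp.ext fun g => Subtype.ext (funext fun j => ?_), fun z => ?_⟩
  · rw [← key a g j, ← key b g j, h]
  · refine ⟨∑ j, ∑ g ∈ (DirectSum.decompose 𝒜 (z j)).support, DirectSum.of (fun g => freePiece 𝒜 d g) (g + d j)
      ⟨Pi.single j (pr 𝒜 g (z j)), fun t => ?_⟩, ?_⟩
    · by_cases h : t = j
      · subst h
        rw [Pi.single_eq_same, add_sub_cancel_right]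
        exact pr_mem 𝒜 g _
      · rw [Pi.single_eq_of_ne h]
        exact zero_mem _
    · rw [map_sum, ← Finset.univ_sum_single z]
      refine Finset.sum_congr rfl fun j _ => ?_
      rw [map_sum, Finset.univ_sum_single]
      simp only [DirectSum.coeAddMonoidHom_of]
      refine Eq.trans ?_ (congrArg (Pi.single j) (sum_pr 𝒜 (z j)))
      exact (map_sum (AddMonoidHom.single (fun _ : Fin s => R) j) _ _).symm

/-- A free graded module. -/
def freeObj {s : ℕ} (d : Fin s → ι) : GrLC.GMod.{u} 𝒜 :=
  letI : DirectSum.Decomposition (freePiece 𝒜 d) := (isInternal_freePiece 𝒜 d).chooseDecomposition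
  GrLC.GMod.of 𝒜 (Fin s → R) (freePiece 𝒜 d)

variable {𝒜}

lemma exists_homog_spanning {M : Type u} [AddCommGroup M] [Module R M] [Module.Finite R M] (ℳ : ι → AddSubgroup M)
    [DirectSum.Decomposition ℳ] :
    ∃ (s : ℕ) (d : Fin s → ι) (y : Fin s → M), (∀ j, y j ∈ ℳ (d j)) ∧ Submodule.span R (Set.range y) = ⊤ := by
  obtain ⟨S, hS⟩ := (Module.Finite.fg_top : (⊤ : Submodule R M).FG)
  let T : Finset (ι × M) := S.biUnion fun z => (DirectSum.decompose ℳ z).support.image fun g => (g, pr ℳ g z)
  let e := T.equivFin.symm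
  refine ⟨T.card, fun j => (e j).1.1, fun j => (e j).1.2, fun j => ?_, eq_top_iff.2 ?_⟩
  · obtain ⟨z, -, hz⟩ := Finset.mem_biUnion.1 (e j).2
    obtain ⟨g, -, hg⟩ := Finset.mem_image.1 hz
    show (e j).1.2 ∈ ℳ (e j).1.1
    rw [← hg]
    exact pr_mem ℳ g z
  · rw [← hS, Submodule.span_le]
    intro z hz
    rw [SetLike.mem_coe, ← sum_pr ℳ z]
    refine Submodule.sum_mem _ fun g hg => Submodule.subset_span ⟨T.equivFin ⟨(g, pr ℳ g z), ?_⟩, by simp [e]⟩
    exact Finset.mem_biUnion.2 ⟨z, hz, Finset.mem_image.2 ⟨g, hg, rfl⟩⟩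

/-- The homogeneous part of degree `δ` of a linear map. -/
lemma exists_degPart (A B : GrLC.GMod.{u} 𝒜) (f : A.carrier →ₗ[R] B.carrier) (δ : ι) :
    ∃ f' : A.carrier →ₗ[R] B.carrier, ∀ g, ∀ x ∈ A.gr g, f' x = pr B.gr (g + δ) (f x) := by
  let T : (⨁ g, A.gr g) →+ B.carrier :=
    DirectSum.toAddMonoid fun g => (pr B.gr (g + δ)).comp (f.toAddMonoidHom.comp (A.gr g).subtype)
  let F : A.carrier →+ B.carrier := T.comp (DirectSum.decomposeAddEquiv A.gr).toAddMonoidHom
  have hF : ∀ g, ∀ x ∈ A.gr g, F x = pr B.gr (g + δ) (f x) := fun g x hx => by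
    simp only [F, T, AddMonoidHom.comp_apply, AddEquiv.coe_toAddMonoidHom, DirectSum.decomposeAddEquiv_apply,
      DirectSum.decompose_of_mem A.gr hx, DirectSum.toAddMonoid_of]
    rfl
  refine ⟨{ toFun := F, map_add' := F.map_add, map_smul' := fun r x => ?_ }, hF⟩
  simp only [RingHom.id_apply]
  induction r using DirectSum.Decomposition.inductionOn 𝒜 with
  | zero => rw [zero_smul, zero_smul, map_zero]
  | @homogeneous e q =>
    induction x using DirectSum.Decomposition.inductionOn A.gr with
    | zero => rw [smul_zero, map_zero, smul_zero]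
    | @homogeneous g y =>
      rw [hF (e + g) _ (smul_mem 𝒜 A.gr q.2 y.2), hF g _ y.2, map_smul, pr_smul 𝒜 B.gr q.2,
        show e + g + δ - e = g + δ by abel]
    | add a b ha hb => rw [smul_add, map_add, ha, hb, map_add, smul_add]
  | add a b ha hb => rw [add_smul, map_add, ha, hb, add_smul]

/-- Linear maps from finitely generated graded submodules to a *injective module extend. -/
theorem exists_extend_linear {F X : GrLC.GMod.{u} 𝒜} (hX : GrLC.IsStarInj 𝒜 X.gr) {K : GrLC.GMod.{u} 𝒜}
    [Module.Finite R K.carrier] (j : K.carrier →ₗ[R] F.carrier) (hj : GrLC.IsGrHom K.gr F.gr j)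
    (hji : Function.Injective j) (f : K.carrier →ₗ[R] X.carrier) :
    ∃ h : F.carrier →ₗ[R] X.carrier, h ∘ₗ j = f := by
  obtain ⟨s, d, y, hy, hys⟩ := exists_homog_spanning (R := R) K.gr
  choose F' hF' using fun δ => exists_degPart K X f δ
  have hdeg : ∀ δ, ∀ g, ∀ x ∈ K.gr g, F' δ x ∈ X.gr (g + δ) := fun δ g x hx => hF' δ g x hx ▸ pr_mem X.gr _ _
  have hext : ∀ δ, ∃ h : F.carrier →ₗ[R] X.carrier, h ∘ₗ j = F' δ := fun δ => by
    obtain ⟨h, -, hh⟩ := hX (shiftObj 𝒜 K.gr (-δ)) (shiftObj 𝒜 F.gr (-δ)) j (fun g x hx => hj _ x hx) hji (F' δ)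
      (fun g x hx => by
        have h1 := hdeg δ (g + -δ) x hx
        rwa [neg_add_cancel_right] at h1)
    exact ⟨h, hh⟩
  choose H hH using hext
  let Δ : Finset ι := Finset.univ.biUnion fun i => (DirectSum.decompose X.gr (f (y i))).support.image fun g => g - d i
  refine ⟨∑ δ ∈ Δ, H δ, LinearMap.ext_on_range hys fun i => ?_⟩
  rw [LinearMap.comp_apply, LinearMap.sum_apply]
  calc ∑ δ ∈ Δ, H δ (j (y i)) = ∑ δ ∈ Δ, pr X.gr (d i + δ) (f (y i)) :=
        Finset.sum_congr rfl fun δ _ => (LinearMap.congr_fun (hH δ) (y i)).trans (hF' δ _ _ (hy i))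
    _ = ∑ δ ∈ (DirectSum.decompose X.gr (f (y i))).support.image (fun g => g - d i), pr X.gr (d i + δ) (f (y i)) := by
        refine (Finset.sum_subset (Finset.subset_biUnion_of_mem _ (Finset.mem_univ i)) fun δ _ hδ => ?_).symm
        by_contra h
        refine hδ (Finset.mem_image.2 ⟨d i + δ, DFinsupp.mem_support_iff.2 fun h0 => h (congrArg Subtype.val h0), ?_⟩)
        abel
    _ = f (y i) := by
        rw [Finset.sum_image fun a _ b _ hab => sub_left_inj.1 hab]
        refine (Finset.sum_congr rfl fun g _ => ?_).trans (sum_pr X.gr (f (y i)))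
        rw [add_sub_cancel]

theorem subsingleton_ext_starInj [IsNoetherianRing R] {X : GrLC.GMod.{u} 𝒜} (hX : GrLC.IsStarInj 𝒜 X.gr) :
    ∀ (i : ℕ) (M : GrLC.GMod.{u} 𝒜) [Module.Finite R M.carrier],
      Subsingleton (Ext.{u} (ModuleCat.of R M.carrier) (ModuleCat.of R X.carrier) (i + 1)) := by
  intro i
  induction i using Nat.strong_induction_on with
  | h i ih =>
    intro M _
    obtain ⟨s, d, y, hy, hys⟩ := exists_homog_spanning (R := R) M.gr
    let F := freeObj 𝒜 d
    let π : F.carrier →ₗ[R] M.carrier := Fintype.linearCombination R y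
    have hπs : Function.Surjective π := by
      rw [← LinearMap.range_eq_top]
      exact (Fintype.range_linearCombination R y).trans hys
    have hπ : GrLC.IsGrHom F.gr M.gr π := fun g v hv => by
      show Fintype.linearCombination R y v ∈ M.gr g
      rw [Fintype.linearCombination_apply]
      refine sum_mem fun j _ => ?_
      have h1 := smul_mem 𝒜 M.gr (hv j) (hy j)
      rwa [sub_add_cancel] at h1
    let K := subObj 𝒜 F.gr (LinearMap.ker π) (homog_ker F.gr M.gr hπ)
    haveI : Module.Finite R F.carrier := inferInstanceAs (Module.Finite R (Fin s → R))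
    haveI : Module.Finite R K.carrier := inferInstanceAs (Module.Finite R (LinearMap.ker π))
    let S : ShortComplex (ModuleCat.{u} R) := ShortComplex.mk (X₁ := ModuleCat.of R (LinearMap.ker π))
      (X₂ := ModuleCat.of R F.carrier) (X₃ := ModuleCat.of R M.carrier)
      (ModuleCat.ofHom (LinearMap.ker π).subtype) (ModuleCat.ofHom π) (by ext x; exact x.2)
    have hS : S.ShortExact :=
      { exact := by
          rw [ShortComplex.moduleCat_exact_iff]
          intro z hz
          exact ⟨⟨z, hz⟩, rfl⟩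
        mono_f := (ModuleCat.mono_iff_injective _).2 (LinearMap.ker π).injective_subtype
        epi_g := (ModuleCat.epi_iff_surjective _).2 hπs }
    haveI : Module.Free R F.carrier := inferInstanceAs (Module.Free R (Fin s → R))
    haveI : Projective S.X₂ := inferInstanceAs (Projective (ModuleCat.of R F.carrier))
    refine subsingleton_of_forall_eq 0 fun e => ?_
    obtain ⟨x₁, rfl⟩ := Ext.contravariant_sequence_exact₃ hS _ e (Ext.eq_zero_of_projective _) (add_comm 1 i)
    cases i with
    | zero =>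
      obtain ⟨f, rfl⟩ := Ext.homEquiv₀.symm.surjective x₁
      obtain ⟨h, hh⟩ := exists_extend_linear hX (K := K) (LinearMap.ker π).subtype (fun _ _ hx => hx)
        (LinearMap.ker π).injective_subtype f.hom
      have hf : Ext.homEquiv₀.symm f = (Ext.mk₀ S.f).comp (Ext.mk₀ (ModuleCat.ofHom h : S.X₂ ⟶ _)) (zero_add 0) := by
        rw [Ext.mk₀_comp_mk₀]
        show Ext.mk₀ f = _
        congr 1
        exact ModuleCat.hom_ext hh.symm
      rw [hf, ShortComplex.ShortExact.extClass_comp_assoc]
    | succ k =>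
      have : Subsingleton (Ext.{u} S.X₁ (ModuleCat.of R X.carrier) (k + 1)) := ih k (Nat.lt_succ_self k) K
      rw [Subsingleton.elim x₁ 0, Ext.comp_zero]

end Groth.Agent.GrLCLib
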