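import Groth.Agent.GrLCLib.Cohom

/-!
From the pieces to the whole cohomology module.
-/

set_option autoImplicit false
set_option linter.unusedSectionVars false
universe u

open scoped Classical
open DirectSum

noncomputable section

namespace Groth.Agent.GrLCLib

variable {ι : Type} [AddCommGroup ι] [DecidableEq ι]
variable {R : Type u} [CommRing R] {σ : Type u} [SetLike σ R] [AddSubgroupClass σ R] {𝒜 : ι → σ} [GradedRing 𝒜]
variable {M : Type u} [AddCommGroup M] [Module R M] {τ : Type u} [SetLike τ M] [AddSubgroupClass τ M]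
  {ℳ : ι → τ} [DirectSum.Decomposition ℳ] [SetLike.GradedSMul 𝒜 ℳ]

lemma subsingleton_H_of_van (E : GrLC.StarInjRes 𝒜 ℳ) (a : HomogeneousIdeal 𝒜) (i : ℕ) (h : ∀ g, Van E a i g) :
    Subsingleton (E.H a i) := by
  refine Submodule.Quotient.subsingleton_iff.2 (Submodule.comap_subtype_eq_top.2 fun z hz => ?_)
  exact mem_of_pr_mem (E.X i).gr fun g => h g _ (pr_mem (E.X i).gr g z) (homog_cocyc E a i z hz g)

end Groth.Agent.GrLCLib
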