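import Groth.Agent.GrLCLib.Acyclic
import Groth.Agent.GrLCLib.Total

/-!
Graded local cohomology is local cohomology.
-/

set_option autoImplicit false
set_option linter.unusedSectionVars false
set_option linter.style.haveILetI false
universe u

open scoped Classical
open DirectSum CategoryTheory

noncomputable section

namespace Groth.Agent.GrLCLib

variable {ι : Type} [AddCommGroup ι] [DecidableEq ι]
variable {R : Type u} [CommRing R] [IsNoetherianRing R] {σ : Type u} [SetLike σ R] [AddSubgroupClass σ R] {𝒜 : ι → σ}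
  [GradedRing 𝒜]
variable {M : Type u} [AddCommGroup M] [Module R M] {τ : Type u} [SetLike τ M] [AddSubgroupClass τ M]
  {ℳ : ι → τ} [DirectSum.Decomposition ℳ] [SetLike.GradedSMul 𝒜 ℳ]
variable (E : GrLC.StarInjRes 𝒜 ℳ) (a : HomogeneousIdeal 𝒜)

/-- The cycles. -/
abbrev cyc (j : ℕ) : ModuleCat.{u} R := ModuleCat.of R ↥(LinearMap.ker (E.d j))

/-- The corestricted differential. -/
def toCyc (j : ℕ) : (E.X j).carrier →ₗ[R] ↥(LinearMap.ker (E.d (j + 1))) :=
  (E.d j).codRestrict _ fun x => d_d E j x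

/-- One step of the resolution. -/
def stepSES (j : ℕ) : ShortComplex (ModuleCat.{u} R) :=
  ShortComplex.mk (X₁ := cyc E j) (X₂ := ModuleCat.of R (E.X j).carrier) (X₃ := cyc E (j + 1))
    (ModuleCat.ofHom (LinearMap.ker (E.d j)).subtype) (ModuleCat.ofHom (toCyc E j))
    (by ext x; exact x.2)

lemma stepSES_shortExact (j : ℕ) : (stepSES E j).ShortExact :=
  { exact := by
      rw [ShortComplex.moduleCat_exact_iff]
      intro y hy
      exact ⟨⟨y, congrArg Subtype.val hy⟩, rfl⟩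
    mono_f := (ModuleCat.mono_iff_injective _).2 (LinearMap.ker (E.d j)).injective_subtype
    epi_g := (ModuleCat.epi_iff_surjective _).2 fun (y : ↥(LinearMap.ker (E.d (j + 1)))) => by
      have hy : (y : (E.X (j + 1)).carrier) ∈ LinearMap.range (E.d j) := by rw [← E.exact_succ j]; exact y.2
      obtain ⟨x, hx⟩ := hy
      exact ⟨x, Subtype.ext hx⟩ }

theorem H_succ_equiv_base (j : ℕ) :
    Nonempty (E.H a (j + 1) ≃ₗ[R] ↑((localCohomology a.toIdeal 1).obj (cyc E j))) := by
  have hS := stepSES_shortExact E j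
  let e3 := ((LocH.zeroIso a.toIdeal).app (cyc E (j + 1))).toLinearEquiv
  let e2 := ((LocH.zeroIso a.toIdeal).app (ModuleCat.of R (E.X j).carrier)).toLinearEquiv
  let f0 : ↥(E.cocyc a (j + 1)) →ₗ[R] ↥(LinearMap.ker (E.d (j + 1))) :=
    LinearMap.codRestrict _ (E.cocyc a (j + 1)).subtype fun z => z.2.2
  have hf0 : ∀ z, f0 z ∈ DRing.torsionSub a.toIdeal ↥(LinearMap.ker (E.d (j + 1))) := fun z =>
    mem_gam_of_injective (f := (LinearMap.ker (E.d (j + 1))).subtype) (Submodule.injective_subtype _) z.2.1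
  let F : ↥(E.cocyc a (j + 1)) →ₗ[R] ↑((DRing.gammaI a.toIdeal).obj (cyc E (j + 1))) := f0.codRestrict _ hf0
  let Φ : ↥(E.cocyc a (j + 1)) →ₗ[R] ↑((localCohomology a.toIdeal 1).obj (cyc E j)) :=
    LocH.delta hS 0 ∘ₗ e3.symm.toLinearMap ∘ₗ F
  have hX : Subsingleton ↑((localCohomology a.toIdeal 1).obj (ModuleCat.of R (E.X j).carrier)) :=
    subsingleton_localCohomology_starInj 𝒜 a (E.starInj j) 0
  have hnat : ∀ u, e3 ((localCohomology a.toIdeal 0).map (stepSES E j).g u) =
      (DRing.gammaI a.toIdeal).map (stepSES E j).g (e2 u) := fun u =>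
    congrArg (fun φ => φ.hom u) ((LocH.zeroIso a.toIdeal).hom.naturality (stepSES E j).g)
  have hsurj : Function.Surjective Φ := by
    intro y
    obtain ⟨w, hw⟩ := LocH.exact₁ hS 0 (x := y) (@Subsingleton.elim _ hX _ _)
    let t := e3 w
    have ht : ((t.1 : ↥(LinearMap.ker (E.d (j + 1)))) : (E.X (j + 1)).carrier) ∈ E.cocyc a (j + 1) :=
      ⟨map_mem_gam (LinearMap.ker (E.d (j + 1))).subtype t.2, t.1.2⟩
    refine ⟨⟨_, ht⟩, ?_⟩
    show LocH.delta hS 0 (e3.symm (F ⟨_, ht⟩)) = y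
    rw [show F ⟨_, ht⟩ = e3 w from Subtype.ext (Subtype.ext rfl), LinearEquiv.symm_apply_apply]
    exact hw
  have hker : LinearMap.ker Φ = (E.cobdy a (j + 1)).comap (E.cocyc a (j + 1)).subtype := by
    ext z
    rw [LinearMap.mem_ker, Submodule.mem_comap]
    constructor
    · intro hz
      obtain ⟨y, hy⟩ := LocH.exact₃ hS 0 (x := e3.symm (F z)) hz
      have h1 : e3 (e3.symm (F z)) = (DRing.gammaI a.toIdeal).map (stepSES E j).g (e2 y) := by rw [← hnat, hy]
      rw [LinearEquiv.apply_symm_apply] at h1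
      exact ⟨(e2 y).1, (e2 y).2, (congrArg (fun t => (t.1.1 : (E.X (j + 1)).carrier)) h1).symm⟩
    · rintro ⟨w, hw, hwz⟩
      let t : ↑((DRing.gammaI a.toIdeal).obj (ModuleCat.of R (E.X j).carrier)) := ⟨w, hw⟩
      have h1 : e3.symm (F z) = (localCohomology a.toIdeal 0).map (stepSES E j).g (e2.symm t) := by
        refine e3.injective ?_
        rw [LinearEquiv.apply_symm_apply, hnat, LinearEquiv.apply_symm_apply]
        exact Subtype.ext (Subtype.ext hwz.symm)
      show LocH.delta hS 0 (e3.symm (F z)) = 0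
      rw [h1]
      exact LocH.delta_map hS 0 _
  exact ⟨(Submodule.quotEquivOfEq _ _ hker.symm) ≪≫ₗ LinearMap.quotKerEquivOfSurjective Φ hsurj⟩

theorem H_succ_equiv_cyc : ∀ q j : ℕ,
    Nonempty (E.H a (j + q + 1) ≃ₗ[R] ↑((localCohomology a.toIdeal (q + 1)).obj (cyc E j))) := by
  intro q
  induction q with
  | zero => intro j; exact H_succ_equiv_base E a j
  | succ q ih =>
    intro j
    rw [show j + (q + 1) = j + 1 + q by omega]
    obtain ⟨e⟩ := ih (j + 1)
    have hS := stepSES_shortExact E j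
    have h1 : Subsingleton ↑((localCohomology a.toIdeal (q + 1)).obj (ModuleCat.of R (E.X j).carrier)) :=
      subsingleton_localCohomology_starInj 𝒜 a (E.starInj j) q
    have h2 : Subsingleton ↑((localCohomology a.toIdeal (q + 1 + 1)).obj (ModuleCat.of R (E.X j).carrier)) :=
      subsingleton_localCohomology_starInj 𝒜 a (E.starInj j) (q + 1)
    refine ⟨e ≪≫ₗ LinearEquiv.ofBijective (LocH.delta hS (q + 1)) ⟨(injective_iff_map_eq_zero _).2 fun x hx => ?_, fun y => ?_⟩⟩
    · obtain ⟨y, rfl⟩ := LocH.exact₃ hS (q + 1) hx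
      exact (congrArg _ (@Subsingleton.elim _ h1 y 0)).trans (map_zero _)
    · exact LocH.exact₁ hS (q + 1) (@Subsingleton.elim _ h2 _ _)

theorem H_zero_equiv : Nonempty (E.H a 0 ≃ₗ[R] LocCoh.H a.toIdeal 0 M) := by
  let g0 : ↥(DRing.torsionSub a.toIdeal M) →ₗ[R] ↥(E.cocyc a 0) :=
    LinearMap.codRestrict _ (E.ε ∘ₗ (DRing.torsionSub a.toIdeal M).subtype)
      fun m => ⟨map_mem_gam E.ε m.2, d_ε E m.1⟩
  have hb : Function.Bijective ((E.toH a 0) ∘ₗ g0) := by
    refine ⟨(injective_iff_map_eq_zero _).2 fun m hm => Subtype.ext ?_, fun y => ?_⟩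
    · have h1 := (Submodule.Quotient.mk_eq_zero _).1 hm
      exact E.ε_injective (((Submodule.mem_bot R).1 h1).trans (map_zero E.ε).symm)
    · obtain ⟨z, rfl⟩ := Submodule.mkQ_surjective _ y
      obtain ⟨m, hm⟩ : (z : (E.X 0).carrier) ∈ LinearMap.range E.ε := by rw [← E.exact_zero]; exact z.2.2
      exact ⟨⟨m, mem_gam_of_injective E.ε_injective (hm ▸ z.2.1)⟩, congrArg (E.toH a 0) (Subtype.ext hm)⟩
  exact ⟨(LinearEquiv.ofBijective _ hb).symm ≪≫ₗ ((LocH.zeroIso a.toIdeal).app (ModuleCat.of R M)).toLinearEquiv.symm⟩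

/-- The cycles in degree zero are the module. -/
def cycZeroEquiv : M ≃ₗ[R] ↥(LinearMap.ker (E.d 0)) :=
  LinearEquiv.ofInjective E.ε E.ε_injective ≪≫ₗ LinearEquiv.ofEq _ _ E.exact_zero.symm

theorem H_equiv_localCohomology (i : ℕ) : Nonempty (E.H a i ≃ₗ[R] LocCoh.H a.toIdeal i M) := by
  cases i with
  | zero => exact H_zero_equiv E a
  | succ i =>
    obtain ⟨e⟩ := H_succ_equiv_cyc E a i 0
    rw [Nat.zero_add] at e
    let w : ↑((localCohomology a.toIdeal (i + 1)).obj (cyc E 0)) ≃ₗ[R] LocCoh.H a.toIdeal (i + 1) M :=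
      ((localCohomology a.toIdeal (i + 1)).mapIso (cycZeroEquiv E).symm.toModuleIso).toLinearEquiv
    exact ⟨e ≪≫ₗ w⟩

theorem van_of_subsingleton {i : ℕ} (h : Subsingleton (LocCoh.H a.toIdeal i M)) (g : ι) : Van E a i g := by
  obtain ⟨e⟩ := H_equiv_localCohomology E a i
  haveI : Subsingleton (E.H a i) := e.toEquiv.subsingleton
  intro z _ hzc
  exact (Submodule.Quotient.mk_eq_zero ((E.cobdy a i).comap (E.cocyc a i).subtype)).1
    (Subsingleton.elim (E.toH a i ⟨z, hzc⟩) 0)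

theorem subsingleton_of_van {i : ℕ} (h : ∀ g, Van E a i g) : Subsingleton (LocCoh.H a.toIdeal i M) := by
  obtain ⟨e⟩ := H_equiv_localCohomology E a i
  haveI := subsingleton_H_of_van E a i h
  exact e.symm.toEquiv.subsingleton

end Groth.Agent.GrLCLib
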