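import Groth.Agent.GrLCLib.Cohom
import Groth.Agent.GrLCLib.Baer

/-!
Cohomology is a graded module; pieces of an artinian one are artinian.
-/

set_option autoImplicit false
set_option linter.unusedSectionVars false
set_option linter.style.haveILetI false
universe u

open scoped Classical
open DirectSum

noncomputable section

namespace Groth.Agent.GrLCLib

variable {R : Type u} [CommRing R] {𝒜 : ℤ → AddSubgroup R} [GradedRing 𝒜]
variable {M : Type u} [AddCommGroup M] [Module R M] {ℳ : ℤ → AddSubgroup M} [DirectSum.Decomposition ℳ]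
  [SetLike.GradedSMul 𝒜 ℳ]

instance hgr_gradedSMul (E : GrLC.StarInjRes 𝒜 ℳ) (a : HomogeneousIdeal 𝒜) (i : ℕ) :
    SetLike.GradedSMul 𝒜 (E.Hgr a i) :=
  ⟨fun {e g r y} hr hy => by
    obtain ⟨z, hz, rfl⟩ := hy
    exact ⟨r • z, smul_mem 𝒜 (E.X i).gr hr hz, map_smul _ _ _⟩⟩

lemma mem_of_mem_span_hcomp (E : GrLC.StarInjRes 𝒜 ℳ) (a : HomogeneousIdeal 𝒜) (i : ℕ) (n : ℤ)
    (W : Submodule (GrLC.deg0 𝒜) (E.Hcomp a i n)) {y : E.Hcomp a i n}
    (hy : (y : E.H a i) ∈ Submodule.span R (Subtype.val '' (W : Set (E.Hcomp a i n)))) : y ∈ W := by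
  letI := (isInternal_Hgr E a i).chooseDecomposition
  suffices h : ∀ u ∈ Submodule.span R (Subtype.val '' (W : Set (E.Hcomp a i n))),
      ∀ c : GrLC.deg0 𝒜 → Prop, ∀ r : R, ∃ w ∈ W, pr (E.Hgr a i) n (r • u) = (w : E.H a i) by
    obtain ⟨w, hw, hyw⟩ := h _ hy (fun _ => True) 1
    rw [one_smul, pr_of_mem (E.Hgr a i) (show (y : E.H a i) ∈ E.Hgr a i n from y.2)] at hyw
    rwa [Subtype.ext hyw]
  intro u hu _
  induction hu using Submodule.span_induction with
  | mem u hu =>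
    obtain ⟨w, hw, rfl⟩ := hu
    intro r
    refine ⟨(⟨pr 𝒜 0 r, pr_mem 𝒜 0 r⟩ : GrLC.deg0 𝒜) • w, W.smul_mem _ hw, ?_⟩
    rw [pr_smul_left 𝒜 (E.Hgr a i) (show (w : E.H a i) ∈ E.Hgr a i n from w.2), sub_self]
    rfl
  | zero => intro r; exact ⟨0, zero_mem _, by rw [smul_zero, map_zero, Submodule.coe_zero]⟩
  | add u v _ _ hu hv =>
    intro r
    obtain ⟨w, hw, h1⟩ := hu r
    obtain ⟨w', hw', h2⟩ := hv r
    exact ⟨w + w', add_mem hw hw', by rw [smul_add, map_add, h1, h2, Submodule.coe_add]⟩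
  | smul c u _ hu => intro r; rw [← mul_smul]; exact hu (r * c)

theorem isArtinian_hcomp (E : GrLC.StarInjRes 𝒜 ℳ) (a : HomogeneousIdeal 𝒜) (i : ℕ) (n : ℤ)
    [IsArtinian R (E.H a i)] : IsArtinian (GrLC.deg0 𝒜) (E.Hcomp a i n) := by
  rw [← monotone_stabilizes_iff_artinian]
  intro f
  let g : ℕ →o (Submodule R (E.H a i))ᵒᵈ :=
    ⟨fun k => OrderDual.toDual (Submodule.span R (Subtype.val '' ((OrderDual.ofDual (f k) : Submodule _ _) : Set (E.Hcomp a i n)))),
      fun k l hkl => Submodule.span_mono (Set.image_mono (f.monotone hkl))⟩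
  obtain ⟨N, hN⟩ := monotone_stabilizes_iff_artinian.2 inferInstance g
  refine ⟨N, fun k hk => ?_⟩
  refine le_antisymm (f.monotone hk) (fun y hy => ?_)
  refine mem_of_mem_span_hcomp E a i n _ ?_
  have h1 : (y : E.H a i) ∈ OrderDual.ofDual (g N) := Submodule.subset_span ⟨y, hy, rfl⟩
  rw [hN k hk] at h1
  exact h1

end Groth.Agent.GrLCLib
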