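import Groth.Agent.GrLCLib.Reg

/-!
Vanishing in terms of end degrees.
-/

set_option autoImplicit false
set_option linter.unusedSectionVars false
universe u

open scoped Classical
open DirectSum

noncomputable section

namespace Groth.Agent.GrLCLib

variable {R : Type u} [CommRing R] {σ : Type u} [SetLike σ R] [AddSubgroupClass σ R] {𝒜 : ℤ → σ} [GradedRing 𝒜]
variable {M : Type u} [AddCommGroup M] [Module R M] {τ : Type u} [SetLike τ M] [AddSubgroupClass τ M]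
  {ℳ : ℤ → τ} [DirectSum.Decomposition ℳ] [SetLike.GradedSMul 𝒜 ℳ]

lemma endDeg_le_iff (E : GrLC.StarInjRes 𝒜 ℳ) (a : HomogeneousIdeal 𝒜) (i : ℕ) (d : ℤ) :
    GrLC.endDeg (E.Hgr a i) ≤ ((d : WithTop ℤ) : WithBot (WithTop ℤ)) ↔ ∀ e, d < e → Van E a i e := by
  rw [GrLC.endDeg, iSup₂_le_iff]
  refine forall_congr' fun e => ?_
  rw [WithBot.coe_le_coe, WithTop.coe_le_coe, ne_eq, hgr_eq_bot_iff]
  exact ⟨fun h he => by_contra fun hv => absurd (h hv) (not_le.2 he), fun h hv => not_lt.1 fun he => hv (h he)⟩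

lemma endDeg_add_le_iff (E : GrLC.StarInjRes 𝒜 ℳ) (a : HomogeneousIdeal 𝒜) (i : ℕ) (d : ℤ) :
    GrLC.endDeg (E.Hgr a i) + (((i : ℤ) : WithTop ℤ) : WithBot (WithTop ℤ)) ≤ ((d : WithTop ℤ) : WithBot (WithTop ℤ)) ↔
      ∀ e, d < e + i → Van E a i e := by
  have h : ∀ t : WithBot (WithTop ℤ), t + (((i : ℤ) : WithTop ℤ) : WithBot (WithTop ℤ)) ≤ ((d : WithTop ℤ) : WithBot (WithTop ℤ)) ↔
      t ≤ (((d - i : ℤ) : WithTop ℤ) : WithBot (WithTop ℤ)) := by
    intro t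
    induction t with
    | bot => simp
    | coe t =>
      rw [← WithBot.coe_add, WithBot.coe_le_coe, WithBot.coe_le_coe]
      induction t with
      | top => simp
      | coe t =>
        rw [← WithTop.coe_add, WithTop.coe_le_coe, WithTop.coe_le_coe]
        omega
  rw [h, endDeg_le_iff]
  exact forall_congr' fun e => ⟨fun h he => h (by omega), fun h he => h (by omega)⟩

variable {k : Type u} [Field k] {n : ℕ}
variable {M' : Type u} [AddCommGroup M'] [Module k M'] [Module (MvPolynomial (Fin n) k) M']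
  [IsScalarTower k (MvPolynomial (Fin n) k) M'] [Module.Finite (MvPolynomial (Fin n) k) M']
  {ℳ' : ℤ → Submodule k M'} [DirectSum.Decomposition ℳ'] [SetLike.GradedSMul (GrSyz.stdGr k (Fin n)) ℳ']

theorem isRegLE_iff_endDeg (E : GrLC.StarInjRes (GrSyz.stdGr k (Fin n)) ℳ') (d : ℤ) :
    GrSyz.IsRegLE (GrSyz.stdGr k (Fin n)) ℳ' (GrSyz.irrel (GrSyz.stdGr k (Fin n))).toIdeal d ↔
      ∀ i : ℕ, GrLC.endDeg (E.Hgr (GrSyz.irrel (GrSyz.stdGr k (Fin n))) i) + (((i : ℤ) : WithTop ℤ) : WithBot (WithTop ℤ)) ≤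
        ((d : WithTop ℤ) : WithBot (WithTop ℤ)) :=
  (vanLE_iff_isRegLE E d).symm.trans (forall_congr' fun i => (endDeg_add_le_iff E _ i d).symm)

theorem reg_eq_iSup_endDeg (E : GrLC.StarInjRes (GrSyz.stdGr k (Fin n)) ℳ') :
    GrSyz.reg (GrSyz.stdGr k (Fin n)) ℳ' (GrSyz.irrel (GrSyz.stdGr k (Fin n))).toIdeal =
      ⨆ i : ℕ, (GrLC.endDeg (E.Hgr (GrSyz.irrel (GrSyz.stdGr k (Fin n))) i) + (((i : ℤ) : WithTop ℤ) : WithBot (WithTop ℤ))) :=
  GrSyzMin.iInf_int_eq _ _ fun r => by rw [iSup_le_iff]; exact isRegLE_iff_endDeg E r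

end Groth.Agent.GrLCLib
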