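import Groth.Agent.GrLCLib.KoszulLow
import Groth.Agent.GrLCLib.Dim
import Groth.Agent.GrLCLib.EndDeg
import Groth.Agent.LocH.Grothendieck

/-!
Standard graded rings: the irrelevant ideal, and the a-invariant is at least minus the dimension.
-/

set_option autoImplicit false
set_option linter.unusedSectionVars false
set_option linter.style.haveILetI false
universe u

open scoped Classical
open DirectSum

noncomputable section

namespace Groth.Agent.GrLCLib

variable {R : Type u} [CommRing R] (𝒜 : ℤ → AddSubgroup R) [GradedRing 𝒜]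

/-- The irrelevant ideal. -/
def irr : HomogeneousIdeal 𝒜 :=
  ⟨Ideal.span (⋃ n ∈ Set.Ioi (0 : ℤ), (𝒜 n : Set R)), Ideal.homogeneous_span 𝒜 _ fun x hx => by
    obtain ⟨n, -, hx⟩ := Set.mem_iUnion₂.1 hx
    exact ⟨n, hx⟩⟩

lemma irr_toIdeal : (irr 𝒜).toIdeal = Ideal.span (⋃ n ∈ Set.Ioi (0 : ℤ), (𝒜 n : Set R)) := rfl

variable {𝒜}

lemma exists_gens_one [IsNoetherianRing R]
    (hstd : Ideal.span (⋃ n ∈ Set.Ioi (0 : ℤ), (𝒜 n : Set R)) = Ideal.span ((𝒜 1 : AddSubgroup R) : Set R)) :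
    ∃ (n : ℕ) (x : Fin n → R), (∀ b, x b ∈ 𝒜 1) ∧ (irr 𝒜).toIdeal = Ideal.span (Set.range x) := by
  obtain ⟨T, hT, hTs⟩ := (Submodule.fg_span_iff_fg_span_finset_subset _).1
    (show (Ideal.span ((𝒜 1 : AddSubgroup R) : Set R)).FG from IsNoetherian.noetherian _)
  refine ⟨T.card, fun b => ((T.equivFin.symm b : T) : R), fun b => hT (T.equivFin.symm b).2, ?_⟩
  rw [irr_toIdeal, hstd]
  refine hTs.trans (congrArg (Submodule.span R) (Set.ext fun y => ⟨fun hy => ⟨T.equivFin ⟨y, hy⟩, by simp⟩, ?_⟩))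
  rintro ⟨b, rfl⟩
  exact (T.equivFin.symm b).2

lemma exists_bdd_below (hpos : ∀ n : ℤ, n < 0 → 𝒜 n = ⊥) {M : Type u} [AddCommGroup M] [Module R M]
    [Module.Finite R M] (ℳ : ℤ → AddSubgroup M) [DirectSum.Decomposition ℳ] [SetLike.GradedSMul 𝒜 ℳ] :
    ∃ L : ℤ, ∀ e < L, ∀ y ∈ ℳ e, y = 0 := by
  obtain ⟨S, hS⟩ := (Module.Finite.fg_top : (⊤ : Submodule R M).FG)
  obtain ⟨L, hL⟩ := ((S.finite_toSet.biUnion fun y _ => (DirectSum.decompose ℳ y).support.finite_toSet) :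
    (⋃ y ∈ (S : Set M), ((DirectSum.decompose ℳ y).support : Set ℤ)).Finite).bddBelow
  have key : ∀ y : M, ∀ g < L, pr ℳ g y = 0 := by
    intro y
    have hy : y ∈ Submodule.span R (S : Set M) := hS ▸ Submodule.mem_top
    induction hy using Submodule.span_induction with
    | mem y hy =>
      intro g hg
      by_contra h
      exact absurd (hL (Set.mem_biUnion hy (DFinsupp.mem_support_iff.2 fun h0 => h (congrArg Subtype.val h0)))) (not_le.2 hg)
    | zero => intro g _; exact map_zero _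
    | add u v _ _ hu hv => intro g hg; rw [map_add, hu g hg, hv g hg, add_zero]
    | smul c u _ hu =>
      induction c using DirectSum.Decomposition.inductionOn 𝒜 with
      | zero => intro g _; rw [zero_smul, map_zero]
      | @homogeneous i q =>
        intro g hg
        rw [pr_smul 𝒜 ℳ q.2]
        rcases lt_or_ge i 0 with hi | hi
        · rw [show (q : R) = 0 from (hpos i hi).le q.2, zero_smul]
        · rw [hu (g - i) (by omega), smul_zero]
      | add a b ha hb => intro g hg; rw [add_smul, map_add, ha g hg, hb g hg, add_zero]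
  exact ⟨L, fun e he y hy => (pr_of_mem ℳ hy).symm.trans (key y e he)⟩

lemma van_iff_of_gam_eq {M : Type u} [AddCommGroup M] [Module R M] {ℳ : ℤ → AddSubgroup M} [DirectSum.Decomposition ℳ]
    [SetLike.GradedSMul 𝒜 ℳ] (E : GrLC.StarInjRes 𝒜 ℳ) {a b : HomogeneousIdeal 𝒜}
    (h : ∀ (Q : Type u) [AddCommGroup Q] [Module R Q], GrLC.gam a.toIdeal Q = GrLC.gam b.toIdeal Q) (i : ℕ) (e : ℤ) :
    Van E a i e ↔ Van E b i e := by
  have hc : E.cocyc a i = E.cocyc b i := by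
    rw [GrLC.StarInjRes.cocyc, GrLC.StarInjRes.cocyc, h]
  have hb : E.cobdy a i = E.cobdy b i := by
    cases i with
    | zero => rfl
    | succ i => rw [GrLC.StarInjRes.cobdy, GrLC.StarInjRes.cobdy, h]
  rw [Van, Van, hc, hb]

lemma gam_eq_of_le_of_pow_le {a b : Ideal R} (h1 : a ≤ b) {N : ℕ} (h2 : b ^ N ≤ a) (Q : Type u) [AddCommGroup Q]
    [Module R Q] : GrLC.gam a Q = GrLC.gam b Q := by
  refine le_antisymm (fun y ⟨k, hk⟩ => ⟨N * k, fun r hr => hk r (Ideal.pow_right_mono h2 k ?_)⟩) (gam_mono h1)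
  rwa [← pow_mul]

theorem gam_irr_eq [IsNoetherianRing R] (hpos : ∀ n : ℤ, n < 0 → 𝒜 n = ⊥) [IsArtinianRing (GrLC.deg0 𝒜)]
    {m : HomogeneousIdeal 𝒜} (hm : GrLC.IsStarLocal 𝒜 m) (Q : Type u) [AddCommGroup Q] [Module R Q] :
    GrLC.gam (irr 𝒜).toIdeal Q = GrLC.gam m.toIdeal Q := by
  have hle : (irr 𝒜).toIdeal ≤ m.toIdeal := Ideal.span_le.2 fun y hy => by
    obtain ⟨n, hn, hy⟩ := Set.mem_iUnion₂.1 hy
    exact mem_of_pos hpos hm hn hy
  have hrad : m.toIdeal ≤ (irr 𝒜).toIdeal.radical := by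
    intro y hy
    have h0 : pr 𝒜 0 y ∈ m.toIdeal := m.isHomogeneous 0 hy
    let y0 : GrLC.deg0 𝒜 := ⟨pr 𝒜 0 y, pr_mem 𝒜 0 y⟩
    obtain ⟨k, z, hz⟩ : ∃ (k : ℕ) (z : GrLC.deg0 𝒜), y0 ^ k.succ * z = y0 ^ k := by
      obtain ⟨k, z, hz⟩ := IsArtinian.exists_pow_succ_smul_dvd y0 (1 : GrLC.deg0 𝒜)
      exact ⟨k, z, by simpa using hz⟩
    have hzR : pr 𝒜 0 y ^ k.succ * (z : R) = pr 𝒜 0 y ^ k := congrArg Subtype.val hz
    have hu : IsUnit (1 - pr 𝒜 0 y * (z : R)) := by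
      rw [← Ideal.span_singleton_eq_top]
      by_contra h
      have hmem : (1 - pr 𝒜 0 y * (z : R)) ∈ m.toIdeal := le_of_isHomogeneous hm (Ideal.homogeneous_span 𝒜 _ fun w hw =>
        ⟨0, by
          rw [Set.mem_singleton_iff.1 hw]
          exact sub_mem (SetLike.one_mem_graded 𝒜) (by simpa using SetLike.mul_mem_graded (pr_mem 𝒜 0 y) z.2)⟩) h
        (Ideal.mem_span_singleton_self _)
      exact isStarLocal_ne_top hm ((Ideal.eq_top_iff_one _).2
        (by simpa using add_mem hmem (m.toIdeal.mul_mem_right (z : R) h0)))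
    have hy0 : pr 𝒜 0 y ^ k = 0 := hu.mul_left_eq_zero.1 (by rw [mul_sub, mul_one, ← mul_assoc, ← pow_succ, hzR, sub_self])
    have hsub : y - pr 𝒜 0 y ∈ (irr 𝒜).toIdeal := by
      clear hy h0 hy0 hu hzR hz z k y0
      induction y using DirectSum.Decomposition.inductionOn 𝒜 with
      | zero => simp
      | @homogeneous i q =>
        rcases lt_trichotomy i 0 with h | rfl | h
        · rw [show (q : R) = 0 from (hpos i h).le q.2]; simp
        · rw [pr_of_mem 𝒜 q.2, sub_self]; exact zero_mem _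
        · rw [pr_of_mem_ne 𝒜 q.2 h.ne', sub_zero]; exact Ideal.subset_span (Set.mem_iUnion₂.2 ⟨i, h, q.2⟩)
      | add a b ha hb => rw [map_add, add_sub_add_comm]; exact add_mem ha hb
    rw [← sub_add_cancel y (pr 𝒜 0 y)]
    exact add_mem (Ideal.le_radical hsub) ⟨k, hy0 ▸ zero_mem _⟩
  obtain ⟨N, hN⟩ := Ideal.exists_pow_le_of_le_radical_of_fg hrad (IsNoetherian.noetherian _)
  exact gam_eq_of_le_of_pow_le hle hN Q

lemma subsingleton_H_of_dim_lt [IsNoetherianRing R] {d : ℕ} (hd : ringKrullDim R = d) (I : Ideal R) {i : ℕ}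
    (hi : d < i) (Q : Type u) [AddCommGroup Q] [Module R Q] : Subsingleton (LocCoh.H I i Q) :=
  LocH.subsingleton_of_supportDim_lt I i Q
    (((Module.supportDim_le_ringKrullDim R Q).trans hd.le).trans_lt (by exact_mod_cast hi))

/-- The top local cohomology reaches degree `-d`. -/
theorem exists_not_van [LocCoh.IsCohenMacaulayRing R] (hpos : ∀ n : ℤ, n < 0 → 𝒜 n = ⊥)
    (hstd : Ideal.span (⋃ n ∈ Set.Ioi (0 : ℤ), (𝒜 n : Set R)) = Ideal.span ((𝒜 1 : AddSubgroup R) : Set R))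
    [IsArtinianRing (GrLC.deg0 𝒜)] {m : HomogeneousIdeal 𝒜} (hm : GrLC.IsStarLocal 𝒜 m) {d : ℕ}
    (hd : ringKrullDim R = d) (I : GrLC.StarInjRes 𝒜 𝒜) : ¬ Van I m d (-(d : ℤ)) := by
  intro h
  have hd' : m.toIdeal.height = (d : ℕ∞) := WithBot.coe_inj.1 ((ringKrullDim_eq_height hpos hm).symm.trans hd)
  obtain ⟨n, x, hx, ha⟩ := exists_gens_one hstd
  have hg : ∀ (i : ℕ) (e : ℤ), Van I (irr 𝒜) i e ↔ Van I m i e :=
    fun i e => van_iff_of_gam_eq I (fun Q _ _ => gam_irr_eq hpos hm Q) i e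
  have hvan : ∀ i : ℕ, Van I (irr 𝒜) i (0 - i) := fun i => (hg i _).2 (by
    rcases lt_trichotomy i d with hi | rfl | hi
    · exact van_of_subsingleton I m (subsingleton_H_of_lt_height (I := m.toIdeal) (isStarLocal_ne_top hm)
        (by rw [hd']; exact_mod_cast hi)) _
    · rwa [zero_sub]
    · exact van_of_subsingleton I m (subsingleton_H_of_dim_lt hd _ hi R) _)
  obtain ⟨z, hz, h1⟩ := exists_sum_of_van 𝒜 (irr 𝒜) hx ha I hvan (SetLike.one_mem_graded 𝒜)
  have hz0 : ∀ b, z b = 0 := fun b => (hpos (0 - 1) (by norm_num)).le (hz b)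
  refine isStarLocal_ne_top hm ((Ideal.eq_top_iff_one _).2 ?_)
  rw [h1]
  simp [hz0]

end Groth.Agent.GrLCLib
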