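import Groth.Agent.GrLCLib.Baer
import Groth.Agent.LocH.Noetherian
import Groth.Agent.LocH.LocalizeMap

/-!
Injective objects of the graded category are acyclic for the torsion functor.
-/

set_option autoImplicit false
set_option linter.unusedSectionVars false
set_option linter.style.haveILetI false
universe u

open scoped Classical
open DirectSum CategoryTheory

noncomputable section

namespace Groth.Agent.GrLCLib

variable {ι : Type} [AddCommGroup ι] [DecidableEq ι]
variable {R : Type u} [CommRing R] [IsNoetherianRing R] {σ : Type u} [SetLike σ R] [AddSubgroupClass σ R] (𝒜 : ι → σ)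
  [GradedRing 𝒜]

/-- Division by a power of a homogeneous element, up to a power. -/
theorem exists_div {X : GrLC.GMod.{u} 𝒜} (hX : GrLC.IsStarInj 𝒜 X.gr) {x : R} {δ : ι} (hx : x ∈ 𝒜 δ) (n : ℕ) :
    ∃ c : ℕ, ∀ (e : ι), ∀ z ∈ X.gr e, ∃ w ∈ X.gr (e - n • δ), x ^ (c + n) • w = x ^ c • z := by
  let A : ℕ →o Ideal R :=
    { toFun := fun i => LinearMap.ker (LinearMap.toSpanSingleton R R (x ^ i))
      monotone' := fun i j hij r hr => by
        obtain ⟨t, rfl⟩ := Nat.exists_eq_add_of_le hij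
        simp only [LinearMap.mem_ker, LinearMap.toSpanSingleton_apply, smul_eq_mul] at hr ⊢
        rw [pow_add, ← mul_assoc, hr, zero_mul] }
  obtain ⟨c, hc⟩ := monotone_stabilizes_iff_noetherian.2 inferInstance A
  have hker : ∀ r : R, r * x ^ (c + n) = 0 → r * x ^ c = 0 := fun r hr => by
    have h1 : r ∈ A (c + n) := hr
    rw [← hc (c + n) (Nat.le_add_right c n)] at h1
    exact h1
  refine ⟨c, fun e z hz => ?_⟩
  have H : ∀ r : R, r • x ^ (c + n) = 0 → r • (x ^ c • z) = 0 := fun r hr => by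
    rw [← mul_smul, hker r hr, zero_smul]
  let p : R →ₗ.[R] X.carrier := LinearPMap.mkSpanSingleton' (x ^ (c + n)) (x ^ c • z) H
  have hp : ∀ (r : R) (h : r • x ^ (c + n) ∈ p.domain), p ⟨r • x ^ (c + n), h⟩ = r • x ^ c • z := fun r h =>
    LinearPMap.mkSpanSingleton'_apply _ _ H r h
  have hxm : x ^ (c + n) ∈ 𝒜 ((c + n) • δ) := SetLike.pow_mem_graded _ hx
  obtain ⟨w, hw, hwp⟩ := isGrBaer_of_isStarInj 𝒜 X.gr hX p.domain (fun y hy g => by
      obtain ⟨r, rfl⟩ := Submodule.mem_span_singleton.1 hy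
      rw [pr_smul_left 𝒜 𝒜 hxm]
      exact Submodule.mem_span_singleton.2 ⟨_, rfl⟩) (e - n • δ) p.toFun (fun g y hy => by
      obtain ⟨r, hr⟩ := Submodule.mem_span_singleton.1 y.2
      have hmem : pr 𝒜 (g - (c + n) • δ) r • x ^ (c + n) ∈ p.domain := Submodule.mem_span_singleton.2 ⟨_, rfl⟩
      have hy' : y = ⟨_, hmem⟩ := Subtype.ext (by
        show (y : R) = pr 𝒜 (g - (c + n) • δ) r • x ^ (c + n)
        rw [← pr_smul_left 𝒜 𝒜 hxm, hr, pr_of_mem 𝒜 hy])
      rw [hy']
      show p ⟨_, hmem⟩ ∈ _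
      rw [hp, ← mul_smul]
      have h1 := smul_mem 𝒜 X.gr (SetLike.mul_mem_graded (pr_mem 𝒜 (g - (c + n) • δ) r) (SetLike.pow_mem_graded c hx)) hz
      rwa [show g - (c + n) • δ + c • δ + e = g + (e - n • δ) by rw [add_nsmul]; abel] at h1)
  refine ⟨w, hw, ?_⟩
  have h1 := hwp ⟨x ^ (c + n), Submodule.mem_span_singleton_self _⟩
  rw [← h1]
  exact LinearPMap.mkSpanSingleton'_apply_self _ _ H _

theorem subsingleton_localCohomology_list : ∀ (l : List R), (∀ x ∈ l, ∃ δ, x ∈ 𝒜 δ) →
    ∀ (i : ℕ) (X : GrLC.GMod.{u} 𝒜), GrLC.IsStarInj 𝒜 X.gr →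
      Subsingleton (LocCoh.H (Ideal.ofList l) (i + 1) X.carrier) := by
  intro l
  induction l with
  | nil =>
    intro _ i X _
    refine LocH.subsingleton_of_isPowerTorsion i (ModuleCat.of R X.carrier) fun m => ⟨1, fun r hr => ?_⟩
    rw [pow_one, Ideal.ofList_nil, Ideal.mem_bot] at hr
    rw [hr, zero_smul]
  | cons x l ih =>
    intro hl i X hX
    obtain ⟨δ, hx⟩ := hl x (List.mem_cons_self ..)
    have hl' : ∀ y ∈ l, ∃ δ, y ∈ 𝒜 δ := fun y hy => hl y (List.mem_cons_of_mem _ hy)
    let M : ModuleCat.{u} R := ModuleCat.of R X.carrier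
    let b : HomogeneousIdeal 𝒜 := ⟨Ideal.ofList l, Ideal.homogeneous_span 𝒜 _ fun y hy => hl' y hy⟩
    rw [Ideal.ofList_cons, sup_comm]
    let Hi : Type u := ↑((localCohomology (Ideal.ofList l) i).obj M)
    let f : Hi →ₗ[R] LocalizedModule (Submonoid.powers x) Hi := LocalizedModule.mkLinearMap _ _
    have hf : Function.Surjective f := by
      cases i with
      | succ i =>
        haveI : Subsingleton Hi := ih hl' i X hX
        intro y
        induction y using LocalizedModule.induction_on with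
        | h z s => exact ⟨0, by rw [Subsingleton.elim z 0, LocalizedModule.zero_mk, map_zero]⟩
      | zero =>
        intro y
        induction y using LocalizedModule.induction_on with
        | h z s =>
          obtain ⟨_, n, rfl⟩ := s
          let e := ((LocH.zeroIso (Ideal.ofList l)).app M).toLinearEquiv
          let G := gamObj 𝒜 b X
          let z' : G.carrier := e z
          have hG := isStarInj_gamObj 𝒜 b hX
          obtain ⟨c, hc⟩ := exists_div 𝒜 hG hx n
          choose w hw hwz using fun g : ι => hc g (pr G.gr g z') (pr_mem G.gr g z')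
          let W : G.carrier := ∑ g ∈ (DirectSum.decompose G.gr z').support, w g
          have hW : x ^ (c + n) • W = x ^ c • z' := by
            rw [Finset.smul_sum, Finset.sum_congr rfl fun g _ => hwz g, ← Finset.smul_sum, sum_pr]
          refine ⟨e.symm W, LocalizedModule.mk_eq.2 ⟨⟨x ^ c, c, rfl⟩, ?_⟩⟩
          show x ^ c • x ^ n • e.symm W = x ^ c • (1 : R) • z
          rw [one_smul, ← mul_smul, ← pow_add]
          refine e.injective ?_
          rw [map_smul, map_smul, LinearEquiv.apply_symm_apply]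
          exact hW
    haveI : Subsingleton ((LocalizedModule (Submonoid.powers x) Hi) ⧸ LinearMap.range f) :=
      Submodule.Quotient.subsingleton_iff.2 (LinearMap.range_eq_top.2 hf)
    obtain ⟨φ⟩ := LocH.nonempty_coker_equiv_ker (injectiveResolution M) (Ideal.ofList l) x i f
    haveI := φ.symm.toEquiv.subsingleton
    haveI : Subsingleton ↑((localCohomology (Ideal.ofList l) (i + 1)).obj M) := ih hl' i X hX
    refine subsingleton_of_forall_eq 0 fun z => ?_
    exact congrArg Subtype.val (Subsingleton.elim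
      (⟨z, LinearMap.mem_ker.2 (Subsingleton.elim _ _)⟩ :
        LinearMap.ker ((Dual2.HmapOfLE (le_sup_left : Ideal.ofList l ≤ Ideal.ofList l ⊔ Ideal.span {x}) (i + 1)).app M).hom) 0)

theorem exists_homog_gens (a : HomogeneousIdeal 𝒜) :
    ∃ l : List R, (∀ x ∈ l, ∃ δ, x ∈ 𝒜 δ) ∧ a.toIdeal = Ideal.ofList l := by
  obtain ⟨S, hS⟩ : a.toIdeal.FG := IsNoetherian.noetherian _
  let T : Finset R := S.biUnion fun y => (DirectSum.decompose 𝒜 y).support.image fun g => pr 𝒜 g y
  have hT : ∀ t ∈ T, t ∈ a.toIdeal ∧ ∃ δ, t ∈ 𝒜 δ := fun t ht => by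
    obtain ⟨y, hy, ht⟩ := Finset.mem_biUnion.1 ht
    obtain ⟨g, -, rfl⟩ := Finset.mem_image.1 ht
    exact ⟨a.isHomogeneous g (hS ▸ Submodule.subset_span hy), g, pr_mem 𝒜 g y⟩
  refine ⟨T.toList, fun t ht => (hT t (Finset.mem_toList.1 ht)).2, le_antisymm ?_ ?_⟩
  · rw [← hS]
    refine Submodule.span_le.2 fun y hy => ?_
    rw [← sum_pr 𝒜 y]
    exact Submodule.sum_mem _ fun g hg => Ideal.subset_span
      (Finset.mem_toList.2 (Finset.mem_biUnion.2 ⟨y, hy, Finset.mem_image.2 ⟨g, hg, rfl⟩⟩))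
  · exact Ideal.span_le.2 fun t ht => (hT t (Finset.mem_toList.1 ht)).1

theorem subsingleton_localCohomology_starInj (a : HomogeneousIdeal 𝒜) {X : GrLC.GMod.{u} 𝒜}
    (hX : GrLC.IsStarInj 𝒜 X.gr) (i : ℕ) : Subsingleton (LocCoh.H a.toIdeal (i + 1) X.carrier) := by
  obtain ⟨l, hl, he⟩ := exists_homog_gens 𝒜 a
  rw [he]
  exact subsingleton_localCohomology_list 𝒜 l hl i X hX

end Groth.Agent.GrLCLib
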