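import Groth.Agent.GrLCLib.Basic

/-!
Enough injective objects in the graded category; existence of injective resolutions.
-/

set_option autoImplicit false
set_option linter.unusedSectionVars false
universe u

open scoped Classical
open DirectSum

noncomputable section

namespace Groth.Agent.GrLCLib

variable {ι : Type} [AddCommGroup ι] [DecidableEq ι]
variable {R : Type u} [CommRing R] {σ : Type u} [SetLike σ R] [AddSubgroupClass σ R] (𝒜 : ι → σ) [GradedRing 𝒜]

/-- Additive maps from the ring, with the module structure by translation. -/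
def Coind (R : Type u) [CommRing R] (ι : Type) (D : Type u) [AddCommGroup D] : Type u := R →+ (ι → D)

variable {D : Type u} [AddCommGroup D]

instance : AddCommGroup (Coind R ι D) := inferInstanceAs (AddCommGroup (R →+ (ι → D)))

instance : FunLike (Coind R ι D) R (ι → D) := inferInstanceAs (FunLike (R →+ (ι → D)) R (ι → D))

instance : AddMonoidHomClass (Coind R ι D) R (ι → D) :=
  inferInstanceAs (AddMonoidHomClass (R →+ (ι → D)) R (ι → D))

lemma coind_ext {f f' : Coind R ι D} (h : ∀ r, f r = f' r) : f = f' := DFunLike.ext _ _ h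

@[simp] lemma coind_add_apply (f f' : Coind R ι D) (r : R) : (f + f') r = f r + f' r := rfl
@[simp] lemma coind_zero_apply (r : R) : (0 : Coind R ι D) r = 0 := rfl

instance : SMul R (Coind R ι D) :=
  ⟨fun s f => AddMonoidHom.comp (show R →+ (ι → D) from f) (AddMonoidHom.mulRight s)⟩

@[simp] lemma coind_smul_apply (s : R) (f : Coind R ι D) (r : R) : (s • f) r = f (r * s) := rfl

instance : Module R (Coind R ι D) where
  one_smul f := coind_ext fun r => by simp
  mul_smul s t f := coind_ext fun r => by simp [mul_assoc]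
  smul_zero s := coind_ext fun r => by simp
  smul_add s f f' := coind_ext fun r => by simp
  add_smul s t f := coind_ext fun r => by simp [mul_add, map_add]
  zero_smul f := coind_ext fun r => by simp

variable (D)

/-- The maps of degree `g`. -/
def coindPiece (g : ι) : AddSubgroup (Coind R ι D) where
  carrier := {f | ∀ e, ∀ r ∈ 𝒜 e, ∀ j, j ≠ g + e → f r j = 0}
  add_mem' {f f'} hf hf' e r hr j hj := by simp [hf e r hr j hj, hf' e r hr j hj]
  zero_mem' e r _ j _ := rfl
  neg_mem' {f} hf e r hr j hj := by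
    show -(f r j) = 0
    rw [hf e r hr j hj, neg_zero]

instance coindPiece_gradedSMul : SetLike.GradedSMul 𝒜 (coindPiece 𝒜 D) :=
  ⟨fun {d g s f} hs hf e r hr j hj => by
    rw [coind_smul_apply]
    refine hf (e + d) _ (SetLike.mul_mem_graded hr hs) j ?_
    intro h
    exact hj (by rw [h, vadd_eq_add]; abel)⟩

/-- The finite sums of homogeneous maps. -/
def coindSub : Submodule R (Coind R ι D) := Submodule.span R (⋃ g, (coindPiece 𝒜 D g : Set (Coind R ι D)))

lemma piece_le_coindSub {g : ι} {f : Coind R ι D} (hf : f ∈ coindPiece 𝒜 D g) : f ∈ coindSub 𝒜 D :=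
  Submodule.subset_span (Set.mem_iUnion.2 ⟨g, hf⟩)

/-- The pieces of the cofree object. -/
def cfPiece : ι → AddSubgroup (coindSub 𝒜 D) := subPiece (coindPiece 𝒜 D) (coindSub 𝒜 D)

instance cfPiece_gradedSMul : SetLike.GradedSMul 𝒜 (cfPiece 𝒜 D) :=
  ⟨fun {_ _ _ m} hr hm => SetLike.GradedSMul.smul_mem (A := 𝒜) (B := coindPiece 𝒜 D) (bj := (m : Coind R ι D)) hr hm⟩

lemma isInternal_cfPiece : DirectSum.IsInternal (cfPiece 𝒜 D) := by
  have key : ∀ (w : ⨁ g, cfPiece 𝒜 D g) (e : ι), ∀ r ∈ 𝒜 e, ∀ g,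
      (((DirectSum.coeAddMonoidHom (cfPiece 𝒜 D) w : coindSub 𝒜 D) : Coind R ι D)) r (g + e) =
        ((w g : coindSub 𝒜 D) : Coind R ι D) r (g + e) := by
    intro w e r hr g
    induction w using DirectSum.induction_on with
    | zero => simp
    | of j x =>
      rw [DirectSum.coeAddMonoidHom_of]
      by_cases h : j = g
      · subst h; rw [DirectSum.of_eq_same]
      · rw [DirectSum.of_eq_of_ne _ _ _ (Ne.symm h)]
        exact (x.2 e r hr (g + e) fun h' => h (add_right_cancel h').symm).trans (by simp)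
    | add a b ha hb => simp only [map_add, Submodule.coe_add, DirectSum.add_apply, AddSubgroup.coe_add, coind_add_apply, Pi.add_apply, ha, hb]
  refine ⟨fun a b h => ?_, fun z => ?_⟩
  · refine DFinsupp.ext fun g => Subtype.ext (Subtype.ext (coind_ext fun r => ?_))
    induction r using DirectSum.Decomposition.inductionOn 𝒜 with
    | zero => simp
    | @homogeneous e q =>
      funext j
      by_cases hj : j = g + e
      · subst hj
        rw [← key a e q q.2 g, ← key b e q q.2 g]
        exact congrArg (fun z : coindSub 𝒜 D => (z : Coind R ι D) q (g + e)) h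
      · exact ((a g).2 e q q.2 j hj).trans ((b g).2 e q q.2 j hj).symm
    | add r r' hr hr' => simp only [map_add, hr, hr']
  · obtain ⟨f, hf⟩ := z
    have hf' := hf
    induction hf' using Submodule.span_induction with
    | mem f hm =>
      obtain ⟨g, hg⟩ := Set.mem_iUnion.1 hm
      exact ⟨DirectSum.of (fun g => cfPiece 𝒜 D g) g ⟨⟨f, hf⟩, hg⟩, by rw [DirectSum.coeAddMonoidHom_of]⟩
    | zero => exact ⟨0, map_zero _⟩
    | add a b ha hb iha ihb =>
      obtain ⟨u, hu⟩ := iha ha
      obtain ⟨v, hv⟩ := ihb hb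
      exact ⟨u + v, by rw [map_add, hu, hv]; rfl⟩
    | smul s a ha iha =>
      obtain ⟨u, hu⟩ := iha ha
      suffices ∀ (s : R) (u : ⨁ g, cfPiece 𝒜 D g), ∃ v : ⨁ g, cfPiece 𝒜 D g,
          DirectSum.coeAddMonoidHom (cfPiece 𝒜 D) v = s • DirectSum.coeAddMonoidHom (cfPiece 𝒜 D) u by
        obtain ⟨v, hv⟩ := this s u
        exact ⟨v, by rw [hv, hu]; rfl⟩
      intro s u
      induction s using DirectSum.Decomposition.inductionOn 𝒜 with
      | zero => exact ⟨0, by rw [map_zero, zero_smul]⟩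
      | @homogeneous d q =>
        induction u using DirectSum.induction_on with
        | zero => exact ⟨0, by rw [map_zero, smul_zero]⟩
        | of g x =>
          exact ⟨DirectSum.of (fun g => cfPiece 𝒜 D g) (d + g) ⟨(q : R) • (x : coindSub 𝒜 D), SetLike.GradedSMul.smul_mem (A := 𝒜) (B := cfPiece 𝒜 D) q.2 x.2⟩,
            by rw [DirectSum.coeAddMonoidHom_of, DirectSum.coeAddMonoidHom_of]⟩
        | add a b ha hb =>
          obtain ⟨v, hv⟩ := ha
          obtain ⟨v', hv'⟩ := hb
          exact ⟨v + v', by rw [map_add, map_add, smul_add, hv, hv']⟩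
      | add a b ha hb =>
        obtain ⟨v, hv⟩ := ha
        obtain ⟨v', hv'⟩ := hb
        exact ⟨v + v', by rw [map_add, add_smul, hv, hv']⟩

/-- The cofree graded module. -/
def cfObj : GrLC.GMod.{u} 𝒜 :=
  letI : DirectSum.Decomposition (cfPiece 𝒜 D) := (isInternal_cfPiece 𝒜 D).chooseDecomposition
  GrLC.GMod.of 𝒜 (coindSub 𝒜 D) (cfPiece 𝒜 D)

/-- The underlying map of an element of the cofree object. -/
def cfVal : (cfObj 𝒜 D).carrier →ₗ[R] Coind R ι D := (coindSub 𝒜 D).subtype

lemma cfVal_injective : Function.Injective (cfVal 𝒜 D) := (coindSub 𝒜 D).injective_subtype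

variable {D}

section Theta

variable {B : Type u} [AddCommGroup B] [Module R B] {τ : Type u} [SetLike τ B] [AddSubgroupClass τ B]
  (ℬ : ι → τ) [DirectSum.Decomposition ℬ] [SetLike.GradedSMul 𝒜 ℬ]

/-- The map adjoint to an additive map into `D`. -/
def theta (φ : B →+ D) : B →ₗ[R] Coind R ι D where
  toFun b :=
    ({ toFun := fun r g => φ (pr ℬ g (r • b))
       map_zero' := by funext g; simp
       map_add' := fun r r' => by funext g; simp [add_smul] } : R →+ (ι → D))
  map_add' a b := coind_ext fun r => funext fun g => by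
    show φ (pr ℬ g (r • (a + b))) = φ (pr ℬ g (r • a)) + φ (pr ℬ g (r • b))
    rw [smul_add, map_add, map_add]
  map_smul' s a := coind_ext fun r => funext fun g => by
    show φ (pr ℬ g (r • (s • a))) = φ (pr ℬ g ((r * s) • a))
    rw [mul_smul]

lemma theta_apply (φ : B →+ D) (b : B) (r : R) (g : ι) : theta ℬ φ b r g = φ (pr ℬ g (r • b)) := rfl

lemma theta_mem_piece (φ : B →+ D) {g : ι} {b : B} (hb : b ∈ ℬ g) : theta ℬ φ b ∈ coindPiece 𝒜 D g :=
  fun e r hr j hj => by
    rw [theta_apply, pr_of_mem_ne ℬ (smul_mem 𝒜 ℬ hr hb) (by rw [add_comm]; exact Ne.symm hj), map_zero]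

lemma theta_mem_sub (φ : B →+ D) (b : B) : theta ℬ φ b ∈ coindSub 𝒜 D := by
  induction b using DirectSum.Decomposition.inductionOn ℬ with
  | zero => rw [map_zero]; exact Submodule.zero_mem _
  | @homogeneous g q => exact piece_le_coindSub 𝒜 D (theta_mem_piece 𝒜 ℬ φ q.2)
  | add a b ha hb => rw [map_add]; exact Submodule.add_mem _ ha hb

/-- The graded map adjoint to an additive map into `D`. -/
def thetaHom (φ : B →+ D) : B →ₗ[R] (cfObj 𝒜 D).carrier :=
  (theta ℬ φ).codRestrict (coindSub 𝒜 D) (theta_mem_sub 𝒜 ℬ φ)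

lemma thetaHom_grHom (φ : B →+ D) : GrLC.IsGrHom ℬ (cfObj 𝒜 D).gr (thetaHom 𝒜 ℬ φ) :=
  fun _ _ hb => theta_mem_piece 𝒜 ℬ φ hb

end Theta

theorem isStarInj_cfObj (D : Type u) [AddCommGroup D] (hD : Module.Baer ℤ D) :
    GrLC.IsStarInj 𝒜 (cfObj 𝒜 D).gr := by
  intro A B f hf hinj g hg
  let ψ₀ : ∀ i, A.gr i →+ D := fun i =>
    { toFun := fun a => cfVal 𝒜 D (g a) 1 i
      map_zero' := by
        simp only [ZeroMemClass.coe_zero, map_zero]
        rfl
      map_add' := fun a b => by
        simp only [AddSubgroup.coe_add, map_add]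
        rfl }
  let ψ : A.carrier →+ D := (DirectSum.toAddMonoid ψ₀).comp (DirectSum.decomposeAddEquiv A.gr).toAddMonoidHom
  obtain ⟨φ, hφ⟩ := hD.extension_property_addMonoidHom f.toAddMonoidHom hinj ψ
  refine ⟨thetaHom 𝒜 B.gr φ, thetaHom_grHom 𝒜 B.gr φ, ext_of_homog A.gr fun i a ha => ?_⟩
  refine cfVal_injective 𝒜 D (coind_ext fun r => ?_)
  have hψ : ∀ j (x : A.carrier), x ∈ A.gr j → φ (f x) = cfVal 𝒜 D (g x) 1 j := by
    intro j x hx
    have := DFunLike.congr_fun hφ x
    rw [AddMonoidHom.comp_apply] at this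
    refine this.trans ?_
    simp only [ψ, AddMonoidHom.comp_apply, AddEquiv.coe_toAddMonoidHom, DirectSum.decomposeAddEquiv_apply,
      DirectSum.decompose_of_mem A.gr hx, DirectSum.toAddMonoid_of]
    rfl
  induction r using DirectSum.Decomposition.inductionOn 𝒜 with
  | zero => simp
  | @homogeneous e q =>
    funext j
    show φ (pr B.gr j ((q : R) • f a)) = cfVal 𝒜 D (g a) q j
    rw [← map_smul, pr_map A.gr B.gr hf]
    have hqa : (q : R) • a ∈ A.gr (e + i) := smul_mem 𝒜 A.gr q.2 ha
    by_cases hj : j = e + i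
    · subst hj
      rw [pr_of_mem A.gr hqa, hψ _ _ hqa, map_smul]
      show ((q : R) • cfVal 𝒜 D (g a)) 1 (e + i) = _
      rw [coind_smul_apply, one_mul]
    · rw [pr_of_mem_ne A.gr hqa (Ne.symm hj), map_zero, map_zero]
      exact ((hg i a ha : cfVal 𝒜 D (g a) ∈ coindPiece 𝒜 D i) e q q.2 j
        (by rw [add_comm]; exact hj)).symm
  | add r r' hr hr' => simp only [map_add, hr, hr']

/-- The target of the embedding: a product of copies of `ℚ/ℤ`. -/
abbrev Amb (M : Type u) [AddCommGroup M] : Type u := CharacterModule M → AddCircle (1 : ℚ)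

lemma baer_amb (M : Type u) [AddCommGroup M] : Module.Baer ℤ (Amb M) :=
  Module.Baer.of_divisible _

theorem exists_embedding {M : Type u} [AddCommGroup M] [Module R M] {τ : Type u} [SetLike τ M] [AddSubgroupClass τ M]
    (ℳ : ι → τ) [DirectSum.Decomposition ℳ] [SetLike.GradedSMul 𝒜 ℳ] :
    ∃ (X : GrLC.GMod.{u} 𝒜) (ε : M →ₗ[R] X.carrier),
      GrLC.IsStarInj 𝒜 X.gr ∧ GrLC.IsGrHom ℳ X.gr ε ∧ Function.Injective ε := by
  let j : M →+ Amb M :=
    { toFun := fun m c => c m
      map_zero' := funext fun c => map_zero c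
      map_add' := fun a b => funext fun c => map_add c a b }
  refine ⟨cfObj 𝒜 (Amb M), thetaHom 𝒜 ℳ j, isStarInj_cfObj 𝒜 _ (baer_amb M), thetaHom_grHom 𝒜 ℳ j, ?_⟩
  rw [injective_iff_map_eq_zero]
  intro m hm
  rw [← sum_pr ℳ m]
  refine Finset.sum_eq_zero fun g _ => CharacterModule.eq_zero_of_character_apply fun c => ?_
  have := congrArg (fun z : (cfObj 𝒜 (Amb M)).carrier => cfVal 𝒜 (Amb M) z 1 g c) hm
  rw [map_zero] at this
  have e : theta (R := R) ℳ j m (1 : R) g c = c (pr ℳ g m) := by rw [theta_apply, one_smul]; rfl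
  rw [← e]
  exact this

/-- A stage: an object and a map into it. -/
structure Stage where
  X : GrLC.GMod.{u} 𝒜
  K : Submodule R X.carrier
  homog : Homog X.gr K

lemma Stage.exists_next (s : Stage 𝒜) : ∃ (X : GrLC.GMod.{u} 𝒜) (f : s.X.carrier →ₗ[R] X.carrier),
    GrLC.IsStarInj 𝒜 X.gr ∧ GrLC.IsGrHom s.X.gr X.gr f ∧ LinearMap.ker f = s.K := by
  letI := quotDec s.X.gr s.K s.homog
  obtain ⟨X, ε, hX, hε, hinj⟩ := exists_embedding 𝒜 (quotPiece s.X.gr s.K)
  refine ⟨X, ε ∘ₗ s.K.mkQ, hX, fun g x hx => hε _ _ (mkQ_grHom s.X.gr s.K g x hx), ?_⟩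
  rw [LinearMap.ker_comp, LinearMap.ker_eq_bot.2 hinj, Submodule.comap_bot, Submodule.ker_mkQ]

def Stage.next (s : Stage 𝒜) : Stage 𝒜 where
  X := s.exists_next.choose
  K := LinearMap.range s.exists_next.choose_spec.choose
  homog := homog_range _ _ s.exists_next.choose_spec.choose_spec.2.1

theorem nonempty_starInjRes {M : Type u} [AddCommGroup M] [Module R M] {τ : Type u} [SetLike τ M] [AddSubgroupClass τ M]
    (ℳ : ι → τ) [DirectSum.Decomposition ℳ] [SetLike.GradedSMul 𝒜 ℳ] : Nonempty (GrLC.StarInjRes 𝒜 ℳ) := by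
  obtain ⟨X, ε, hX, hε, hinj⟩ := exists_embedding 𝒜 ℳ
  let S : ℕ → Stage 𝒜 := fun n => Nat.rec ⟨X, LinearMap.range ε, homog_range _ _ hε⟩ (fun _ s => s.next) n
  refine ⟨{
    X := fun n => (S n).X
    d := fun n => (S n).exists_next.choose_spec.choose
    ε := ε
    d_grHom := fun n => (S n).exists_next.choose_spec.choose_spec.2.1
    ε_grHom := hε
    ε_injective := hinj
    exact_zero := (S 0).exists_next.choose_spec.choose_spec.2.2
    exact_succ := fun n => (S (n + 1)).exists_next.choose_spec.choose_spec.2.2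
    starInj := fun n => ?_ }⟩
  cases n with
  | zero => exact hX
  | succ n => exact (S n).exists_next.choose_spec.choose_spec.1

end Groth.Agent.GrLCLib
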