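import Groth.Agent.GrLCLib.TorsionGen

/-!
Graded local cohomology in the irrelevant ideal vanishes in high degrees.
-/

set_option autoImplicit false
set_option linter.unusedSectionVars false
set_option linter.style.haveILetI false
universe u

open scoped Classical
open DirectSum

noncomputable section

namespace Groth.Agent.GrLCLib

variable {R : Type u} [CommRing R] {σ : Type u} [SetLike σ R] [AddSubgroupClass σ R] {𝒜 : ℤ → σ} [GradedRing 𝒜]
variable {s : ℕ} {f : Fin s → R} {dg : Fin s → ℤ}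

/-- Homogeneous elements of large degree lie in a high power of the ideal. -/
theorem mem_pow_of_deg (hf : ∀ j, f j ∈ 𝒜 (dg j)) (a : Ideal R) (ha : a = Ideal.span (Set.range f))
    (hpos : ∀ e : ℤ, 0 < e → ∀ r ∈ 𝒜 e, r ∈ a) {δ : ℤ} (hδ : ∀ j, dg j ≤ δ) :
    ∀ (t : ℕ) {e : ℤ}, max δ 1 * t ≤ e → ∀ r ∈ 𝒜 e, r ∈ a ^ t := by
  intro t
  induction t with
  | zero => intro e _ r _; rw [pow_zero, Ideal.one_eq_top]; trivial
  | succ t ih =>
    intro e he r hr
    have h0 : (1 : ℤ) ≤ max δ 1 := le_max_right _ _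
    have ht : (0 : ℤ) ≤ max δ 1 * (t : ℤ) := mul_nonneg (by omega) (Int.natCast_nonneg t)
    push_cast at he
    rw [mul_add, mul_one] at he
    have hra := hpos e (by omega) r hr
    rw [ha] at hra
    obtain ⟨c, hc⟩ := (Submodule.mem_span_range_iff_exists_fun _).1 hra
    rw [← pr_of_mem 𝒜 hr, ← hc, map_sum]
    refine Ideal.sum_mem _ fun j _ => ?_
    rw [smul_eq_mul, mul_comm, ← smul_eq_mul, pr_smul 𝒜 𝒜 (hf j), smul_eq_mul, pow_succ']
    refine Ideal.mul_mem_mul (ha ▸ Ideal.subset_span ⟨j, rfl⟩) (ih ?_ _ (pr_mem _ _ _))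
    have := (hδ j).trans (le_max_left δ 1)
    omega

/-- Homogeneous prime avoidance. -/
theorem exists_homog_notMem_gen (a : Ideal R) (hf : ∀ j, f j ∈ 𝒜 (dg j)) (ha : a = Ideal.span (Set.range f))
    (hdg : ∀ j, 0 < dg j) (hne : 0 < s) : ∀ (c : ℕ) (S : Finset (Ideal R)), S.card = c →
    (∀ p ∈ S, p.IsPrime ∧ ¬ a ≤ p) →
    ∃ (m : ℕ) (x : R), 0 < m ∧ x ∈ 𝒜 (m : ℤ) ∧ x ∈ a ∧ ∀ p ∈ S, x ∉ p := by
  have hfj : ∀ j, ∃ (m : ℕ), 0 < m ∧ f j ∈ 𝒜 (m : ℤ) := fun j =>
    ⟨(dg j).toNat, by have := hdg j; omega, by rw [Int.toNat_of_nonneg (le_of_lt (hdg j))]; exact hf j⟩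
  have hfa : ∀ j, f j ∈ a := fun j => ha ▸ Ideal.subset_span ⟨j, rfl⟩
  intro c
  induction c with
  | zero =>
    intro S hS _
    obtain ⟨m, hm, hm'⟩ := hfj ⟨0, hne⟩
    exact ⟨m, f ⟨0, hne⟩, hm, hm', hfa _, fun p hp => by
      rw [Finset.card_eq_zero.1 hS] at hp; exact absurd hp (Finset.notMem_empty p)⟩
  | succ c ih =>
    intro S hS hprime
    obtain ⟨p, hp⟩ : S.Nonempty := Finset.card_pos.1 (by omega)
    have hc : (S.erase p).card = c := by rw [Finset.card_erase_of_mem hp]; omega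
    obtain ⟨m, x, hm, hx, hxa, hxq⟩ := ih (S.erase p) hc (fun q hq => hprime q (Finset.mem_of_mem_erase hq))
    by_cases hsp : x ∉ p
    · refine ⟨m, x, hm, hx, hxa, fun q hq => ?_⟩
      by_cases hqp : q = p
      · rwa [hqp]
      · exact hxq q (Finset.mem_erase.2 ⟨hqp, hq⟩)
    rw [not_not] at hsp
    by_cases hall : ∀ q ∈ S.erase p, ∃ (b : ℕ) (t : R), 0 < b ∧ t ∈ 𝒜 (b : ℤ) ∧ t ∈ a ∧ t ∈ q ∧ t ∉ p
    · obtain ⟨hpp, hpi⟩ := hprime p hp
      obtain ⟨j, hj⟩ : ∃ j, f j ∉ p := by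
        by_contra h
        push Not at h
        refine hpi ?_
        rw [ha]
        refine Ideal.span_le.2 ?_
        rintro _ ⟨j, rfl⟩
        exact h j
      have hu : ∀ T : Finset (Ideal R), (∀ q ∈ T, q ∈ S.erase p) →
          ∃ (b : ℕ) (t : R), 0 < b ∧ t ∈ 𝒜 (b : ℤ) ∧ t ∈ a ∧ (∀ q ∈ T, t ∈ q) ∧ t ∉ p := by
        intro T
        induction T using Finset.induction with
        | empty =>
          obtain ⟨b, hb, hb'⟩ := hfj j
          exact fun _ => ⟨b, f j, hb, hb', hfa j, by simp, hj⟩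
        | insert q T hqT ihT =>
          intro hT
          obtain ⟨b, t, hb, ht, hta, htq, htp⟩ := ihT fun q' hq' => hT q' (Finset.mem_insert_of_mem hq')
          obtain ⟨b', t', hb', ht', -, htq', htp'⟩ := hall q (hT q (Finset.mem_insert_self _ _))
          refine ⟨b + b', t * t', by omega, by simpa using SetLike.mul_mem_graded ht ht', Ideal.mul_mem_right _ _ hta,
            fun q' hq' => ?_, fun h => (hpp.mem_or_mem h).elim htp htp'⟩
          rcases Finset.mem_insert.1 hq' with rfl | h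
          · exact Ideal.mul_mem_left _ _ htq'
          · exact Ideal.mul_mem_right _ _ (htq q' h)
      obtain ⟨b, t, hb, ht, hta, htq, htp⟩ := hu (S.erase p) fun q hq => hq
      refine ⟨b * m, x ^ b + t ^ m, Nat.mul_pos hb hm, add_mem ?_ ?_,
        Ideal.add_mem _ (Ideal.pow_mem_of_mem _ hxa b hb) (Ideal.pow_mem_of_mem _ hta m hm), fun q hq => ?_⟩
      · simpa using SetLike.pow_mem_graded (A := 𝒜) b hx
      · simpa [mul_comm] using SetLike.pow_mem_graded (A := 𝒜) m ht
      · by_cases hqp : q = p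
        · subst hqp
          intro h
          exact htp (hpp.mem_of_pow_mem m ((Submodule.add_mem_iff_right q (Ideal.pow_mem_of_mem q hsp b hb)).1 h))
        · intro h
          have hqS := Finset.mem_erase.2 ⟨hqp, hq⟩
          exact hxq q hqS ((hprime q hq).1.mem_of_pow_mem b
            ((Submodule.add_mem_iff_left q (Ideal.pow_mem_of_mem q (htq q hqS) m hm)).1 h))
    · push Not at hall
      obtain ⟨q, hq, hqsub⟩ := hall
      obtain ⟨b, y, hb, hy, hya, hyS⟩ := ih (S.erase q) (by rw [Finset.card_erase_of_mem (Finset.mem_of_mem_erase hq)]; omega)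
        (fun q' hq' => hprime q' (Finset.mem_of_mem_erase hq'))
      refine ⟨b, y, hb, hy, hya, fun q' hq' => ?_⟩
      by_cases h : q' = q
      · rw [h]
        exact fun hyq => hyS p (Finset.mem_erase.2 ⟨(Finset.mem_erase.1 hq).1.symm, hp⟩) (hqsub b y hb hy hya hyq)
      · exact hyS q' (Finset.mem_erase.2 ⟨h, hq'⟩)

variable [IsNoetherianRing R]

lemma exists_kill_gam (a : Ideal R) (M : Type u) [AddCommGroup M] [Module R M] [Module.Finite R M] :
    ∃ N : ℕ, ∀ r ∈ a ^ N, ∀ x ∈ GrLC.gam a M, r • x = 0 := by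
  obtain ⟨S, hS⟩ : (GrLC.gam a M).FG := IsNoetherian.noetherian _
  have hmem : ∀ x ∈ S, x ∈ GrLC.gam a M := fun x hx => hS ▸ Submodule.subset_span hx
  choose N hN using hmem
  refine ⟨S.attach.sup fun x => N x.1 x.2, fun r hr x hx => ?_⟩
  rw [← hS] at hx
  induction hx using Submodule.span_induction with
  | mem y hy => exact hN y hy r (Ideal.pow_le_pow_right (Finset.le_sup (f := fun x => N x.1 x.2) (Finset.mem_attach _ ⟨y, hy⟩)) hr)
  | zero => exact smul_zero r
  | add u v _ _ hu hv => rw [smul_add, hu, hv, add_zero]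
  | smul c u _ hu => rw [smul_comm, hu, smul_zero]

lemma gam_quot_gam (a : Ideal R) {M : Type u} [AddCommGroup M] [Module R M] [Module.Finite R M]
    {q : M ⧸ GrLC.gam a M} (hq : q ∈ GrLC.gam a (M ⧸ GrLC.gam a M)) : q = 0 := by
  obtain ⟨m, rfl⟩ := Submodule.Quotient.mk_surjective _ q
  obtain ⟨t, ht⟩ := hq
  obtain ⟨N, hN⟩ := exists_kill_gam a M
  refine (Submodule.Quotient.mk_eq_zero _).2 ⟨N + t, fun r hr => ?_⟩
  rw [pow_add] at hr
  refine Submodule.mul_induction_on hr (fun p hp w hw => ?_) (fun p w hp hw => by rw [add_smul, hp, hw, add_zero])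
  rw [mul_smul]
  exact hN p hp _ ((Submodule.Quotient.mk_eq_zero _).1 (by rw [Submodule.Quotient.mk_smul]; exact ht w hw))

variable (hf : ∀ j, f j ∈ 𝒜 (dg j)) (hdg : ∀ j, 0 < dg j) (a : HomogeneousIdeal 𝒜)
  (ha : a.toIdeal = Ideal.span (Set.range f)) (hpos : ∀ e : ℤ, 0 < e → ∀ r ∈ 𝒜 e, r ∈ a.toIdeal)
  (hneg : ∀ e : ℤ, e < 0 → ∀ r ∈ 𝒜 e, r = 0)

include hf ha hpos hneg in
theorem exists_bound_gam {M : Type u} [AddCommGroup M] [Module R M] [Module.Finite R M]
    (ℳ : ℤ → AddSubgroup M) [DirectSum.Decomposition ℳ] [SetLike.GradedSMul 𝒜 ℳ] :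
    ∃ b : ℤ, ∀ e, b ≤ e → ∀ x ∈ ℳ e, x ∈ GrLC.gam a.toIdeal M → x = 0 := by
  obtain ⟨S, hS⟩ : (GrLC.gam a.toIdeal M).FG := IsNoetherian.noetherian _
  obtain ⟨N, hN⟩ := exists_kill_gam a.toIdeal M
  obtain ⟨δ, hδ⟩ := (Set.finite_range dg).bddAbove
  obtain ⟨D, hD⟩ := ((S.finite_toSet.biUnion fun y _ => (DirectSum.decompose ℳ y).support.finite_toSet) :
    (⋃ y ∈ (S : Set M), ((DirectSum.decompose ℳ y).support : Set ℤ)).Finite).bddAbove
  refine ⟨D + max δ 1 * N + 1, fun e he x hx hxt => ?_⟩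
  have key : ∀ y ∈ GrLC.gam a.toIdeal M, ∀ (g j : ℤ), ∀ c ∈ 𝒜 j, D + max δ 1 * N + 1 ≤ g + j → c • pr ℳ g y = 0 := by
    intro y hy
    rw [← hS] at hy
    induction hy using Submodule.span_induction with
    | mem y hy =>
      intro g j c hc hgj
      by_cases hg : g ∈ (DirectSum.decompose ℳ y).support
      · have hgD : g ≤ D := hD (Set.mem_biUnion hy hg)
        exact hN c (mem_pow_of_deg hf a.toIdeal ha hpos (fun j => hδ ⟨j, rfl⟩) N (by omega) c hc) _
          (homog_gam 𝒜 a y (hS ▸ Submodule.subset_span hy) g)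
      · have h0 : DirectSum.decompose ℳ y g = 0 := DFinsupp.notMem_support_iff.1 hg
        rw [show pr ℳ g y = 0 from congrArg Subtype.val h0, smul_zero]
    | zero => intro g j c _ _; rw [map_zero, smul_zero]
    | add u v _ _ hu hv => intro g j c hc h; rw [map_add, smul_add, hu g j c hc h, hv g j c hc h, add_zero]
    | smul r u _ hu =>
      induction r using DirectSum.Decomposition.inductionOn 𝒜 with
      | zero => intro g j c _ _; rw [zero_smul, map_zero, smul_zero]
      | @homogeneous i q =>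
        intro g j c hc h
        rw [pr_smul 𝒜 ℳ q.2, ← mul_smul]
        exact hu (g - i) (j + i) _ (SetLike.mul_mem_graded hc q.2) (by omega)
      | add q q' hq hq' =>
        intro g j c hc h
        rw [add_smul, map_add, smul_add, hq g j c hc h, hq' g j c hc h, add_zero]
  have := key x hxt e 0 1 (SetLike.one_mem_graded 𝒜) (by omega)
  rwa [one_smul, pr_of_mem ℳ hx] at this

include hf hdg ha hpos hneg in
theorem exists_van_high : ∀ (I : Ideal R) (M : GrLC.GMod.{u} 𝒜) [Module.Finite R M.carrier],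
    Module.annihilator R M.carrier = I → ∀ E : GrLC.StarInjRes 𝒜 M.gr,
    ∃ r : ℤ, ∀ (i : ℕ) (e : ℤ), r ≤ e → Van E a i e := by
  intro I
  induction I using IsNoetherian.induction with
  | hgt I ih =>
    intro M _ hI E
    obtain ⟨b, hb⟩ := exists_bound_gam hf a ha hpos hneg M.gr
    let K := GrLC.gam a.toIdeal M.carrier
    have hK : Homog M.gr K := homog_gam 𝒜 a
    let T := subObj 𝒜 M.gr K hK
    let Q := quotObj 𝒜 M.gr K hK
    let ιT : T.carrier →ₗ[R] M.carrier := K.subtype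
    let πQ : M.carrier →ₗ[R] Q.carrier := K.mkQ
    have hs : IsSES T.gr M.gr Q.gr ιT πQ :=
      ⟨Submodule.injective_subtype _, Submodule.mkQ_surjective _, (Submodule.range_subtype _).trans (Submodule.ker_mkQ _).symm,
        subtype_grHom M.gr K, mkQ_grHom M.gr K⟩
    obtain ⟨ET⟩ := nonempty_starInjRes 𝒜 T.gr
    obtain ⟨EQ⟩ := nonempty_starInjRes 𝒜 Q.gr
    have hTt : GrLC.gam a.toIdeal T.carrier = ⊤ := eq_top_iff.2 fun x _ =>
      mem_gam_of_injective (f := ιT) (Submodule.injective_subtype _) x.2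
    suffices hQ : ∃ r : ℤ, ∀ (i : ℕ) (e : ℤ), r ≤ e → Van EQ a (i + 1) e by
      obtain ⟨r, hr⟩ := hQ
      refine ⟨max r b, fun i e he => ?_⟩
      cases i with
      | zero => exact (van_zero_iff E a e).2 fun x hx hxt => hb e (le_of_max_le_right he) x hx hxt
      | succ i => exact van_mid hs ET E EQ a (van_succ_of_gam_eq_top ET a hTt i e) (hr i e (le_of_max_le_left he))
    rcases subsingleton_or_nontrivial (M.carrier ⧸ K) with hQ | hQ
    · exact ⟨0, fun i e _ => van_succ_of_gam_eq_top EQ a (eq_top_iff.2 fun q _ => by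
        rw [show q = 0 from @Subsingleton.elim _ hQ q 0]; exact Submodule.zero_mem _) i e⟩
    have hne : 0 < s := by
      rcases Nat.eq_zero_or_pos s with rfl | h
      · exfalso
        obtain ⟨q, hq⟩ := exists_ne (0 : M.carrier ⧸ K)
        refine hq (gam_quot_gam a.toIdeal ⟨1, fun r hr => ?_⟩)
        rw [pow_one, ha, Set.range_eq_empty, Ideal.span_empty, Ideal.mem_bot] at hr
        rw [hr, zero_smul]
      · exact h
    have hfin := associatedPrimes.finite R (M.carrier ⧸ K)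
    obtain ⟨m, x, hm, hx, hxa, hnot⟩ := exists_homog_notMem_gen a.toIdeal hf ha hdg hne _ hfin.toFinset rfl (fun p hp => by
      have hp' : IsAssociatedPrime p (M.carrier ⧸ K) := hfin.mem_toFinset.1 hp
      refine ⟨hp'.isPrime, fun hle => ?_⟩
      obtain ⟨hpr, y, hy⟩ := isAssociatedPrime_iff.1 hp'
      have : y = 0 := gam_quot_gam a.toIdeal ⟨1, fun r hr => by
        rw [pow_one] at hr
        have := hle hr
        rw [hy] at this
        simpa using this⟩
      refine hpr.ne_top ((Ideal.eq_top_iff_one p).2 ?_)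
      rw [hy, this]
      simp)
    have hreg : IsSMulRegular (M.carrier ⧸ K) x := IsSMulRegular.of_right_eq_zero_of_smul fun y hy => by
      by_contra hy0
      have : x ∈ ⋃ p ∈ associatedPrimes R (M.carrier ⧸ K), (p : Set R) := by
        rw [biUnion_associatedPrimes_eq_zero_divisors]
        exact ⟨y, hy0, hy⟩
      obtain ⟨p, hp, hxp⟩ := Set.mem_iUnion₂.1 this
      exact hnot p (hfin.mem_toFinset.2 hp) hxp
    let μ : Q.carrier →ₗ[R] Q.carrier := x • LinearMap.id
    letI := shiftDec Q.gr (-(m : ℤ))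
    have hμ : GrLC.IsGrHom (shiftPiece Q.gr (-(m : ℤ))) Q.gr μ := fun g y hy => by
      have h1 := smul_mem 𝒜 Q.gr hx (mem_shiftPiece.1 hy)
      rwa [show (m : ℤ) + (g + -(m : ℤ)) = g by ring] at h1
    have hL : Homog Q.gr (LinearMap.range μ) := homog_range (shiftPiece Q.gr (-(m : ℤ))) Q.gr hμ
    let L := quotObj 𝒜 Q.gr (LinearMap.range μ) hL
    let πL : Q.carrier →ₗ[R] L.carrier := (LinearMap.range μ).mkQ
    have hs' : IsSES (shiftPiece Q.gr (-(m : ℤ))) Q.gr L.gr μ πL :=
      ⟨fun _ _ h => hreg h, Submodule.mkQ_surjective _, (Submodule.ker_mkQ _).symm, hμ, mkQ_grHom Q.gr _⟩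
    haveI : Module.Finite R Q.carrier := inferInstanceAs (Module.Finite R (M.carrier ⧸ K))
    haveI : Module.Finite R L.carrier := inferInstanceAs (Module.Finite R (Q.carrier ⧸ LinearMap.range μ))
    obtain ⟨EL⟩ := nonempty_starInjRes 𝒜 L.gr
    have hlt : I < Module.annihilator R L.carrier := by
      rw [← hI]
      refine lt_of_le_of_lt (LinearMap.annihilator_le_of_surjective πQ (Submodule.mkQ_surjective _))
        (lt_of_le_of_ne (LinearMap.annihilator_le_of_surjective πL (Submodule.mkQ_surjective _)) fun he => ?_)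
      have hx' : x ∈ Module.annihilator R L.carrier := Module.mem_annihilator.2 fun q => by
        obtain ⟨y, rfl⟩ := Submodule.mkQ_surjective (LinearMap.range μ) q
        exact (map_smul πL x y).symm.trans ((Submodule.Quotient.mk_eq_zero (LinearMap.range μ)).2 ⟨y, rfl⟩)
      rw [← he] at hx'
      obtain ⟨q, hq⟩ := exists_ne (0 : M.carrier ⧸ K)
      exact hq (hreg ((Module.mem_annihilator.1 hx' q).trans (smul_zero x).symm))
    obtain ⟨r, hr⟩ := ih _ hlt L rfl EL
    refine ⟨r - m, fun i e he z hz hzc => ?_⟩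
    let φ : RMap (shiftRes EQ (-(m : ℤ))) EQ μ :=
      { φ := fun i => x • (LinearMap.id : (EQ.X i).carrier →ₗ[R] (EQ.X i).carrier)
        gr := fun i g y hy => by
          have h1 := smul_mem 𝒜 (EQ.X i).gr hx (show y ∈ (EQ.X i).gr (g + -(m : ℤ)) from hy)
          rwa [show (m : ℤ) + (g + -(m : ℤ)) = g by ring] at h1
        ε := fun y => (map_smul EQ.ε x y).symm
        comm := fun i y => (map_smul (EQ.d i) x y).symm }
    have step : ∀ (N : ℕ) (e : ℤ) (z : (EQ.X (i + 1)).carrier), r - m ≤ e → z ∈ (EQ.X (i + 1)).gr e →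
        z ∈ EQ.cocyc a (i + 1) → x ^ N • z ∈ EQ.cobdy a (i + 1) → z ∈ EQ.cobdy a (i + 1) := by
      intro N
      induction N with
      | zero => intro e z _ _ _ hz; simpa using hz
      | succ N ihN =>
        intro e z he hz hzc hN
        have h1 : x • z ∈ EQ.cobdy a (i + 1) :=
          ihN ((m : ℤ) + e) _ (by omega) (smul_mem 𝒜 (EQ.X (i + 1)).gr hx hz) (Submodule.smul_mem _ _ hzc)
            (by rwa [← mul_smul, ← pow_succ])
        exact mem_cobdy_left hs' (shiftRes EQ (-(m : ℤ))) EQ EL a (hr i (e + m) (by omega)) φ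
          (show z ∈ (EQ.X (i + 1)).gr (e + m + -(m : ℤ)) by rwa [add_neg_cancel_right]) hzc h1
    obtain ⟨N, hN⟩ := hzc.1
    refine step N e z he hz hzc ?_
    rw [hN _ (Ideal.pow_mem_pow hxa N)]
    exact Submodule.zero_mem _

end Groth.Agent.GrLCLib
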