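import Groth.Agent.GrLCLib.Cone

/-!
Vanishing of graded local cohomology along short exact sequences.
-/

set_option autoImplicit false
set_option linter.unusedSectionVars false
universe u

open scoped Classical
open DirectSum

noncomputable section

namespace Groth.Agent.GrLCLib

variable {ι : Type} [AddCommGroup ι] [DecidableEq ι]
variable {R : Type u} [CommRing R] {σ : Type u} [SetLike σ R] [AddSubgroupClass σ R] {𝒜 : ι → σ} [GradedRing 𝒜]
variable {MA : Type u} [AddCommGroup MA] [Module R MA] {τA : Type u} [SetLike τA MA] [AddSubgroupClass τA MA]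
  {ℳA : ι → τA} [DirectSum.Decomposition ℳA] [SetLike.GradedSMul 𝒜 ℳA]
variable {MB : Type u} [AddCommGroup MB] [Module R MB] {τB : Type u} [SetLike τB MB] [AddSubgroupClass τB MB]
  {ℳB : ι → τB} [DirectSum.Decomposition ℳB] [SetLike.GradedSMul 𝒜 ℳB]
variable {MC : Type u} [AddCommGroup MC] [Module R MC] {τC : Type u} [SetLike τC MC] [AddSubgroupClass τC MC]
  {ℳC : ι → τC} [DirectSum.Decomposition ℳC] [SetLike.GradedSMul 𝒜 ℳC]

/-- A short exact sequence of graded modules. -/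
structure IsSES (ℳA : ι → τA) (ℳB : ι → τB) (ℳC : ι → τC) (f : MA →ₗ[R] MB) (g : MB →ₗ[R] MC) : Prop where
  inj : Function.Injective f
  surj : Function.Surjective g
  exact : LinearMap.range f = LinearMap.ker g
  grf : GrLC.IsGrHom ℳA ℳB f
  grg : GrLC.IsGrHom ℳB ℳC g

variable {f : MA →ₗ[R] MB} {g : MB →ₗ[R] MC} (hs : IsSES ℳA ℳB ℳC f g)
  (EA : GrLC.StarInjRes 𝒜 ℳA) (EB : GrLC.StarInjRes 𝒜 ℳB) (EC : GrLC.StarInjRes 𝒜 ℳC)
  (a : HomogeneousIdeal 𝒜)

include hs in
/-- vanishing for the middle and the next left term gives it for the right term -/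
theorem van_right {i : ℕ} {e : ι} (hB : Van EB a i e) (hA : Van EA a (i + 1) e) : Van EC a i e := by
  obtain ⟨φ⟩ := exists_rmap EA EB f hs.grf
  obtain ⟨r, hr, hrj⟩ := exists_retraction φ hs.inj
  refine van_congr (coneRes φ r hr hrj g hs.surj hs.exact hs.grg) EC a i e ?_
  cases i with
  | zero =>
    refine van_cone_zero φ r hr hrj g hs.surj hs.exact hs.grg a fun x hx hxg hxd => ?_
    obtain ⟨p, q⟩ := x
    rw [dW_apply] at hxd
    have hp : EA.d (0 + 1) p = 0 := neg_eq_zero.1 (congrArg Prod.fst hxd)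
    have hq : EB.d 0 q + φ.φ (0 + 1) p = 0 := congrArg Prod.snd hxd
    have hpg : p ∈ GrLC.gam a.toIdeal _ := map_mem_gam (LinearMap.fst R _ _) hxg
    have hqg : q ∈ GrLC.gam a.toIdeal _ := map_mem_gam (LinearMap.snd R _ _) hxg
    obtain ⟨p', hp', hp'g, hpp⟩ := exists_of_mem_cobdy EA a (hA p hx.1 ⟨hpg, hp⟩) hx.1
    have hz := (Submodule.mem_bot R).1 (hB (q + φ.φ 0 p') (add_mem hx.2 (φ.gr 0 e p' hp'))
      ⟨Submodule.add_mem _ hqg (map_mem_gam _ hp'g), (show EB.d 0 (q + φ.φ 0 p') = 0 from by rw [map_add, ← φ.comm, hpp, hq])⟩)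
    refine ⟨-p', ?_⟩
    rw [jW_apply, map_neg, neg_neg, hpp, map_neg, ← eq_neg_of_add_eq_zero_left hz]
  | succ i =>
    refine van_cone_succ φ r hr hrj g hs.surj hs.exact hs.grg a fun x hx hxg hxd => ?_
    obtain ⟨p, q⟩ := x
    rw [dW_apply] at hxd
    have hp : EA.d (i + 1 + 1) p = 0 := neg_eq_zero.1 (congrArg Prod.fst hxd)
    have hq : EB.d (i + 1) q + φ.φ (i + 1 + 1) p = 0 := congrArg Prod.snd hxd
    have hpg : p ∈ GrLC.gam a.toIdeal _ := map_mem_gam (LinearMap.fst R _ _) hxg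
    have hqg : q ∈ GrLC.gam a.toIdeal _ := map_mem_gam (LinearMap.snd R _ _) hxg
    obtain ⟨p', hp', hp'g, hpp⟩ := exists_of_mem_cobdy EA a (hA p hx.1 ⟨hpg, hp⟩) hx.1
    have hz := hB (q + φ.φ (i + 1) p') (add_mem hx.2 (φ.gr (i + 1) e p' hp'))
      ⟨Submodule.add_mem _ hqg (map_mem_gam _ hp'g), (show EB.d (i + 1) (q + φ.φ (i + 1) p') = 0 from by rw [map_add, ← φ.comm, hpp, hq])⟩
    obtain ⟨q', hq', hqq⟩ := hz
    refine ⟨(-p', q'), mem_gam_prod a (Submodule.neg_mem _ hp'g) hq', ?_⟩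
    rw [dW_apply, map_neg, neg_neg, hpp, map_neg, hqq, add_neg_cancel_right]

include hs in
/-- vanishing for the outer terms gives it for the middle one -/
theorem van_mid {i : ℕ} {e : ι} (hA : Van EA a i e) (hC : Van EC a i e) : Van EB a i e := by
  obtain ⟨φ⟩ := exists_rmap EA EB f hs.grf
  obtain ⟨r, hr, hrj⟩ := exists_retraction φ hs.inj
  replace hC := van_congr EC (coneRes φ r hr hrj g hs.surj hs.exact hs.grg) a i e hC
  intro z hz hzc
  have hx : dW φ i (0, z) = 0 := by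
    rw [dW_apply, map_zero, map_zero, neg_zero, add_zero, show EB.d i z = 0 from hzc.2]
    rfl
  cases i with
  | zero =>
    obtain ⟨a', ha', ha'g, hja⟩ := pair_zero_of_van φ r hr hrj g hs.surj hs.exact hs.grg a hC (0, z)
      ⟨zero_mem _, hz⟩ (mem_gam_prod a (Submodule.zero_mem _) hzc.1) hx
    rw [jW_apply] at hja
    have h1 : EA.d 0 a' = 0 := neg_eq_zero.1 (congrArg Prod.fst hja)
    have h2 := (Submodule.mem_bot R).1 (hA a' ha' ⟨ha'g, h1⟩)
    have h3 : φ.φ 0 a' = z := congrArg Prod.snd hja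
    rw [← h3, h2, map_zero]
    exact Submodule.zero_mem _
  | succ i =>
    obtain ⟨w, hw, hwg, hwd⟩ := pair_succ_of_van φ r hr hrj g hs.surj hs.exact hs.grg a hC (0, z)
      ⟨zero_mem _, hz⟩ (mem_gam_prod a (Submodule.zero_mem _) hzc.1) hx
    obtain ⟨p, q⟩ := w
    rw [dW_apply] at hwd
    have hp : EA.d (i + 1) p = 0 := neg_eq_zero.1 (congrArg Prod.fst hwd)
    obtain ⟨p', -, hp'g, hpp⟩ := exists_of_mem_cobdy EA a (hA p hw.1 ⟨map_mem_gam (LinearMap.fst R _ _) hwg, hp⟩) hw.1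
    refine ⟨q + φ.φ i p', Submodule.add_mem _ (map_mem_gam (LinearMap.snd R _ _) hwg) (map_mem_gam _ hp'g), ?_⟩
    rw [map_add, ← φ.comm, hpp]
    exact congrArg Prod.snd hwd

include hs in
/-- vanishing for the right term makes the next left map injective -/
theorem mem_cobdy_left {i : ℕ} {e : ι} (hC : Van EC a i e) (φ : RMap EA EB f) {z : (EA.X (i + 1)).carrier}
    (hz : z ∈ (EA.X (i + 1)).gr e) (hzc : z ∈ EA.cocyc a (i + 1)) (hφ : φ.φ (i + 1) z ∈ EB.cobdy a (i + 1)) :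
    z ∈ EA.cobdy a (i + 1) := by
  obtain ⟨r, hr, hrj⟩ := exists_retraction φ hs.inj
  replace hC := van_congr EC (coneRes φ r hr hrj g hs.surj hs.exact hs.grg) a i e hC
  obtain ⟨w, hw, hwg, hwd⟩ := exists_of_mem_cobdy EB a hφ (φ.gr (i + 1) e z hz)
  have hx : dW φ i (z, -w) = 0 := by
    rw [dW_apply, show EA.d (i + 1) z = 0 from hzc.2, neg_zero, map_neg, hwd, neg_add_cancel]
    rfl
  cases i with
  | zero =>
    obtain ⟨a', -, ha'g, hja⟩ := pair_zero_of_van φ r hr hrj g hs.surj hs.exact hs.grg a hC (z, -w)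
      ⟨hz, ((EB.X 0).gr e).neg_mem hw⟩ (mem_gam_prod a hzc.1 (Submodule.neg_mem _ hwg)) hx
    refine ⟨-a', Submodule.neg_mem _ ha'g, ?_⟩
    rw [map_neg]
    exact congrArg Prod.fst hja
  | succ i =>
    obtain ⟨v, -, hvg, hvd⟩ := pair_succ_of_van φ r hr hrj g hs.surj hs.exact hs.grg a hC (z, -w)
      ⟨hz, ((EB.X (i + 1)).gr e).neg_mem hw⟩ (mem_gam_prod a hzc.1 (Submodule.neg_mem _ hwg)) hx
    obtain ⟨p, q⟩ := v
    refine ⟨-p, Submodule.neg_mem _ (map_mem_gam (LinearMap.fst R _ _) hvg), ?_⟩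
    rw [map_neg]
    exact congrArg Prod.fst hvd

include hs in
/-- vanishing for the middle and the previous right term gives it for the left term -/
theorem van_left {i : ℕ} {e : ι} (hC : Van EC a i e) (hB : Van EB a (i + 1) e) : Van EA a (i + 1) e := by
  obtain ⟨φ⟩ := exists_rmap EA EB f hs.grf
  intro z hz hzc
  exact mem_cobdy_left hs EA EB EC a hC φ hz hzc (hB _ (φ.gr _ e z hz) (φ.map_cocyc a hzc))

include hs in
theorem van_left_zero {e : ι} (hB : Van EB a 0 e) : Van EA a 0 e := by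
  obtain ⟨φ⟩ := exists_rmap EA EB f hs.grf
  intro z hz hzc
  obtain ⟨m, rfl⟩ : z ∈ LinearMap.range EA.ε := by rw [← EA.exact_zero]; exact hzc.2
  have h := (Submodule.mem_bot R).1 (hB _ (φ.gr 0 e _ hz) (φ.map_cocyc a hzc))
  rw [φ.ε] at h
  rw [hs.inj ((EB.ε_injective (h.trans (map_zero _).symm)).trans (map_zero f).symm), map_zero]
  exact Submodule.zero_mem _

end Groth.Agent.GrLCLib
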