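import Groth.Agent.GrLCLib.Baer
import Groth.Agent.GrLCLib.SES

/-!
Torsion modules over a Noetherian graded ring have no higher graded local cohomology;
retracts.
-/

set_option autoImplicit false
set_option linter.unusedSectionVars false
set_option linter.style.haveILetI false
universe u

open scoped Classical
open DirectSum

noncomputable section

namespace Groth.Agent.GrLCLib

variable {ι : Type} [AddCommGroup ι] [DecidableEq ι]
variable {R : Type u} [CommRing R] {σ : Type u} [SetLike σ R] [AddSubgroupClass σ R] {𝒜 : ι → σ} [GradedRing 𝒜]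

section Splice

variable {M : Type u} [AddCommGroup M] [Module R M] {τ : Type u} [SetLike τ M] [AddSubgroupClass τ M]
  {ℳ : ι → τ} [DirectSum.Decomposition ℳ] [SetLike.GradedSMul 𝒜 ℳ]

variable {I Q : GrLC.GMod.{u} 𝒜} {ε : M →ₗ[R] I.carrier} {π : I.carrier →ₗ[R] Q.carrier}

/-- The terms of a spliced resolution. -/
def spliceX (I : GrLC.GMod.{u} 𝒜) (EQ : GrLC.StarInjRes 𝒜 Q.gr) : ℕ → GrLC.GMod.{u} 𝒜
  | 0 => I
  | i + 1 => EQ.X i

/-- The differentials of a spliced resolution. -/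
def spliceD (π : I.carrier →ₗ[R] Q.carrier) (EQ : GrLC.StarInjRes 𝒜 Q.gr) :
    (i : ℕ) → (spliceX I EQ i).carrier →ₗ[R] (spliceX I EQ (i + 1)).carrier
  | 0 => EQ.ε ∘ₗ π
  | i + 1 => EQ.d i

/-- A resolution from one step and a resolution of the cokernel. -/
def splice (hI : GrLC.IsStarInj 𝒜 I.gr) (hε : GrLC.IsGrHom ℳ I.gr ε) (hεi : Function.Injective ε)
    (hπ : GrLC.IsGrHom I.gr Q.gr π) (hπs : Function.Surjective π) (hex : LinearMap.ker π = LinearMap.range ε)
    (EQ : GrLC.StarInjRes 𝒜 Q.gr) : GrLC.StarInjRes 𝒜 ℳ where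
  X := spliceX I EQ
  d := spliceD π EQ
  ε := ε
  d_grHom
    | 0 => fun e x hx => EQ.ε_grHom e _ (hπ e x hx)
    | i + 1 => EQ.d_grHom i
  ε_grHom := hε
  ε_injective := hεi
  exact_zero := by
    show LinearMap.ker (EQ.ε ∘ₗ π) = LinearMap.range ε
    rw [LinearMap.ker_comp, LinearMap.ker_eq_bot.2 EQ.ε_injective, Submodule.comap_bot, hex]
  exact_succ
    | 0 => by
      show LinearMap.ker (EQ.d 0) = LinearMap.range (EQ.ε ∘ₗ π)
      rw [LinearMap.range_comp, LinearMap.range_eq_top.2 hπs, Submodule.map_top, EQ.exact_zero]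
    | i + 1 => EQ.exact_succ i
  starInj
    | 0 => hI
    | i + 1 => EQ.starInj i

end Splice

/-- Higher cohomology of a torsion object vanishes. -/
theorem van_succ_obj [IsNoetherianRing R] (a : HomogeneousIdeal 𝒜) : ∀ (i : ℕ) (M : GrLC.GMod.{u} 𝒜)
    (E : GrLC.StarInjRes 𝒜 M.gr), GrLC.gam a.toIdeal M.carrier = ⊤ → ∀ g, Van E a (i + 1) g := by
  intro i
  induction i with
  | zero | succ i ih =>
    intro M E hM g
    obtain ⟨X, ε, hX, hε, hinj⟩ := exists_embedding 𝒜 M.gr
    let I := gamObj 𝒜 a X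
    let ε' : M.carrier →ₗ[R] I.carrier :=
      ε.codRestrict (GrLC.gam a.toIdeal X.carrier) fun m => map_mem_gam ε (hM ▸ Submodule.mem_top)
    have hε' : GrLC.IsGrHom M.gr I.gr ε' := hε
    have hε'i : Function.Injective ε' := fun x y h => hinj (congrArg Subtype.val h :)
    have hK : Homog I.gr (LinearMap.range ε') := homog_range M.gr I.gr hε'
    let Q := quotObj 𝒜 I.gr (LinearMap.range ε') hK
    let π : I.carrier →ₗ[R] Q.carrier := (LinearMap.range ε').mkQ
    obtain ⟨EQ⟩ := nonempty_starInjRes 𝒜 Q.gr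
    let S := splice (isStarInj_gamObj 𝒜 a hX) hε' hε'i (mkQ_grHom I.gr _) (Submodule.mkQ_surjective _)
      (Submodule.ker_mkQ _) EQ
    have hIt : ∀ x : I.carrier, x ∈ GrLC.gam a.toIdeal I.carrier := fun x =>
      mem_gam_of_injective (f := (GrLC.gam a.toIdeal X.carrier).subtype) (Submodule.injective_subtype _) x.2
    have hQt : GrLC.gam a.toIdeal Q.carrier = ⊤ := eq_top_iff.2 fun q _ => by
      obtain ⟨x, rfl⟩ := Submodule.mkQ_surjective (LinearMap.range ε') q
      exact map_mem_gam π (hIt x)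
    refine van_congr S E a _ g fun z hz hzc => ?_
    first
    | exact ih Q EQ hQt g z hz hzc
    | obtain ⟨q, hq⟩ : z ∈ LinearMap.range EQ.ε := by rw [← EQ.exact_zero]; exact hzc.2
      obtain ⟨x, rfl⟩ := Submodule.mkQ_surjective (LinearMap.range ε') q
      exact ⟨x, hIt x, hq⟩

variable {M : Type u} [AddCommGroup M] [Module R M] {τ : Type u} [SetLike τ M] [AddSubgroupClass τ M]
  {ℳ : ι → τ} [DirectSum.Decomposition ℳ] [SetLike.GradedSMul 𝒜 ℳ]

theorem van_succ_of_gam_eq_top [IsNoetherianRing R] (E : GrLC.StarInjRes 𝒜 ℳ) (a : HomogeneousIdeal 𝒜)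
    (hM : GrLC.gam a.toIdeal M = ⊤) (i : ℕ) (g : ι) : Van E a (i + 1) g :=
  van_succ_obj a i (objOf 𝒜 ℳ)
    { X := E.X, d := E.d, ε := E.ε, d_grHom := E.d_grHom, ε_grHom := E.ε_grHom, ε_injective := E.ε_injective,
      exact_zero := E.exact_zero, exact_succ := E.exact_succ, starInj := E.starInj } hM g

section Family

variable {J : Type} [Fintype J] (P : J → GrLC.GMod.{u} 𝒜) (EP : ∀ j, GrLC.StarInjRes 𝒜 (P j).gr)
  (E : GrLC.StarInjRes 𝒜 ℳ) (a : HomogeneousIdeal 𝒜)

/-- A module that is a summand of finitely many modules with vanishing cohomology has vanishing cohomology. -/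
theorem van_of_family (f : ∀ j, (P j).carrier →ₗ[R] M) (g : ∀ j, M →ₗ[R] (P j).carrier)
    (hf : ∀ j, GrLC.IsGrHom (P j).gr ℳ (f j)) (hg : ∀ j, GrLC.IsGrHom ℳ (P j).gr (g j))
    (hid : ∀ m, ∑ j, f j (g j m) = m) {i : ℕ} {e : ι} (h : ∀ j, Van (EP j) a i e) : Van E a i e := by
  choose φ hφ using fun j => (⟨(exists_rmap E (EP j) (g j) (hg j)).some, trivial⟩ : ∃ _ : RMap E (EP j) (g j), True)
  choose ψ hψ using fun j => (⟨(exists_rmap (EP j) E (f j) (hf j)).some, trivial⟩ : ∃ _ : RMap (EP j) E (f j), True)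
  let χ : RMap E E (0 : M →ₗ[R] M) :=
    { φ := fun i => (∑ j, (ψ j).φ i ∘ₗ (φ j).φ i) - LinearMap.id
      gr := fun i e x hx => by
        rw [LinearMap.sub_apply, LinearMap.sum_apply]
        exact sub_mem (sum_mem fun j _ => (ψ j).gr i e _ ((φ j).gr i e x hx)) hx
      ε := fun m => by
        rw [LinearMap.sub_apply, LinearMap.sum_apply]
        simp only [LinearMap.comp_apply, (φ _).ε, (ψ _).ε, LinearMap.id_apply]
        rw [← map_sum, hid, sub_self, LinearMap.zero_apply, map_zero]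
      comm := fun i x => by
        simp only [LinearMap.sub_apply, LinearMap.sum_apply, LinearMap.comp_apply, (φ _).comm, (ψ _).comm,
          LinearMap.id_apply, map_sub, map_sum] }
  obtain ⟨h0, -, h00, h01⟩ := exists_null E E χ rfl
  intro z hz hzc
  have hsum : (∑ j, (ψ j).φ i ((φ j).φ i z)) ∈ E.cobdy a i :=
    Submodule.sum_mem _ fun j _ => (ψ j).map_cobdy a (h j _ ((φ j).gr i e z hz) ((φ j).map_cocyc a hzc))
  have hdiff : χ.φ i z ∈ E.cobdy a i := by
    cases i with
    | zero =>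
      rw [h00, show E.d 0 z = 0 from hzc.2, map_zero]
      exact Submodule.zero_mem _
    | succ i =>
      rw [h01, show E.d (i + 1) z = 0 from hzc.2, map_zero, add_zero]
      exact ⟨h0 i z, map_mem_gam _ hzc.1, rfl⟩
  have e : z = (∑ j, (ψ j).φ i ((φ j).φ i z)) - χ.φ i z := by
    simp [χ]
  rw [e]
  exact Submodule.sub_mem _ hsum hdiff

end Family

section Retract

variable {N : Type u} [AddCommGroup N] [Module R N] {τ' : Type u} [SetLike τ' N] [AddSubgroupClass τ' N]
  {𝒩 : ι → τ'} [DirectSum.Decomposition 𝒩] [SetLike.GradedSMul 𝒜 𝒩]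

/-- A retract inherits vanishing. -/
theorem van_retract (E : GrLC.StarInjRes 𝒜 ℳ) (E' : GrLC.StarInjRes 𝒜 𝒩) (a : HomogeneousIdeal 𝒜)
    (f : N →ₗ[R] M) (g : M →ₗ[R] N) (hf : GrLC.IsGrHom 𝒩 ℳ f) (hg : GrLC.IsGrHom ℳ 𝒩 g)
    (hid : ∀ m, f (g m) = m) {i : ℕ} {e : ι} (h : Van E' a i e) : Van E a i e := by
  refine van_of_family (J := Unit) (fun _ => objOf 𝒜 𝒩)
    (fun _ => { X := E'.X, d := E'.d, ε := E'.ε, d_grHom := E'.d_grHom, ε_grHom := E'.ε_grHom,
                ε_injective := E'.ε_injective, exact_zero := E'.exact_zero, exact_succ := E'.exact_succ,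
                starInj := E'.starInj }) E a (fun _ => f) (fun _ => g) (fun _ => hf) (fun _ => hg) (fun m => (Fintype.sum_unique _).trans (hid m)) fun _ => h

end Retract

end Groth.Agent.GrLCLib
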