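import Groth.Agent.GrLCLib.EndDeg
import Groth.Agent.GrLCLib.TorsionGen
import Groth.Agent.GrLCLib.Bridge

/-!
The end of local cohomology and homogeneous regular sequences.
-/

set_option autoImplicit false
set_option linter.unusedSectionVars false
set_option linter.style.haveILetI false
universe u

open scoped Classical Pointwise
open DirectSum

noncomputable section

namespace Groth.Agent.GrLCLib

lemma eq_add_of_le_iff {x y : WithBot (WithTop ℤ)} {k : ℤ}
    (h : ∀ D : ℤ, x ≤ ((D : WithTop ℤ) : WithBot (WithTop ℤ)) ↔ y ≤ (((D - k : ℤ) : WithTop ℤ) : WithBot (WithTop ℤ))) :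
    x = y + ((k : WithTop ℤ) : WithBot (WithTop ℤ)) := by
  induction y with
  | bot =>
    induction x with
    | bot => simp
    | coe x =>
      induction x with
      | top =>
        have h2 := (h 0).2 bot_le
        rw [WithBot.coe_le_coe] at h2
        exact absurd h2 (by simp)
      | coe x =>
        have h2 := (h (x - 1)).2 bot_le
        rw [WithBot.coe_le_coe, WithTop.coe_le_coe] at h2
        omega
  | coe y =>
    induction x with
    | bot =>
      induction y with
      | top =>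
        have h2 := (h 0).1 bot_le
        rw [WithBot.coe_le_coe] at h2
        exact absurd h2 (by simp)
      | coe y =>
        have h2 := (h (y + k - 1)).1 bot_le
        rw [WithBot.coe_le_coe, WithTop.coe_le_coe] at h2
        omega
    | coe x =>
      rw [← WithBot.coe_add, WithBot.coe_inj]
      induction x with
      | top =>
        induction y with
        | top => simp
        | coe y =>
          have h2 := (h (y + k)).2 (by simp)
          rw [WithBot.coe_le_coe] at h2
          exact absurd h2 (by simp)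
      | coe x =>
        induction y with
        | top =>
          have h2 := (h x).1 le_rfl
          rw [WithBot.coe_le_coe] at h2
          exact absurd h2 (by simp)
        | coe y =>
          have h1 := (h x).1 le_rfl
          have h2 := (h (y + k)).2 (by simp)
          rw [WithBot.coe_le_coe, WithTop.coe_le_coe] at h1 h2
          rw [← WithTop.coe_add, WithTop.coe_inj]
          omega

variable {R : Type u} [CommRing R] {𝒜 : ℤ → AddSubgroup R} [GradedRing 𝒜]
variable {M : Type u} [AddCommGroup M] [Module R M] {ℳ : ℤ → AddSubgroup M} [DirectSum.Decomposition ℳ]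
  [SetLike.GradedSMul 𝒜 ℳ]
variable {N : Type u} [AddCommGroup N] [Module R N] {𝒩 : ℤ → AddSubgroup N} [DirectSum.Decomposition 𝒩]
  [SetLike.GradedSMul 𝒜 𝒩]

lemma mul_grHom {x : R} {k : ℤ} (hx : x ∈ 𝒜 k) :
    GrLC.IsGrHom (shiftPiece ℳ (-k)) ℳ (x • LinearMap.id : M →ₗ[R] M) := fun g y hy => by
  have h1 := smul_mem 𝒜 ℳ hx (mem_shiftPiece.1 hy)
  rwa [show k + (g + -k) = g by ring] at h1

section Step

variable (a : HomogeneousIdeal 𝒜) (EM : GrLC.StarInjRes 𝒜 ℳ) (EN : GrLC.StarInjRes 𝒜 𝒩)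
  {x : R} {k : ℤ} (hxk : x ∈ 𝒜 k) (hreg : IsSMulRegular M x) {π : M →ₗ[R] N} (hπ : GrLC.IsGrHom ℳ 𝒩 π)
  (hπs : Function.Surjective π) (hπk : LinearMap.range (x • LinearMap.id : M →ₗ[R] M) = LinearMap.ker π)

include hxk hreg hπ hπs hπk in
lemma van_quot {i : ℕ} {e : ℤ} (h0 : Van EM a i e) (h1 : Van EM a (i + 1) (e - k)) : Van EN a i e := by
  letI := shiftDec ℳ (-k)
  have hs : IsSES (shiftPiece ℳ (-k)) ℳ 𝒩 (x • LinearMap.id : M →ₗ[R] M) π :=
    ⟨fun _ _ h => hreg h, hπs, hπk, mul_grHom hxk, hπ⟩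
  exact van_right hs (shiftRes EM (-k)) EM EN a h0 ((van_shiftRes_iff EM (-k) a (i + 1) e).2 (by rwa [← sub_eq_add_neg]))

include hxk hreg hπ hπs hπk in
/-- the end moves by the degree of a regular element -/
theorem endDeg_quot (hk : 0 ≤ k ∨ x = 0) (hxa : x ∈ a.toIdeal) {i : ℕ} (h0 : ∀ e, Van EM a i e) :
    GrLC.endDeg (EN.Hgr a i) = GrLC.endDeg (EM.Hgr a (i + 1)) + ((k : WithTop ℤ) : WithBot (WithTop ℤ)) := by
  refine eq_add_of_le_iff fun D => ?_
  rw [endDeg_le_iff, endDeg_le_iff]
  refine ⟨fun hN e he => ?_, fun hM e he => van_quot a EM EN hxk hreg hπ hπs hπk (h0 e) (hM (e - k) (by omega))⟩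
  letI := shiftDec ℳ (-k)
  have hs : IsSES (shiftPiece ℳ (-k)) ℳ 𝒩 (x • LinearMap.id : M →ₗ[R] M) π :=
    ⟨fun _ _ h => hreg h, hπs, hπk, mul_grHom hxk, hπ⟩
  let φ : RMap (shiftRes EM (-k)) EM (x • LinearMap.id : M →ₗ[R] M) :=
    { φ := fun i => x • (LinearMap.id : (EM.X i).carrier →ₗ[R] (EM.X i).carrier)
      gr := fun i g y hy => by
        have h1 := smul_mem 𝒜 (EM.X i).gr hxk (show y ∈ (EM.X i).gr (g + -k) from hy)
        rwa [show k + (g + -k) = g by ring] at h1
      ε := fun y => (map_smul EM.ε x y).symm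
      comm := fun i y => (map_smul (EM.d i) x y).symm }
  have step : ∀ (n : ℕ) (e : ℤ) (z : (EM.X (i + 1)).carrier), D - k < e → z ∈ (EM.X (i + 1)).gr e →
      z ∈ EM.cocyc a (i + 1) → x ^ n • z ∈ EM.cobdy a (i + 1) → z ∈ EM.cobdy a (i + 1) := by
    intro n
    induction n with
    | zero => intro e z _ _ _ hz; simpa using hz
    | succ n ihn =>
      intro e z he hz hzc hn
      have h1 : x • z ∈ EM.cobdy a (i + 1) := by
        rcases hk with hk | hk
        · exact ihn (k + e) _ (by omega) (smul_mem 𝒜 (EM.X (i + 1)).gr hxk hz) (Submodule.smul_mem _ _ hzc)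
            (by rwa [← mul_smul, ← pow_succ])
        · rw [hk, zero_smul]; exact Submodule.zero_mem _
      exact mem_cobdy_left hs (shiftRes EM (-k)) EM EN a (hN (e + k) (by omega)) φ
        (show z ∈ (EM.X (i + 1)).gr (e + k + -k) by rwa [add_neg_cancel_right]) hzc h1
  intro z hz hzc
  obtain ⟨n, hn⟩ := hzc.1
  exact step n e z he hz hzc (by rw [hn _ (Ideal.pow_mem_pow hxa n)]; exact Submodule.zero_mem _)

end Step

lemma homog_smul_top {x : R} {k : ℤ} (hx : x ∈ 𝒜 k) : Homog ℳ (x • (⊤ : Submodule R M)) := by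
  intro y hy g
  obtain ⟨y', -, rfl⟩ := (Submodule.mem_smul_pointwise_iff_exists y x _).1 hy
  rw [pr_smul 𝒜 ℳ hx]
  exact Submodule.smul_mem_pointwise_smul _ _ _ Submodule.mem_top

theorem endDeg_quot_seq (a : HomogeneousIdeal 𝒜) (EN : GrLC.StarInjRes 𝒜 𝒩) : ∀ (t : ℕ) (X : GrLC.GMod.{u} 𝒜)
    (EX : GrLC.StarInjRes 𝒜 X.gr) (h : ℕ), (∀ i < h + t, ∀ e, Van EX a i e) → ∀ (f : Fin t → R) (dg : Fin t → ℤ),
    (∀ j, f j ∈ 𝒜 (dg j)) → (∀ j, 0 ≤ dg j ∨ f j = 0) → (∀ j, f j ∈ a.toIdeal) →
    RingTheory.Sequence.IsWeaklyRegular X.carrier (List.ofFn f) → ∀ π : X.carrier →ₗ[R] N, GrLC.IsGrHom X.gr 𝒩 π →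
    Function.Surjective π → LinearMap.ker π = Ideal.span (Set.range f) • (⊤ : Submodule R X.carrier) →
    GrLC.endDeg (EN.Hgr a h) = GrLC.endDeg (EX.Hgr a (h + t)) + (((∑ j, dg j : ℤ) : WithTop ℤ) : WithBot (WithTop ℤ)) := by
  intro t
  induction t with
  | zero =>
    intro X EX h _ f dg _ _ _ _ π hπ hπs hπk
    rw [Set.range_eq_empty, Ideal.span_empty, Submodule.bot_smul] at hπk
    let e := LinearEquiv.ofBijective π ⟨LinearMap.ker_eq_bot.1 hπk, hπs⟩
    have hinv : GrLC.IsGrHom 𝒩 X.gr e.symm.toLinearMap := fun g y hy => by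
      obtain ⟨z, hz, rfl⟩ := exists_preimage X.gr 𝒩 hπ hy (LinearMap.range_eq_top.2 hπs ▸ Submodule.mem_top)
      show e.symm (e z) ∈ X.gr g
      rwa [e.symm_apply_apply]
    refine eq_add_of_le_iff fun D => ?_
    rw [endDeg_le_iff, endDeg_le_iff]
    simp only [Finset.univ_eq_empty, Finset.sum_empty, sub_zero]
    exact ⟨fun hv g hg => van_retract EX EN a e.symm.toLinearMap π hinv hπ (fun y => e.symm_apply_apply y) (hv g hg),
      fun hv g hg => van_retract EN EX a π e.symm.toLinearMap hπ hinv (fun y => e.apply_symm_apply y) (hv g hg)⟩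
  | succ t ih =>
    intro X EX h hvan f dg hf hdg hfa hreg π hπ hπs hπk
    rw [List.ofFn_succ, RingTheory.Sequence.isWeaklyRegular_cons_iff] at hreg
    let K : Submodule R X.carrier := f 0 • (⊤ : Submodule R X.carrier)
    have hK : Homog X.gr K := homog_smul_top (hf 0)
    let Q := quotObj 𝒜 X.gr K hK
    let q : X.carrier →ₗ[R] Q.carrier := K.mkQ
    obtain ⟨EQ⟩ := nonempty_starInjRes 𝒜 Q.gr
    have hqk : LinearMap.range (f 0 • LinearMap.id : X.carrier →ₗ[R] X.carrier) = LinearMap.ker q := by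
      refine Eq.trans ?_ (Submodule.ker_mkQ K).symm
      ext y
      exact ⟨fun ⟨z, hz⟩ => hz ▸ Submodule.smul_mem_pointwise_smul z (f 0) ⊤ Submodule.mem_top,
        fun hy => by
          obtain ⟨z, -, rfl⟩ := (Submodule.mem_smul_pointwise_iff_exists y (f 0) _).1 hy
          exact ⟨z, rfl⟩⟩
    have hQ : ∀ i < h + t, ∀ e, Van EQ a i e := fun i hi e =>
      van_quot a EX EQ (hf 0) hreg.1 (mkQ_grHom X.gr K) (Submodule.mkQ_surjective K) hqk
        (hvan i (by omega) e) (hvan (i + 1) (by omega) _)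
    have hend := endDeg_quot a EX EQ (hf 0) hreg.1 (mkQ_grHom X.gr K) (Submodule.mkQ_surjective K) hqk (hdg 0) (hfa 0)
      (hvan (h + t) (by omega))
    have hKπ : K ≤ LinearMap.ker π := by
      rw [hπk]
      intro y hy
      obtain ⟨z, -, rfl⟩ := (Submodule.mem_smul_pointwise_iff_exists y (f 0) _).1 hy
      exact Submodule.smul_mem_smul (Ideal.subset_span ⟨0, rfl⟩) Submodule.mem_top
    let π' : Q.carrier →ₗ[R] N := K.liftQ π hKπ
    have hπ' : GrLC.IsGrHom Q.gr 𝒩 π' := by
      rintro g _ ⟨y, hy, rfl⟩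
      exact hπ g y hy
    have hk' : LinearMap.ker π' = Ideal.span (Set.range fun j : Fin t => f j.succ) • (⊤ : Submodule R Q.carrier) := by
      refine (Submodule.ker_liftQ K π hKπ).trans ?_
      rw [hπk, Submodule.map_smul'', Submodule.map_top, Submodule.range_mkQ]
      refine le_antisymm (Submodule.smul_le.2 fun r hr y _ => ?_) (Submodule.smul_mono_left (Ideal.span_mono ?_))
      · induction hr using Submodule.span_induction with
        | mem r hr =>
          obtain ⟨j, rfl⟩ := hr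
          rcases Fin.eq_zero_or_eq_succ j with rfl | ⟨j, rfl⟩
          · obtain ⟨z, rfl⟩ := Submodule.mkQ_surjective K y
            have h0 : f 0 • K.mkQ z = 0 := (map_smul K.mkQ (f 0) z).symm.trans ((Submodule.Quotient.mk_eq_zero K).2
              (Submodule.smul_mem_pointwise_smul z (f 0) ⊤ Submodule.mem_top))
            exact h0.symm ▸ Submodule.zero_mem _
          · exact Submodule.smul_mem_smul (M := Q.carrier) (Ideal.subset_span ⟨j, rfl⟩) Submodule.mem_top
        | zero => rw [zero_smul]; exact Submodule.zero_mem _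
        | add u v _ _ hu hv => rw [add_smul]; exact Submodule.add_mem _ hu hv
        | smul c u _ hu => rw [smul_assoc]; exact Submodule.smul_mem _ _ hu
      · rintro _ ⟨j, rfl⟩
        exact ⟨j.succ, rfl⟩
    have h1 := ih Q EQ h hQ (fun j => f j.succ) (fun j => dg j.succ) (fun j => hf j.succ) (fun j => hdg j.succ)
      (fun j => hfa j.succ) hreg.2 π' hπ' (fun y => by
        obtain ⟨z, rfl⟩ := hπs y
        exact ⟨q z, rfl⟩) hk'
    rw [h1, hend, add_assoc, ← WithBot.coe_add, ← WithTop.coe_add, Fin.sum_univ_succ dg, ← Nat.add_assoc]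

end Groth.Agent.GrLCLib
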