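import Groth.Agent.GrLCLib.Cofree

/-!
The graded local cohomology of a resolution, degree by degree.
-/

set_option autoImplicit false
set_option linter.unusedSectionVars false
set_option linter.style.haveILetI false
universe u

open scoped Classical
open DirectSum

noncomputable section

namespace Groth.Agent.GrLCLib

variable {ι : Type} [AddCommGroup ι] [DecidableEq ι]
variable {R : Type u} [CommRing R] {σ : Type u} [SetLike σ R] [AddSubgroupClass σ R] {𝒜 : ι → σ} [GradedRing 𝒜]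
variable {M : Type u} [AddCommGroup M] [Module R M] {τ : Type u} [SetLike τ M] [AddSubgroupClass τ M]
  {ℳ : ι → τ} [DirectSum.Decomposition ℳ] [SetLike.GradedSMul 𝒜 ℳ]
variable (E : GrLC.StarInjRes 𝒜 ℳ) (a : HomogeneousIdeal 𝒜)

lemma d_d (i : ℕ) (x : (E.X i).carrier) : E.d (i + 1) (E.d i x) = 0 := by
  have : E.d i x ∈ LinearMap.ker (E.d (i + 1)) := by rw [E.exact_succ i]; exact ⟨x, rfl⟩
  exact this

lemma d_ε (m : M) : E.d 0 (E.ε m) = 0 := by
  have : E.ε m ∈ LinearMap.ker (E.d 0) := by rw [E.exact_zero]; exact ⟨m, rfl⟩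
  exact this

lemma homog_cocyc (i : ℕ) : Homog (E.X i).gr (E.cocyc a i) := fun x hx g =>
  ⟨homog_gam 𝒜 a x hx.1 g, homog_ker (E.X i).gr (E.X (i + 1)).gr (E.d_grHom i) x hx.2 g⟩

lemma cobdy_le_cocyc : ∀ i : ℕ, E.cobdy a i ≤ E.cocyc a i
  | 0 => bot_le
  | i + 1 => by
    rintro _ ⟨w, hw, rfl⟩
    exact ⟨map_mem_gam _ hw, d_d E i w⟩

lemma homog_cobdy : ∀ i : ℕ, Homog (E.X i).gr (E.cobdy a i)
  | 0 => fun x hx g => by
    rw [(Submodule.mem_bot R).1 hx, map_zero]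
    exact Submodule.zero_mem _
  | i + 1 => by
    rintro _ ⟨w, hw, rfl⟩ g
    exact ⟨pr (E.X i).gr g w, homog_gam 𝒜 a w hw g, (pr_map _ _ (E.d_grHom i) g w).symm⟩

lemma exists_of_mem_cobdy {i : ℕ} {g : ι} {z : (E.X (i + 1)).carrier} (hz : z ∈ E.cobdy a (i + 1))
    (hzg : z ∈ (E.X (i + 1)).gr g) : ∃ w ∈ (E.X i).gr g, w ∈ GrLC.gam a.toIdeal (E.X i).carrier ∧ E.d i w = z := by
  obtain ⟨w, hw, rfl⟩ := hz
  exact ⟨pr (E.X i).gr g w, pr_mem _ g w, homog_gam 𝒜 a w hw g, by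
    rw [← pr_map _ _ (E.d_grHom i), pr_of_mem _ hzg]⟩

/-- Vanishing of the piece of degree `g`. -/
def Van (i : ℕ) (g : ι) : Prop :=
  ∀ z ∈ (E.X i).gr g, z ∈ E.cocyc a i → z ∈ E.cobdy a i

lemma hcomp_eq_bot_iff (i : ℕ) (g : ι) : E.Hcomp a i g = ⊥ ↔ Van E a i g := by
  rw [Submodule.eq_bot_iff]
  constructor
  · intro h z hz hzc
    have h1 := h (E.toH a i ⟨z, hzc⟩) ⟨⟨z, hzc⟩, hz, rfl⟩
    exact (Submodule.Quotient.mk_eq_zero ((E.cobdy a i).comap (E.cocyc a i).subtype)).1 h1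
  · rintro h _ ⟨z, hz, rfl⟩
    exact (Submodule.Quotient.mk_eq_zero _).2 (h z.1 hz z.2)

lemma hgr_eq_bot_iff (i : ℕ) (g : ι) : E.Hgr a i g = ⊥ ↔ Van E a i g := by
  rw [← hcomp_eq_bot_iff, AddSubgroup.eq_bot_iff_forall, Submodule.eq_bot_iff]
  rfl

theorem isInternal_Hgr (i : ℕ) : DirectSum.IsInternal (E.Hgr a i) := by
  letI := subDec (E.X i).gr (E.cocyc a i) (homog_cocyc E a i)
  have hB : Homog (subPiece (E.X i).gr (E.cocyc a i)) ((E.cobdy a i).comap (E.cocyc a i).subtype) := by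
    intro x hx g
    have e : ((pr (subPiece (E.X i).gr (E.cocyc a i)) g x : E.cocyc a i) : (E.X i).carrier) =
        pr (E.X i).gr g (x : (E.X i).carrier) :=
      (pr_map _ (E.X i).gr (subtype_grHom (E.X i).gr (E.cocyc a i)) g x).symm
    show _ ∈ E.cobdy a i
    rw [Submodule.subtype_apply, e]
    exact homog_cobdy E a i _ hx g
  letI := quotDec (subPiece (E.X i).gr (E.cocyc a i)) _ hB
  have he : E.Hgr a i = quotPiece (subPiece (E.X i).gr (E.cocyc a i)) ((E.cobdy a i).comap (E.cocyc a i).subtype) := by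
    funext g
    ext x
    exact ⟨fun ⟨z, hz, h⟩ => ⟨z, hz, h⟩, fun ⟨z, hz, h⟩ => ⟨z, hz, h⟩⟩
  rw [he]
  exact DirectSum.Decomposition.isInternal _

end Groth.Agent.GrLCLib
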