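import Groth.Agent.GrLCLib.AInv
import Groth.Agent.LocH.Depth

/-!
Hilbert functions of standard graded rings: finiteness and monotonicity in positive depth.
-/

set_option autoImplicit false
set_option linter.unusedSectionVars false
set_option linter.style.haveILetI false
universe u

open scoped Classical
open DirectSum

noncomputable section

namespace Groth.Agent.GrLCLib

variable {R : Type u} [CommRing R] {𝒜 : ℤ → AddSubgroup R} [GradedRing 𝒜]
variable {s : ℕ} {x : Fin s → R} (hx : ∀ b, x b ∈ 𝒜 1) (hpos : ∀ n : ℤ, n < 0 → 𝒜 n = ⊥)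
  (hgen : (irr 𝒜).toIdeal = Ideal.span (Set.range x))

include hx in
lemma mul_x_mem {n : ℤ} (b : Fin s) {v : R} (hv : v ∈ 𝒜 n) : x b * v ∈ 𝒜 (n + 1) := by
  rw [add_comm]
  exact SetLike.mul_mem_graded (hx b) hv

include hx hpos hgen in
theorem finite_comp (n : ℤ) : Module.Finite (GrLC.deg0 𝒜) (GrLC.comp 𝒜 𝒜 n) := by
  rcases lt_or_ge n 0 with hn | hn
  · haveI : Subsingleton (GrLC.comp 𝒜 𝒜 n) := subsingleton_of_forall_eq 0 fun v => Subtype.ext ((hpos n hn).le v.2)
    exact inferInstance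
  induction n, hn using Int.leInduction with
  | base =>
    refine Module.Finite.of_surjective
      ({ toFun := fun c => ⟨(c : R), c.2⟩, map_add' := fun _ _ => rfl, map_smul' := fun _ _ => rfl } :
        GrLC.deg0 𝒜 →ₗ[GrLC.deg0 𝒜] GrLC.comp 𝒜 𝒜 0) fun v => ⟨⟨v.1, v.2⟩, rfl⟩
  | succ n hn ih =>
    haveI := ih
    let L : (Fin s → GrLC.comp 𝒜 𝒜 n) →ₗ[GrLC.deg0 𝒜] GrLC.comp 𝒜 𝒜 (n + 1) :=
      { toFun := fun w => ⟨∑ b, x b * (w b : R), sum_mem fun b _ => mul_x_mem hx b (w b).2⟩
        map_add' := fun v w => Subtype.ext (by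
          simp only [Pi.add_apply, Submodule.coe_add, mul_add, Finset.sum_add_distrib])
        map_smul' := fun c v => Subtype.ext (by
          simp only [Pi.smul_apply, Submodule.coe_smul, Subring.smul_def, smul_eq_mul, RingHom.id_apply, Finset.mul_sum]
          exact Finset.sum_congr rfl fun b _ => by ring) }
    refine Module.Finite.of_surjective L fun v => ?_
    have h1 : (v : R) ∈ Ideal.span (Set.range x) :=
      hgen ▸ Ideal.subset_span (Set.mem_iUnion₂.2 ⟨n + 1, show (0 : ℤ) < n + 1 by omega, v.2⟩)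
    obtain ⟨c, hc⟩ := (Submodule.mem_span_range_iff_exists_fun _).1 h1
    refine ⟨fun b => ⟨pr 𝒜 n (c b), pr_mem 𝒜 n _⟩, Subtype.ext ?_⟩
    show ∑ b, x b * pr 𝒜 n (c b) = (v : R)
    rw [← pr_of_mem 𝒜 v.2, ← hc, map_sum]
    refine Finset.sum_congr rfl fun b _ => ?_
    rw [smul_eq_mul, mul_comm (c b), show pr 𝒜 (n + 1) (x b * c b) = x b * pr 𝒜 (n + 1 - 1) (c b) from
      pr_smul 𝒜 𝒜 (hx b) _ _, add_sub_cancel_right]

include hx hpos hgen in
/-- Positive depth makes the Hilbert function nondecreasing. -/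
theorem finrank_comp_le (hk : IsField (GrLC.deg0 𝒜)) (hreg : ∀ c : R, (∀ b, c * x b = 0) → c = 0) (n : ℤ) :
    Module.finrank (GrLC.deg0 𝒜) (GrLC.comp 𝒜 𝒜 n) ≤ Module.finrank (GrLC.deg0 𝒜) (GrLC.comp 𝒜 𝒜 (n + 1)) := by
  letI : Field (GrLC.deg0 𝒜) := hk.toField
  haveI := finite_comp hx hpos hgen n
  haveI := finite_comp hx hpos hgen (n + 1)
  set h := Module.finrank (GrLC.deg0 𝒜) (GrLC.comp 𝒜 𝒜 n) with hh
  set h' := Module.finrank (GrLC.deg0 𝒜) (GrLC.comp 𝒜 𝒜 (n + 1)) with hh'
  let p : Polynomial R := ∑ b : Fin s, Polynomial.monomial (b : ℕ) (x b)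
  have hp : p ∈ nonZeroDivisors (Polynomial R) := by
    by_contra hp
    obtain ⟨c, hc, hcp⟩ := Polynomial.notMem_nonZeroDivisors_iff.1 hp
    refine hc (hreg c fun b => ?_)
    have := congrArg (fun q : Polynomial R => q.coeff (b : ℕ)) hcp
    simpa [p, Polynomial.coeff_smul, Polynomial.finsetSum_coeff, Polynomial.coeff_monomial, ← Fin.ext_iff] using this
  let N : ℕ := s * h' + 1
  let L : (Fin N → GrLC.comp 𝒜 𝒜 n) →ₗ[GrLC.deg0 𝒜] (Fin (N + s) → GrLC.comp 𝒜 𝒜 (n + 1)) :=
    { toFun := fun v k => ⟨∑ i : Fin N, ∑ b : Fin s, if (i : ℕ) + b = k then x b * (v i : R) else 0,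
        sum_mem fun i _ => sum_mem fun b _ => by
          split_ifs
          · exact mul_x_mem hx b (v i).2
          · exact zero_mem _⟩
      map_add' := fun v w => funext fun k => Subtype.ext (by
        simp only [Pi.add_apply, Submodule.coe_add, mul_add, ← Finset.sum_add_distrib]
        exact Finset.sum_congr rfl fun i _ => Finset.sum_congr rfl fun b _ => by split_ifs <;> simp)
      map_smul' := fun c v => funext fun k => Subtype.ext (by
        simp only [Pi.smul_apply, Submodule.coe_smul, Subring.smul_def, smul_eq_mul, RingHom.id_apply, Finset.mul_sum]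
        exact Finset.sum_congr rfl fun i _ => Finset.sum_congr rfl fun b _ => by split_ifs <;> ring) }
  have hL : Function.Injective L := by
    refine (injective_iff_map_eq_zero L).2 fun v hv => ?_
    let P : Polynomial R := ∑ i : Fin N, Polynomial.monomial (i : ℕ) (v i : R)
    have hPp : P * p = 0 := by
      ext k
      simp only [P, p, Finset.sum_mul, Finset.mul_sum, Polynomial.monomial_mul_monomial, Polynomial.finsetSum_coeff,
        Polynomial.coeff_monomial, Polynomial.coeff_zero]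
      rcases lt_or_ge k (N + s) with hk' | hk'
      · have := congrArg Subtype.val (congrFun hv ⟨k, hk'⟩)
        refine (Eq.trans ?_ this)
        simp only [L, LinearMap.coe_mk, AddHom.coe_mk]
        rw [Finset.sum_comm]
        exact Finset.sum_congr rfl fun i _ => Finset.sum_congr rfl fun b _ => by split_ifs <;> ring
      · exact Finset.sum_eq_zero fun i _ => Finset.sum_eq_zero fun b _ => if_neg (by have := i.2; have := b.2; omega)
    have hP : P = 0 := (mem_nonZeroDivisors_iff_right.1 hp) P hPp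
    funext i
    have := congrArg (fun q : Polynomial R => q.coeff (i : ℕ)) hP
    exact Subtype.ext (by simpa [P, Polynomial.finsetSum_coeff, Polynomial.coeff_monomial, ← Fin.ext_iff] using this)
  have h1 := LinearMap.finrank_le_finrank_of_injective hL
  rw [Module.finrank_pi_fintype, Module.finrank_pi_fintype, Finset.sum_const, Finset.sum_const, Finset.card_univ,
    Finset.card_univ, Fintype.card_fin, Fintype.card_fin, smul_eq_mul, smul_eq_mul, ← hh, ← hh'] at h1
  by_contra hlt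
  have h2 : N * (h' + 1) ≤ N * h := Nat.mul_le_mul_left N (by omega)
  rw [Nat.mul_add, Nat.mul_one] at h2
  have h3 : N = s * h' + 1 := rfl
  clear_value N
  nlinarith [h1, h2, h3]

theorem isStarLocal_irr (h0 : IsField (GrLC.deg0 𝒜)) (hpos : ∀ n : ℤ, n < 0 → 𝒜 n = ⊥) [Nontrivial R] :
    GrLC.IsStarLocal 𝒜 (irr 𝒜) := by
  have hne : irr 𝒜 ≠ ⊤ := fun h => by
    have h1 : (1 : R) ∈ (irr 𝒜).toIdeal := by rw [h, HomogeneousIdeal.toIdeal_top]; exact Submodule.mem_top
    exact one_ne_zero ((pr_of_mem 𝒜 (SetLike.one_mem_graded 𝒜)).symm.trans (mem_span_pos_pr_zero hpos h1))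
  have key : ∀ J : HomogeneousIdeal 𝒜, J ≠ ⊤ → J.toIdeal ≤ (irr 𝒜).toIdeal := by
    intro J hJ y hy
    refine mem_of_pr_mem 𝒜 fun g => ?_
    rcases lt_trichotomy g 0 with hg | rfl | hg
    · rw [show pr 𝒜 g y = 0 from (hpos g hg).le (pr_mem 𝒜 g y)]; exact zero_mem _
    · by_cases h : pr 𝒜 0 y = 0
      · rw [h]; exact zero_mem _
      exfalso
      obtain ⟨c, hc⟩ := h0.mul_inv_cancel (a := (⟨pr 𝒜 0 y, pr_mem 𝒜 0 y⟩ : GrLC.deg0 𝒜)) fun h' => h (congrArg Subtype.val h')
      have hc' : pr 𝒜 0 y * (c : R) = 1 := congrArg Subtype.val hc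
      exact hJ ((HomogeneousIdeal.eq_top_iff J).2 ((Ideal.eq_top_iff_one _).2 (hc' ▸ Ideal.mul_mem_right _ _ (J.isHomogeneous 0 hy))))
    · exact Ideal.subset_span (Set.mem_iUnion₂.2 ⟨g, hg, pr_mem 𝒜 g y⟩)
  refine ⟨⟨hne, fun J hJ => ?_⟩, fun J hJ => ?_⟩
  · by_contra h
    exact not_le_of_gt hJ (key J h)
  · rcases eq_or_lt_of_le (show J ≤ irr 𝒜 from key J hJ.1) with h | h
    · exact h
    · exact absurd (hJ.2 _ h) hne

end Groth.Agent.GrLCLib
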