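import Groth.Agent.GrLCLib.Reg
import Groth.Agent.GrLCLib.Baer
import Groth.Agent.GrSyzMin.Regular
import Groth.Agent.LocH.Depth
import Groth.Agent.LocH.DepthMisc
import Groth.Agent.S0320

/-!
The graded Auslander–Buchsbaum formula over the polynomial ring.
-/

set_option autoImplicit false
set_option linter.unusedSectionVars false
set_option linter.style.haveILetI false
universe u

open scoped Classical Pointwise
open DirectSum

noncomputable section

namespace Groth.Agent.GrLCLib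

variable {k : Type u} [Field k] {n : ℕ}
variable {M : Type u} [AddCommGroup M] [Module k M] [Module (MvPolynomial (Fin n) k) M]
  [IsScalarTower k (MvPolynomial (Fin n) k) M]
  {ℳ : ℤ → Submodule k M} [hdec : DirectSum.Decomposition ℳ] [hgs : SetLike.GradedSMul (GrSyz.stdGr k (Fin n)) ℳ]

section

variable [Module.Finite (MvPolynomial (Fin n) k) M]

include ℳ hdec hgs in
/-- Graded Nakayama. -/
theorem irrel_smul_top_ne_top [Nontrivial M] :
    (GrSyz.irrel (GrSyz.stdGr k (Fin n))).toIdeal • (⊤ : Submodule (MvPolynomial (Fin n) k) M) ≠ ⊤ := by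
  obtain ⟨a, ha⟩ := GrSyzMin.exists_lower_bound (n := n) (ℳ := ℳ)
  obtain ⟨m, hm⟩ := exists_ne (0 : M)
  obtain ⟨g, hg⟩ : ∃ g, pr ℳ g m ≠ 0 := by
    by_contra h
    push Not at h
    exact hm ((sum_pr ℳ m).symm.trans (Finset.sum_eq_zero fun g _ => h g))
  obtain ⟨e₀, he₀, hmin⟩ := Int.exists_least_of_bdd (P := fun e => ℳ e ≠ ⊥)
    ⟨a, fun z hz => by by_contra hh; exact hz (ha z (by omega))⟩
    ⟨g, fun h => hg ((Submodule.eq_bot_iff _).1 h _ (pr_mem ℳ g m))⟩
  intro htop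
  refine he₀ (eq_bot_iff.2 fun x hx => (Submodule.mem_bot k).2 ?_)
  have key : ∀ y ∈ (GrSyz.irrel (GrSyz.stdGr k (Fin n))).toIdeal • (⊤ : Submodule (MvPolynomial (Fin n) k) M),
      pr ℳ e₀ y = 0 := by
    intro y hy
    refine Submodule.smul_induction_on hy (fun p hp z hz => ?_) (fun u v hu hv => by rw [map_add, hu, hv, add_zero])
    clear hz
    induction z using DirectSum.Decomposition.inductionOn ℳ with
    | zero => rw [smul_zero, map_zero]
    | @homogeneous g q =>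
      rw [pr_smul_left (GrSyz.stdGr k (Fin n)) ℳ q.2]
      by_cases hq : ℳ g = ⊥
      · rw [show (q : M) = 0 from (Submodule.eq_bot_iff _).1 hq _ q.2, smul_zero]
      have hle := hmin g hq
      suffices h : pr (GrSyz.stdGr k (Fin n)) (e₀ - g) p = 0 by rw [h, zero_smul]
      rcases eq_or_lt_of_le hle with h | h
      · rw [h, sub_self]
        rw [GrSyzMin.eq_C_of_deg_zero (pr_mem (GrSyz.stdGr k (Fin n)) 0 p),
          show MvPolynomial.constantCoeff (pr (GrSyz.stdGr k (Fin n)) 0 p) = 0 from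
            (GrSyzMin.cst_comp_zero p).trans (GrSyzMin.mem_irrel_iff.1 hp), map_zero]
      · exact GrSyzMin.eq_zero_of_deg_neg (by omega) (pr_mem (GrSyz.stdGr k (Fin n)) (e₀ - g) p)
    | add u v hu hv => rw [smul_add, map_add, hu, hv, add_zero]
  rw [← pr_of_mem ℳ hx]
  exact key x (by rw [htop]; trivial)

include ℳ hdec hgs in
theorem idealDepth_eq_zero_of_tors [Nontrivial M] (ht : ∃ y ∈ tors k n M, y ≠ 0) :
    LocCoh.idealDepth (GrSyz.irrel (GrSyz.stdGr k (Fin n))).toIdeal M = 0 := by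
  rw [LocCoh.idealDepth, if_neg (irrel_smul_top_ne_top (ℳ := ℳ))]
  refine le_antisymm (iSup₂_le fun rs hrs => ?_) bot_le
  match rs, hrs with
  | [], _ => simp
  | r :: rs, ⟨h1, h2⟩ =>
    exfalso
    obtain ⟨y, ⟨N, hN⟩, hy⟩ := ht
    have hr : IsSMulRegular M r := ((RingTheory.Sequence.isWeaklyRegular_cons_iff M r rs).1 h1).1
    exact hy ((hr.pow N) (show r ^ N • y = r ^ N • 0 by
      rw [smul_zero, hN _ (Ideal.pow_mem_pow (h2 r (List.mem_cons_self ..)) N)]))

theorem exists_deg_top_of_tors {F : GrSyz.FreeRes (GrSyz.stdGr k (Fin n)) ℳ}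
    (hF : F.IsMinimal (GrSyz.irrel (GrSyz.stdGr k (Fin n))).toIdeal) (ht : ∃ y ∈ tors k n M, y ≠ 0) :
    F.rk n ≠ 0 := by
  obtain ⟨y, hyt, hy⟩ := ht
  obtain ⟨e₀, hx0⟩ : ∃ e, pr ℳ e y ≠ 0 := by
    by_contra h
    push Not at h
    exact hy ((sum_pr ℳ y).symm.trans (Finset.sum_eq_zero fun g _ => h g))
  letI := GrSyzMin.subDec ℳ (tors k n M) (homog_tors ℳ)
  have hxt : pr ℳ e₀ y ∈ tors k n M := homog_gam (GrSyz.stdGr k (Fin n)) (GrSyz.irrel (GrSyz.stdGr k (Fin n))) y hyt e₀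
  obtain ⟨b, hb⟩ := exists_bound_tors (k := k) (n := n) (ℳ := ℳ)
  obtain ⟨t, ht, hmax⟩ := Int.exists_greatest_of_bdd (P := fun e => GrSyzMin.subGr ℳ (tors k n M) e ≠ ⊥)
    ⟨b, fun z hz => by
      by_contra hh
      exact hz (eq_bot_iff.2 fun y hy => (Submodule.mem_bot k).2 (Subtype.ext (hb z (by omega) y.1 hy y.2)))⟩
    ⟨e₀, fun h => hx0 (congrArg Subtype.val ((Submodule.eq_bot_iff _).1 h ⟨_, hxt⟩ (pr_mem ℳ e₀ y)))⟩
  have htop : ∀ e, t < e → GrSyzMin.subGr ℳ (tors k n M) e = ⊥ := fun e he => by_contra fun he' => by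
    have := hmax e he'
    omega
  let K := (GrSyzMin.topPiece (n := n) t htop).map (tors k n M).subtype
  have hKt : ∀ z ∈ K, z ∈ ℳ t := by
    rintro _ ⟨z, hz, rfl⟩
    exact hz
  have hK : GrSyzMin.Homog ℳ K := fun z hz e => by
    by_cases he : t = e
    · subst he
      rw [GrSyzHilb.comp_of_mem ℳ (hKt z hz)]
      exact hz
    · rw [GrSyzHilb.comp_of_mem_ne ℳ (hKt z hz) he]
      exact Submodule.zero_mem _
  obtain ⟨c, -⟩ := GrSyzMin.exists_top_deg K hK (d := t) (fun e he => eq_bot_iff.2 fun z hz =>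
    (Submodule.mem_bot k).2 (Subtype.ext (by
      rw [← GrSyzHilb.comp_of_mem ℳ (show (z : M) ∈ ℳ e from hz), GrSyzHilb.comp_of_mem_ne ℳ (hKt z.1 z.2) (Ne.symm he)]
      rfl))) (by
    intro h0
    refine ht (eq_bot_iff.2 fun z hz => (Submodule.mem_bot k).2 (Subtype.ext ?_))
    exact congrArg (fun w : ↥K => (w.1 : M)) ((Submodule.eq_bot_iff _).1 h0 ⟨z.1, ⟨z, hz, rfl⟩⟩ hz)) hF
  exact fun h => by have := c.isLt; omega

end

/-- Multiplication by a homogeneous element. -/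
def hMap (F : GrSyz.FreeRes (GrSyz.stdGr k (Fin n)) ℳ) {y : MvPolynomial (Fin n) k} {m : ℤ}
    (hy : y ∈ GrSyz.stdGr k (Fin n) m) :
    GrSyzMin.CMap F F (y • (LinearMap.id : M →ₗ[MvPolynomial (Fin n) k] M)) m where
  φ i := y • (1 : Matrix (Fin (F.rk i)) (Fin (F.rk i)) (MvPolynomial (Fin n) k))
  hom i a b := by
    by_cases h : a = b
    · subst h
      simpa using hy
    · simp [Matrix.one_apply_ne h]
  aug b := by
    have : (fun a => (y • (1 : Matrix (Fin (F.rk 0)) (Fin (F.rk 0)) (MvPolynomial (Fin n) k))) a b) = Pi.single b y := by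
      funext a
      by_cases h : a = b
      · subst h; simp
      · simp [Matrix.one_apply_ne h, Pi.single_eq_of_ne h]
    rw [this]
    exact Fintype.linearCombination_apply_single _ F.aug b y
  comm i := by rw [Matrix.mul_smul, Matrix.smul_mul, Matrix.mul_one, Matrix.one_mul]

section Quot

variable {x : MvPolynomial (Fin n) k} {m : ℕ} (hm : 0 < m) (hx : x ∈ GrSyz.stdGr k (Fin n) m)
  (hreg : IsSMulRegular M x)

include hm hx hreg in
theorem exists_res_xQuot {F : GrSyz.FreeRes (GrSyz.stdGr k (Fin n)) ℳ}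
    (hF : F.IsMinimal (GrSyz.irrel (GrSyz.stdGr k (Fin n))).toIdeal) {ℓ : ℕ} (hℓ : F.HasLengthLE ℓ) (hℓ' : F.rk ℓ ≠ 0) :
    letI := xDec ℳ hx
    ∃ G : GrSyz.FreeRes (GrSyz.stdGr k (Fin n)) (GrSyzMin.quotGr ℳ (LinearMap.range (x • (LinearMap.id : M →ₗ[MvPolynomial (Fin n) k] M)))),
      G.IsMinimal (GrSyz.irrel (GrSyz.stdGr k (Fin n))).toIdeal ∧ G.HasLengthLE (ℓ + 1) ∧ G.rk (ℓ + 1) ≠ 0 := by
  letI := xDec ℳ hx
  let L := LinearMap.range (x • (LinearMap.id : M →ₗ[MvPolynomial (Fin n) k] M))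
  refine ⟨GrSyzMin.cone (hMap F hx) L.mkQ (fun _ _ h => hreg h) L.mkQ_surjective (Submodule.ker_mkQ L).symm
    (fun e z hz => GrSyzMin.mk_mem_quotGr hz), ?_, ?_, ?_⟩
  · have hφ : ∀ i a b, MvPolynomial.constantCoeff ((hMap F hx).φ i a b) = 0 := fun i a b => by
      have : (hMap F hx).φ i a b = x * (1 : Matrix (Fin (F.rk i)) (Fin (F.rk i)) (MvPolynomial (Fin n) k)) a b := rfl
      rw [this, map_mul, GrSyzMin.cst_eq_zero_of_ne (by omega) hx, zero_mul]
    refine GrSyzMin.isMinimal_iff.2 fun i a b => ?_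
    cases i with
    | zero =>
      show MvPolynomial.constantCoeff (GrSyzMin.hcat (F.d 0) ((hMap F hx).φ 0) a b) = 0
      induction b using Fin.addCases with
      | left b => simpa [GrSyzMin.hcat] using GrSyzMin.isMinimal_iff.1 hF 0 a b
      | right b => simpa [GrSyzMin.hcat] using hφ 0 a b
    | succ i =>
      show MvPolynomial.constantCoeff (GrSyzMin.vcat (GrSyzMin.hcat (F.d (i + 1)) ((hMap F hx).φ (i + 1))) (GrSyzMin.hcat 0 (-F.d i)) a b) = 0
      induction a using Fin.addCases with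
      | left a =>
        induction b using Fin.addCases with
        | left b => simpa [GrSyzMin.hcat, GrSyzMin.vcat] using GrSyzMin.isMinimal_iff.1 hF (i + 1) a b
        | right b => simpa [GrSyzMin.hcat, GrSyzMin.vcat] using hφ (i + 1) a b
      | right a =>
        induction b using Fin.addCases with
        | left b => simp [GrSyzMin.hcat, GrSyzMin.vcat]
        | right b => simpa [GrSyzMin.hcat, GrSyzMin.vcat] using GrSyzMin.isMinimal_iff.1 hF i a b
  · intro i hi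
    obtain ⟨p, rfl⟩ : ∃ p, i = p + 1 := ⟨i - 1, by omega⟩
    show F.rk (p + 1) + F.rk p = 0
    rw [hℓ (p + 1) (by omega), hℓ p (by omega)]
  · show F.rk (ℓ + 1) + F.rk ℓ ≠ 0
    omega

end Quot

theorem nontrivial_of_rk_ne {F : GrSyz.FreeRes (GrSyz.stdGr k (Fin n)) ℳ}
    (hF : F.IsMinimal (GrSyz.irrel (GrSyz.stdGr k (Fin n))).toIdeal) {ℓ : ℕ} (hℓ : F.rk ℓ ≠ 0) : Nontrivial M := by
  by_contra h
  rw [not_nontrivial_iff_subsingleton] at h
  haveI := Module.Finite.of_surjective F.augLin F.aug_surjective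
  obtain ⟨c⟩ : Nonempty (Fin (F.rk ℓ)) := ⟨⟨0, Nat.pos_of_ne_zero hℓ⟩⟩
  have hb := (GrSyzMin.isRegLE_iff_isGenLE hF (F.deg ℓ c - ℓ - 1)).1
    (GrSyzMin.isRegLE_of_bound ℳ _ fun e _ => eq_bot_iff.2 fun y _ => (Submodule.mem_bot k).2 (Subsingleton.elim _ _)) ℓ c
  omega

theorem ab_formula : ∀ (j : ℕ) (M : Type u) [AddCommGroup M] [Module k M] [Module (MvPolynomial (Fin n) k) M]
    [IsScalarTower k (MvPolynomial (Fin n) k) M] [Module.Finite (MvPolynomial (Fin n) k) M]
    (ℳ : ℤ → Submodule k M) [DirectSum.Decomposition ℳ] [SetLike.GradedSMul (GrSyz.stdGr k (Fin n)) ℳ]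
    (F : GrSyz.FreeRes (GrSyz.stdGr k (Fin n)) ℳ), F.IsMinimal (GrSyz.irrel (GrSyz.stdGr k (Fin n))).toIdeal →
    ∀ ℓ : ℕ, n ≤ ℓ + j → F.HasLengthLE ℓ → F.rk ℓ ≠ 0 →
      (ℓ : ℕ∞) + LocCoh.idealDepth (GrSyz.irrel (GrSyz.stdGr k (Fin n))).toIdeal M = (n : ℕ∞) := by
  intro j
  induction j with
  | zero | succ j ih =>
    intro M _ _ _ _ _ ℳ _ _ F hF ℓ hj hℓ hℓ'
    have hle : ℓ ≤ n := by
      by_contra h
      exact hℓ' (GrSyzMin.hasLengthLE_numVars hF ℓ (not_le.1 h))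
    haveI := nontrivial_of_rk_ne hF hℓ'
    by_cases ht : ∃ y ∈ tors k n M, y ≠ 0
    · have h1 := exists_deg_top_of_tors hF ht
      have : ℓ = n := le_antisymm hle (by by_contra h; exact h1 (hℓ n (not_le.1 h)))
      rw [idealDepth_eq_zero_of_tors (ℳ := ℳ) ht, add_zero, this]
    · push Not at ht
      obtain ⟨m, x, hm, hx, hreg⟩ := exists_regular (k := k) (n := n) (M := M) ht
      letI := xDec ℳ hx
      obtain ⟨G, hG, hGl, hGr⟩ := exists_res_xQuot hm hx hreg hF hℓ hℓ'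
      first
      | exact absurd (GrSyzMin.hasLengthLE_numVars hG (ℓ + 1) (by omega)) hGr
      | have h2 := ih _ _ G hG (ℓ + 1) (by omega) hGl hGr
        have hxi : x ∈ (GrSyz.irrel (GrSyz.stdGr k (Fin n))).toIdeal := Ideal.subset_span ⟨(m : ℤ), by omega, hx⟩
        have hstep := S0320.result (MvPolynomial (Fin n) k) _ M (irrel_smul_top_ne_top (ℳ := ℳ)) x hxi hreg
        have he : LinearMap.range (x • (LinearMap.id : M →ₗ[MvPolynomial (Fin n) k] M)) =
            x • (⊤ : Submodule (MvPolynomial (Fin n) k) M) := by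
          ext y
          simp only [Submodule.mem_smul_pointwise_iff_exists, Submodule.mem_top, true_and, LinearMap.mem_range,
            LinearMap.smul_apply, LinearMap.id_apply]
        rw [LocH.idealDepth_congr (Submodule.quotEquivOfEq _ _ he) _] at h2
        rw [← hstep, ← h2]
        push_cast
        ac_rfl

end Groth.Agent.GrLCLib
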