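import Groth.Agent.GrLCLib.Compare

/-!
Shifted objects; cohomology in degree zero.
-/

set_option autoImplicit false
set_option linter.unusedSectionVars false
set_option linter.style.haveILetI false
universe u

open scoped Classical
open DirectSum

noncomputable section

namespace Groth.Agent.GrLCLib

variable {ι : Type} [AddCommGroup ι] [DecidableEq ι]
variable {R : Type u} [CommRing R] {σ : Type u} [SetLike σ R] [AddSubgroupClass σ R] {𝒜 : ι → σ} [GradedRing 𝒜]

section Shift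

variable {M : Type u} [AddCommGroup M] [Module R M] {τ : Type u} [SetLike τ M] [AddSubgroupClass τ M]

/-- The pieces of the shifted module `M(δ)`. -/
def shiftPiece (ℳ : ι → τ) (δ : ι) (g : ι) : AddSubgroup M := AddSubgroup.ofClass (ℳ (g + δ))

lemma mem_shiftPiece {ℳ : ι → τ} {δ g : ι} {x : M} : x ∈ shiftPiece ℳ δ g ↔ x ∈ ℳ (g + δ) := Iff.rfl

variable (𝒜) (ℳ : ι → τ) [DirectSum.Decomposition ℳ] [SetLike.GradedSMul 𝒜 ℳ] (δ : ι)

instance shiftPiece_gradedSMul : SetLike.GradedSMul 𝒜 (shiftPiece ℳ δ) :=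
  ⟨fun {a b _ _} hr hm => by
    rw [mem_shiftPiece, vadd_eq_add, add_assoc]
    exact SetLike.GradedSMul.smul_mem (A := 𝒜) (B := ℳ) hr hm⟩

lemma isInternal_shiftPiece : DirectSum.IsInternal (shiftPiece ℳ δ) := by
  have key : ∀ (w : ⨁ g, shiftPiece ℳ δ g) (g : ι),
      pr ℳ (g + δ) (DirectSum.coeAddMonoidHom (shiftPiece ℳ δ) w) = (w g : M) := by
    intro w g
    induction w using DirectSum.induction_on with
    | zero => simp
    | of j x =>
      rw [DirectSum.coeAddMonoidHom_of]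
      by_cases h : j = g
      · subst h
        rw [DirectSum.of_eq_same, pr_of_mem ℳ (show (x : M) ∈ ℳ (j + δ) from x.2)]
      · rw [DirectSum.of_eq_of_ne _ _ _ (Ne.symm h), pr_of_mem_ne ℳ (show (x : M) ∈ ℳ (j + δ) from x.2) (fun h' => h (add_right_cancel h'))]
        rfl
    | add a b ha hb => simp only [map_add, DirectSum.add_apply, AddSubgroup.coe_add, ha, hb]
  refine ⟨fun a b h => DFinsupp.ext fun g => Subtype.ext ?_, fun x => ?_⟩
  · rw [← key a g, ← key b g, h]
  · refine ⟨∑ g ∈ (DirectSum.decompose ℳ x).support, DirectSum.of (fun g => shiftPiece ℳ δ g) (g - δ)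
      ⟨pr ℳ g x, by rw [mem_shiftPiece, sub_add_cancel]; exact pr_mem ℳ g x⟩, ?_⟩
    rw [map_sum]
    simp only [DirectSum.coeAddMonoidHom_of]
    exact sum_pr ℳ x

/-- The decomposition of a shifted module. -/
@[instance_reducible]
def shiftDec : DirectSum.Decomposition (shiftPiece ℳ δ) := (isInternal_shiftPiece ℳ δ).chooseDecomposition

/-- A shifted module as an object. -/
def shiftObj : GrLC.GMod.{u} 𝒜 :=
  letI := shiftDec ℳ δ
  GrLC.GMod.of 𝒜 M (shiftPiece ℳ δ)

end Shift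

section ShiftRes

variable {M : Type u} [AddCommGroup M] [Module R M] {τ : Type u} [SetLike τ M] [AddSubgroupClass τ M]
  {ℳ : ι → τ} [DirectSum.Decomposition ℳ] [SetLike.GradedSMul 𝒜 ℳ]

lemma isStarInj_shift {X : GrLC.GMod.{u} 𝒜} (hX : GrLC.IsStarInj 𝒜 X.gr) (δ : ι) :
    GrLC.IsStarInj 𝒜 (shiftObj 𝒜 X.gr δ).gr := by
  intro A B f hf hinj g hg
  obtain ⟨h, hh, hh'⟩ := hX (shiftObj 𝒜 A.gr (-δ)) (shiftObj 𝒜 B.gr (-δ)) f (fun e x hx => hf _ x hx) hinj g
    (fun e x hx => by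
      have h1 : g x ∈ X.gr (e + -δ + δ) := hg (e + -δ) x hx
      rwa [neg_add_cancel_right] at h1)
  refine ⟨h, fun e x hx => ?_, hh'⟩
  exact hh (e + δ) x (show x ∈ B.gr (e + δ + -δ) by rw [add_neg_cancel_right]; exact hx)

/-- The shifted resolution resolves the shifted module. -/
def shiftRes (E : GrLC.StarInjRes 𝒜 ℳ) (δ : ι) : letI := shiftDec ℳ δ; GrLC.StarInjRes 𝒜 (shiftPiece ℳ δ) :=
  letI := shiftDec ℳ δ
  { X := fun i => shiftObj 𝒜 (E.X i).gr δ
    d := E.d
    ε := E.ε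
    d_grHom := fun i e x hx => E.d_grHom i (e + δ) x hx
    ε_grHom := fun e x hx => E.ε_grHom (e + δ) x hx
    ε_injective := E.ε_injective
    exact_zero := E.exact_zero
    exact_succ := E.exact_succ
    starInj := fun i => isStarInj_shift (E.starInj i) δ }

lemma van_shiftRes_iff (E : GrLC.StarInjRes 𝒜 ℳ) (δ : ι) (a : HomogeneousIdeal 𝒜) (i : ℕ) (e : ι) :
    (letI := shiftDec ℳ δ; Van (shiftRes E δ) a i e) ↔ Van E a i (e + δ) := by
  cases i with
  | zero => exact Iff.rfl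
  | succ i => exact Iff.rfl

lemma van_zero_iff (E : GrLC.StarInjRes 𝒜 ℳ) (a : HomogeneousIdeal 𝒜) (e : ι) :
    Van E a 0 e ↔ ∀ m ∈ ℳ e, m ∈ GrLC.gam a.toIdeal M → m = 0 := by
  constructor
  · intro h m hm hmg
    have h0 := (Submodule.mem_bot R).1 (h _ (E.ε_grHom e m hm) ⟨map_mem_gam _ hmg, d_ε E m⟩)
    exact E.ε_injective (h0.trans (map_zero _).symm)
  · intro h z hz hzc
    obtain ⟨m, hm, rfl⟩ := exists_preimage ℳ (E.X 0).gr E.ε_grHom hz (by rw [← E.exact_zero]; exact hzc.2)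
    rw [h m hm (mem_gam_of_injective E.ε_injective hzc.1), map_zero]
    exact Submodule.zero_mem _

end ShiftRes

end Groth.Agent.GrLCLib
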