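import Groth.Agent.GrLCLib.SES
import Groth.Agent.GrLCLib.Shift
import Groth.Agent.GrSyzMin.FiniteLength

/-!
Torsion modules over the polynomial ring have no higher graded local cohomology.
-/

set_option autoImplicit false
set_option linter.unusedSectionVars false
set_option linter.style.haveILetI false
universe u

open scoped Classical
open DirectSum

noncomputable section

namespace Groth.Agent.GrLCLib

variable {k : Type u} [Field k] {n : ℕ}
variable {M : Type u} [AddCommGroup M] [Module (MvPolynomial (Fin n) k) M]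

/-- Killed by powers of the first `p` variables. -/
def TorsUpTo (p : ℕ) (x : M) : Prop :=
  ∀ j : Fin n, (j : ℕ) < p → ∃ N : ℕ, (MvPolynomial.X j : MvPolynomial (Fin n) k) ^ N • x = 0

lemma torsUpTo_map {M' : Type u} [AddCommGroup M'] [Module (MvPolynomial (Fin n) k) M'] {p : ℕ}
    (f : M →ₗ[MvPolynomial (Fin n) k] M') {x : M} (hx : TorsUpTo (k := k) (n := n) p x) :
    TorsUpTo (k := k) (n := n) p (f x) := fun j hj => by
  obtain ⟨N, hN⟩ := hx j hj
  exact ⟨N, by rw [← map_smul, hN, map_zero]⟩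

lemma torsUpTo_sub {p : ℕ} {x y : M} (hx : TorsUpTo (k := k) (n := n) p x) (hy : TorsUpTo (k := k) (n := n) p y) :
    TorsUpTo (k := k) (n := n) p (x - y) := fun j hj => by
  obtain ⟨a, ha⟩ := hx j hj
  obtain ⟨b, hb⟩ := hy j hj
  have h1 : (MvPolynomial.X j : MvPolynomial (Fin n) k) ^ (a + b) • x = 0 := by
    rw [add_comm, pow_add, mul_smul, ha, smul_zero]
  have h2 : (MvPolynomial.X j : MvPolynomial (Fin n) k) ^ (a + b) • y = 0 := by
    rw [pow_add, mul_smul, hb, smul_zero]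
  exact ⟨a + b, by rw [smul_sub, h1, h2, sub_zero]⟩

lemma torsUpTo_smul {p : ℕ} {x : M} (c : MvPolynomial (Fin n) k) (hx : TorsUpTo (k := k) (n := n) p x) :
    TorsUpTo (k := k) (n := n) p (c • x) := fun j hj => by
  obtain ⟨a, ha⟩ := hx j hj
  exact ⟨a, by rw [smul_comm, ha, smul_zero]⟩

lemma mem_gam_irrel_iff (x : M) :
    x ∈ GrLC.gam (GrSyz.irrel (GrSyz.stdGr k (Fin n))).toIdeal M ↔ TorsUpTo (k := k) (n := n) n x := by
  constructor
  · rintro ⟨N, hN⟩ j -
    exact ⟨N, hN _ (Ideal.pow_mem_pow (show (MvPolynomial.X j : MvPolynomial (Fin n) k) ∈ (GrSyz.irrel (GrSyz.stdGr k (Fin n))).toIdeal from Ideal.subset_span ⟨1, one_pos, GrSyzMin.X_mem j⟩) N)⟩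
  · intro h
    choose N hN using fun j : Fin n => h j j.isLt
    let J : Ideal (MvPolynomial (Fin n) k) := Ideal.span (Set.range fun j => (MvPolynomial.X j : MvPolynomial (Fin n) k) ^ N j)
    have hle : (GrSyz.irrel (GrSyz.stdGr k (Fin n))).toIdeal ≤ J.radical := by
      rw [← GrSyzMin.ofList_vars]
      refine Ideal.span_le.2 fun y hy => ?_
      obtain ⟨j, rfl⟩ := List.mem_ofFn.1 hy
      exact ⟨N j, Ideal.subset_span ⟨j, rfl⟩⟩
    obtain ⟨m, hm⟩ := Ideal.exists_pow_le_of_le_radical_of_fg hle (IsNoetherian.noetherian _)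
    refine ⟨m, fun r hr => ?_⟩
    have := hm hr
    clear hr
    induction this using Submodule.span_induction with
    | mem y hy =>
      obtain ⟨j, rfl⟩ := hy
      exact hN j
    | zero => exact zero_smul _ x
    | add a b _ _ ha hb => rw [add_smul, ha, hb, add_zero]
    | smul a b _ hb => rw [smul_eq_mul, mul_smul, hb, smul_zero]

section Inj

variable {X : GrLC.GMod.{u} (GrSyz.stdGr k (Fin n))} (hX : GrLC.IsStarInj (GrSyz.stdGr k (Fin n)) X.gr)

include hX in
lemma exists_div_one {p : Fin n} {z : X.carrier} {e : ℤ} (hz : z ∈ X.gr e)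
    (ht : TorsUpTo (k := k) (n := n) p z) :
    ∃ w ∈ X.gr (e - 1), (MvPolynomial.X p : MvPolynomial (Fin n) k) • w = z ∧ TorsUpTo (k := k) (n := n) p w := by
  choose N hN using fun j : {j : Fin n // (j : ℕ) < p} => ht j.1 j.2
  let Nm : ℕ := (Finset.univ : Finset {j : Fin n // (j : ℕ) < p}).sup N
  have hNm : ∀ j : Fin n, (j : ℕ) < p → (MvPolynomial.X j : MvPolynomial (Fin n) k) ^ Nm • z = 0 := fun j hj => by
    have : N ⟨j, hj⟩ ≤ Nm := Finset.le_sup (f := N) (Finset.mem_univ _)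
    obtain ⟨c, hc⟩ := Nat.exists_eq_add_of_le this
    rw [hc, add_comm, pow_add, mul_smul, hN ⟨j, hj⟩, smul_zero]
  let J : Ideal (MvPolynomial (Fin n) k) :=
    Ideal.span ((fun j => (MvPolynomial.X j : MvPolynomial (Fin n) k) ^ Nm) '' {j | (j : ℕ) < p})
  have hJz : ∀ b ∈ J, b • z = 0 := fun b hb => by
    induction hb using Submodule.span_induction with
    | mem y hy => obtain ⟨j, hj, rfl⟩ := hy; exact hNm j hj
    | zero => exact zero_smul _ z
    | add a b _ _ ha hb => rw [add_smul, ha, hb, add_zero]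
    | smul a b _ hb => rw [smul_eq_mul, mul_smul, hb, smul_zero]
  have hcolon : ∀ b, (MvPolynomial.X p : MvPolynomial (Fin n) k) * b ∈ J → b ∈ J := fun b hb => by
    rw [CechX.mem_span_X_pow_iff] at hb ⊢
    intro s hs
    obtain ⟨j, hj, hle⟩ := hb (Finsupp.single p 1 + s) (by rwa [MvPolynomial.coeff_X_mul])
    refine ⟨j, hj, ?_⟩
    have hne : p ≠ j := fun h => by rw [← h] at hj; exact lt_irrefl (p : ℕ) hj
    rwa [Finsupp.add_apply, Finsupp.single_eq_of_ne hne.symm, zero_add] at hle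
  let A : GrLC.GMod.{u} (GrSyz.stdGr k (Fin n)) := shiftObj (GrSyz.stdGr k (Fin n)) (GrSyz.stdGr k (Fin n)) (-e)
  letI := shiftDec (GrSyz.stdGr k (Fin n)) (-(e - 1))
  let J' : Submodule (MvPolynomial (Fin n) k) (MvPolynomial (Fin n) k) := J
  have hJh : Homog (shiftPiece (GrSyz.stdGr k (Fin n)) (-(e - 1))) J' := by
    intro x hx g
    induction hx using Submodule.span_induction generalizing g with
    | mem y hy =>
      obtain ⟨j, hj, rfl⟩ := hy
      have hm : (MvPolynomial.X j : MvPolynomial (Fin n) k) ^ Nm ∈ (shiftPiece (GrSyz.stdGr k (Fin n)) (-(e - 1))) ((Nm : ℤ) + (e - 1)) := by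
        show (MvPolynomial.X j : MvPolynomial (Fin n) k) ^ Nm ∈ GrSyz.stdGr k (Fin n) ((Nm : ℤ) + (e - 1) + -(e - 1))
        have h1 := SetLike.pow_mem_graded (A := GrSyz.stdGr k (Fin n)) Nm (GrSyzMin.X_mem (k := k) j)
        rw [nsmul_eq_mul, mul_one] at h1
        rwa [add_neg_cancel_right]
      by_cases hg : ((Nm : ℤ) + (e - 1)) = g
      · subst hg
        rw [pr_of_mem (shiftPiece (GrSyz.stdGr k (Fin n)) (-(e - 1))) hm]
        exact Submodule.subset_span ⟨j, hj, rfl⟩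
      · rw [pr_of_mem_ne (shiftPiece (GrSyz.stdGr k (Fin n)) (-(e - 1))) hm hg]
        exact Submodule.zero_mem _
    | zero => rw [map_zero]; exact Submodule.zero_mem _
    | add a b _ _ ha hb => rw [map_add]; exact Submodule.add_mem _ (ha g) (hb g)
    | smul c a _ ha =>
      induction c using DirectSum.Decomposition.inductionOn (GrSyz.stdGr k (Fin n)) generalizing g with
      | zero => rw [zero_smul, map_zero]; exact Submodule.zero_mem _
      | @homogeneous i q => rw [pr_smul (GrSyz.stdGr k (Fin n)) (shiftPiece (GrSyz.stdGr k (Fin n)) (-(e - 1))) q.2]; exact Submodule.smul_mem _ _ (ha _)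
      | add q q' hq hq' => rw [add_smul, map_add]; exact Submodule.add_mem _ (hq g) (hq' g)
  let B := quotObj (GrSyz.stdGr k (Fin n)) (shiftPiece (GrSyz.stdGr k (Fin n)) (-(e - 1))) J' hJh
  let f : A.carrier →ₗ[MvPolynomial (Fin n) k] B.carrier :=
    J'.mkQ ∘ₗ (LinearMap.toSpanSingleton (MvPolynomial (Fin n) k) (MvPolynomial (Fin n) k) (MvPolynomial.X p : MvPolynomial (Fin n) k))
  let gz : A.carrier →ₗ[MvPolynomial (Fin n) k] X.carrier := LinearMap.toSpanSingleton _ _ z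
  have hfg : GrLC.IsGrHom A.gr B.gr f := fun g (x : MvPolynomial (Fin n) k) hx => by
    refine mkQ_grHom (shiftPiece (GrSyz.stdGr k (Fin n)) (-(e - 1))) J' g _ ?_
    show (x : MvPolynomial (Fin n) k) • (MvPolynomial.X p : MvPolynomial (Fin n) k) ∈ GrSyz.stdGr k (Fin n) (g + -(e - 1))
    have h1 := SetLike.mul_mem_graded (show (x : MvPolynomial (Fin n) k) ∈ GrSyz.stdGr k (Fin n) (g + -e) from hx) (GrSyzMin.X_mem (k := k) p)
    rwa [show g + -(e - 1) = g + -e + 1 by ring, smul_eq_mul]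
  have hgz : GrLC.IsGrHom A.gr X.gr gz := fun g x hx => by
    have h1 : gz x ∈ X.gr (g + -e + e) := SetLike.GradedSMul.smul_mem (A := GrSyz.stdGr k (Fin n)) (B := X.gr) (show (x : MvPolynomial (Fin n) k) ∈ GrSyz.stdGr k (Fin n) (g + -e) from hx) hz
    rwa [show g + -e + e = g by ring] at h1
  obtain ⟨h, hh, hh'⟩ := exists_extend hX (f := f) hfg (g := gz) hgz (fun b hb => by
    refine hJz b (hcolon b ?_)
    have := (Submodule.Quotient.mk_eq_zero J').1 (hb : f b = 0)
    rwa [mul_comm])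
  let one : B.carrier := J'.mkQ (1 : MvPolynomial (Fin n) k)
  have hone : one ∈ B.gr (e - 1) := mkQ_grHom (shiftPiece (GrSyz.stdGr k (Fin n)) (-(e - 1))) J' (e - 1) (1 : MvPolynomial (Fin n) k)
    (show (1 : MvPolynomial (Fin n) k) ∈ GrSyz.stdGr k (Fin n) ((e - 1) + -(e - 1)) by
      rw [add_neg_cancel]; exact SetLike.one_mem_graded _)
  refine ⟨h one, hh _ _ hone, ?_, fun j hj => ⟨Nm, ?_⟩⟩
  · rw [← map_smul]
    have h1 := LinearMap.congr_fun hh' (1 : MvPolynomial (Fin n) k)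
    have h2 : gz (1 : MvPolynomial (Fin n) k) = z := one_smul _ z
    have h3 : f (1 : MvPolynomial (Fin n) k) = (MvPolynomial.X p : MvPolynomial (Fin n) k) • one := by
      show J'.mkQ ((1 : MvPolynomial (Fin n) k) • (MvPolynomial.X p : MvPolynomial (Fin n) k)) = _
      refine (congrArg J'.mkQ ?_).trans (map_smul J'.mkQ (MvPolynomial.X p : MvPolynomial (Fin n) k) (1 : MvPolynomial (Fin n) k))
      rw [smul_eq_mul, smul_eq_mul, one_mul, mul_one]
    rw [LinearMap.comp_apply, h3, h2] at h1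
    exact h1
  · rw [← map_smul]
    have : (MvPolynomial.X j : MvPolynomial (Fin n) k) ^ Nm • one = 0 := by
      show (MvPolynomial.X j : MvPolynomial (Fin n) k) ^ Nm • J'.mkQ (1 : MvPolynomial (Fin n) k) = 0
      rw [← map_smul]
      exact (Submodule.Quotient.mk_eq_zero J').2 (by
        show (MvPolynomial.X j : MvPolynomial (Fin n) k) ^ Nm * 1 ∈ J
        rw [mul_one]
        exact Ideal.subset_span ⟨j, hj, rfl⟩)
    rw [this, map_zero]

include hX in
lemma exists_div_pow (p : Fin n) : ∀ (N : ℕ) {z : X.carrier} {e : ℤ}, z ∈ X.gr e →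
    TorsUpTo (k := k) (n := n) p z → ∃ w ∈ X.gr (e - N),
      (MvPolynomial.X p : MvPolynomial (Fin n) k) ^ N • w = z ∧ TorsUpTo (k := k) (n := n) p w := by
  intro N
  induction N with
  | zero => intro z e hz ht; exact ⟨z, by simpa using hz, by rw [pow_zero, one_smul], ht⟩
  | succ N ih =>
    intro z e hz ht
    obtain ⟨w, hw, hwz, hwt⟩ := ih hz ht
    obtain ⟨w', hw', hww, hwt'⟩ := exists_div_one hX hw hwt
    refine ⟨w', by rwa [show e - ((N + 1 : ℕ) : ℤ) = e - N - 1 by push_cast; ring], ?_, hwt'⟩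
    rw [pow_succ, mul_smul, hww, hwz]

end Inj

variable {τ : Type u} [SetLike τ M] [AddSubgroupClass τ M] {ℳ : ℤ → τ} [DirectSum.Decomposition ℳ]
  [SetLike.GradedSMul (GrSyz.stdGr k (Fin n)) ℳ]

lemma pr_torsUpTo {N : Type u} [AddCommGroup N] [Module (MvPolynomial (Fin n) k) N] {τ' : Type u}
    [SetLike τ' N] [AddSubgroupClass τ' N] (𝒩 : ℤ → τ') [DirectSum.Decomposition 𝒩]
    [SetLike.GradedSMul (GrSyz.stdGr k (Fin n)) 𝒩] {p : ℕ} {x : N} (hx : TorsUpTo (k := k) (n := n) p x) (g : ℤ) :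
    TorsUpTo (k := k) (n := n) p (pr 𝒩 g x) := fun j hj => by
  obtain ⟨a, ha⟩ := hx j hj
  refine ⟨a, ?_⟩
  have h1 := SetLike.pow_mem_graded (A := GrSyz.stdGr k (Fin n)) a (GrSyzMin.X_mem (k := k) j)
  have h2 := pr_smul (GrSyz.stdGr k (Fin n)) 𝒩 h1 (g + a • (1 : ℤ)) x
  rw [ha, map_zero, add_sub_cancel_right] at h2
  exact h2.symm

theorem exists_torsUpTo_preimage (E : GrLC.StarInjRes (GrSyz.stdGr k (Fin n)) ℳ) :
    ∀ p : ℕ, p ≤ n → (∀ m : M, TorsUpTo (k := k) (n := n) p m) → ∀ (i : ℕ) (e : ℤ) (z : (E.X (i + 1)).carrier),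
      z ∈ (E.X (i + 1)).gr e → TorsUpTo (k := k) (n := n) p z → E.d (i + 1) z = 0 →
      ∃ w ∈ (E.X i).gr e, TorsUpTo (k := k) (n := n) p w ∧ E.d i w = z := by
  intro p
  induction p with
  | zero =>
    intro _ _ i e z hz _ hdz
    obtain ⟨w, hw, hwz⟩ := exists_preimage (E.X i).gr (E.X (i + 1)).gr (E.d_grHom i) hz
      (by rw [← E.exact_succ i]; exact hdz)
    exact ⟨w, hw, fun j hj => absurd hj (Nat.not_lt_zero _), hwz⟩
  | succ p ih =>
    intro hp hM i e z hz hzt hdz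
    have hM' : ∀ m : M, TorsUpTo (k := k) (n := n) p m := fun m j hj => hM m j (by omega)
    obtain ⟨w, hw, hwt, hwz⟩ := ih (by omega) hM' i e z hz (fun j hj => hzt j (by omega)) hdz
    let v : Fin n := ⟨p, by omega⟩
    obtain ⟨N, hN⟩ := hzt v (Nat.lt_succ_self p)
    have key : ∀ w' : (E.X i).carrier, TorsUpTo (k := k) (n := n) p w' →
        (∃ L, (MvPolynomial.X v : MvPolynomial (Fin n) k) ^ L • w' = 0) → TorsUpTo (k := k) (n := n) (p + 1) w' := by
      intro w' h1 h2 j hj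
      rcases Nat.lt_succ_iff_lt_or_eq.1 hj with h | h
      · exact h1 j h
      · rw [show j = v from Fin.ext h]; exact h2
    have hu : E.d i ((MvPolynomial.X v : MvPolynomial (Fin n) k) ^ N • w) = 0 := by rw [map_smul, hwz, hN]
    cases i with
    | zero =>
      obtain ⟨m, hm⟩ : (MvPolynomial.X v : MvPolynomial (Fin n) k) ^ N • w ∈ LinearMap.range E.ε := by
        rw [← E.exact_zero]; exact hu
      obtain ⟨L, hL⟩ := hM m v (Nat.lt_succ_self p)
      refine ⟨w, hw, key w hwt ⟨L + N, ?_⟩, hwz⟩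
      rw [pow_add, mul_smul, ← hm, ← map_smul, hL, map_zero]
    | succ i =>
      have hmem : (MvPolynomial.X v : MvPolynomial (Fin n) k) ^ N • w ∈ (E.X (i + 1)).gr (N • (1 : ℤ) + e) :=
        SetLike.GradedSMul.smul_mem (A := GrSyz.stdGr k (Fin n)) (B := (E.X (i + 1)).gr) (SetLike.pow_mem_graded N (GrSyzMin.X_mem v)) hw
      obtain ⟨u, hu1, hut, hud⟩ := ih (by omega) hM' i _ _ hmem (torsUpTo_smul _ hwt) hu
      obtain ⟨u', hu', huu, hut'⟩ := exists_div_pow (E.starInj i) v N hu1 hut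
      rw [show N • (1 : ℤ) + e - N = e by rw [nsmul_eq_mul, mul_one]; ring] at hu'
      refine ⟨w - E.d i u', sub_mem hw (E.d_grHom i e u' hu'), key _ (torsUpTo_sub hwt (torsUpTo_map _ hut')) ⟨N, ?_⟩, ?_⟩
      · rw [smul_sub, ← map_smul, huu, hud, sub_self]
      · rw [map_sub, d_d, sub_zero, hwz]

theorem van_succ_of_torsion (E : GrLC.StarInjRes (GrSyz.stdGr k (Fin n)) ℳ)
    (hM : GrLC.gam (GrSyz.irrel (GrSyz.stdGr k (Fin n))).toIdeal M = ⊤) (i : ℕ) (e : ℤ) :
    Van E (GrSyz.irrel (GrSyz.stdGr k (Fin n))) (i + 1) e := by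
  intro z hz hzc
  obtain ⟨w, -, hwt, hwz⟩ := exists_torsUpTo_preimage E n le_rfl
    (fun m => (mem_gam_irrel_iff m).1 (by rw [hM]; trivial)) i e z hz ((mem_gam_irrel_iff z).1 hzc.1) hzc.2
  exact ⟨w, (mem_gam_irrel_iff w).2 hwt, hwz⟩

end Groth.Agent.GrLCLib
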