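import Groth.Agent.GrSyzMin.FiniteLength
import Groth.Agent.GrLCLib.Torsion

/-!
A homogeneous regular element of positive degree on a torsion-free graded module.
-/

set_option autoImplicit false
set_option linter.unusedSectionVars false
universe u

open scoped Classical
open DirectSum

noncomputable section

namespace Groth.Agent.GrLCLib

variable {k : Type u} [Field k] {n : ℕ}

/-- Homogeneous prime avoidance. -/
theorem exists_homog_notMem : ∀ (c : ℕ) (S : Finset (Ideal (MvPolynomial (Fin n) k))), S.card = c →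
    (∀ p ∈ S, p.IsPrime ∧ ¬ (GrSyz.irrel (GrSyz.stdGr k (Fin n))).toIdeal ≤ p) → (0 < n) →
    ∃ (m : ℕ) (x : MvPolynomial (Fin n) k), 0 < m ∧ x ∈ GrSyz.stdGr k (Fin n) m ∧ ∀ p ∈ S, x ∉ p := by
  intro c
  induction c with
  | zero =>
    intro S hS _ hn
    exact ⟨1, MvPolynomial.X ⟨0, hn⟩, one_pos, GrSyzMin.X_mem _, fun p hp => by
      rw [Finset.card_eq_zero.1 hS] at hp; exact absurd hp (Finset.notMem_empty p)⟩
  | succ c ih =>
    intro S hS hprime hn
    obtain ⟨p, hp⟩ : S.Nonempty := Finset.card_pos.1 (by omega)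
    have hc : (S.erase p).card = c := by rw [Finset.card_erase_of_mem hp]; omega
    obtain ⟨a, s, ha, hs, hsq⟩ := ih (S.erase p) hc (fun q hq => hprime q (Finset.mem_of_mem_erase hq)) hn
    by_cases hsp : s ∉ p
    · refine ⟨a, s, ha, hs, fun q hq => ?_⟩
      by_cases hqp : q = p
      · rwa [hqp]
      · exact hsq q (Finset.mem_erase.2 ⟨hqp, hq⟩)
    rw [not_not] at hsp
    by_cases hall : ∀ q ∈ S.erase p, ∃ (b : ℕ) (t : MvPolynomial (Fin n) k), 0 < b ∧ t ∈ GrSyz.stdGr k (Fin n) b ∧ t ∈ q ∧ t ∉ p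
    · obtain ⟨hpp, hpi⟩ := hprime p hp
      obtain ⟨j, hj⟩ : ∃ j : Fin n, (MvPolynomial.X j : MvPolynomial (Fin n) k) ∉ p := by
        by_contra h
        push Not at h
        refine hpi ?_
        rw [← GrSyzMin.ofList_vars]
        refine Ideal.span_le.2 fun y hy => ?_
        obtain ⟨j, rfl⟩ := List.mem_ofFn.1 hy
        exact h j
      have hu : ∀ T : Finset (Ideal (MvPolynomial (Fin n) k)), (∀ q ∈ T, q ∈ S.erase p) →
          ∃ (b : ℕ) (t : MvPolynomial (Fin n) k), 0 < b ∧ t ∈ GrSyz.stdGr k (Fin n) b ∧ (∀ q ∈ T, t ∈ q) ∧ t ∉ p := by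
        intro T
        induction T using Finset.induction with
        | empty => exact fun _ => ⟨1, MvPolynomial.X j, one_pos, GrSyzMin.X_mem j, by simp, hj⟩
        | insert q T hqT ihT =>
          intro hT
          obtain ⟨b, t, hb, ht, htq, htp⟩ := ihT fun q' hq' => hT q' (Finset.mem_insert_of_mem hq')
          obtain ⟨b', t', hb', ht', htq', htp'⟩ := hall q (hT q (Finset.mem_insert_self _ _))
          refine ⟨b + b', t * t', by omega, by simpa using SetLike.mul_mem_graded ht ht', fun q' hq' => ?_,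
            fun h => (hpp.mem_or_mem h).elim htp htp'⟩
          rcases Finset.mem_insert.1 hq' with rfl | h
          · exact Ideal.mul_mem_left _ _ htq'
          · exact Ideal.mul_mem_right _ _ (htq q' h)
      obtain ⟨b, u, hb, hu, huq, hup⟩ := hu (S.erase p) fun q hq => hq
      refine ⟨b * a, s ^ b + u ^ a, Nat.mul_pos hb ha, Submodule.add_mem _ ?_ ?_, fun q hq => ?_⟩
      · simpa using SetLike.pow_mem_graded (A := GrSyz.stdGr k (Fin n)) b hs
      · simpa [mul_comm] using SetLike.pow_mem_graded (A := GrSyz.stdGr k (Fin n)) a hu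
      · by_cases hqp : q = p
        · subst hqp
          intro h
          exact hup (hpp.mem_of_pow_mem a ((Submodule.add_mem_iff_right q (Ideal.pow_mem_of_mem q hsp b hb)).1 h))
        · intro h
          have hqS := Finset.mem_erase.2 ⟨hqp, hq⟩
          exact hsq q hqS ((hprime q hq).1.mem_of_pow_mem b
            ((Submodule.add_mem_iff_left q (Ideal.pow_mem_of_mem q (huq q hqS) a ha)).1 h))
    · push Not at hall
      obtain ⟨q, hq, hqsub⟩ := hall
      obtain ⟨b, x, hb, hx, hxS⟩ := ih (S.erase q) (by rw [Finset.card_erase_of_mem (Finset.mem_of_mem_erase hq)]; omega)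
        (fun q' hq' => hprime q' (Finset.mem_of_mem_erase hq')) hn
      refine ⟨b, x, hb, hx, fun q' hq' => ?_⟩
      by_cases h : q' = q
      · rw [h]
        exact fun hxq => hxS p (Finset.mem_erase.2 ⟨(Finset.mem_erase.1 hq).1.symm, hp⟩) (hqsub b x hb hx hxq)
      · exact hxS q' (Finset.mem_erase.2 ⟨h, hq'⟩)

theorem exists_regular {M : Type u} [AddCommGroup M] [Module (MvPolynomial (Fin n) k) M]
    [Module.Finite (MvPolynomial (Fin n) k) M] [Nontrivial M]
    (h : ∀ x : M, x ∈ GrLC.gam (GrSyz.irrel (GrSyz.stdGr k (Fin n))).toIdeal M → x = 0) :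
    ∃ (m : ℕ) (x : MvPolynomial (Fin n) k), 0 < m ∧ x ∈ GrSyz.stdGr k (Fin n) m ∧ IsSMulRegular M x := by
  have hn : 0 < n := by
    rcases Nat.eq_zero_or_pos n with rfl | hn
    · exfalso
      obtain ⟨x, hx⟩ := exists_ne (0 : M)
      exact hx (h x ((mem_gam_irrel_iff x).2 fun j _ => j.elim0))
    · exact hn
  have hfin := associatedPrimes.finite (MvPolynomial (Fin n) k) M
  obtain ⟨m, x, hm, hx, hnot⟩ := exists_homog_notMem _ hfin.toFinset rfl (fun p hp => by
    have hp' : IsAssociatedPrime p M := hfin.mem_toFinset.1 hp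
    refine ⟨hp'.isPrime, fun hle => ?_⟩
    obtain ⟨hpr, y, hy⟩ := isAssociatedPrime_iff.1 hp'
    have : y = 0 := h y ⟨1, fun r hr => by
      rw [pow_one] at hr
      have := hle hr
      rw [hy] at this
      simpa using this⟩
    refine hpr.ne_top ((Ideal.eq_top_iff_one p).2 ?_)
    rw [hy, this]
    simp) hn
  refine ⟨m, x, hm, hx, IsSMulRegular.of_right_eq_zero_of_smul fun y hy => ?_⟩
  by_contra hy0
  have : x ∈ ⋃ p ∈ associatedPrimes (MvPolynomial (Fin n) k) M, (p : Set (MvPolynomial (Fin n) k)) := by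
    rw [biUnion_associatedPrimes_eq_zero_divisors]
    exact ⟨y, hy0, hy⟩
  obtain ⟨p, hp, hxp⟩ := Set.mem_iUnion₂.1 this
  exact hnot p (hfin.mem_toFinset.2 hp) hxp

end Groth.Agent.GrLCLib
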