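import Groth.Agent.GrLCLib.Cohom

/-!
Maps of injective resolutions over maps of graded modules, homotopies, invariance of vanishing.
-/

set_option autoImplicit false
set_option linter.unusedSectionVars false
set_option linter.style.haveILetI false
universe u

open scoped Classical
open DirectSum

noncomputable section

namespace Groth.Agent.GrLCLib

variable {ι : Type} [AddCommGroup ι] [DecidableEq ι]
variable {R : Type u} [CommRing R] {σ : Type u} [SetLike σ R] [AddSubgroupClass σ R] {𝒜 : ι → σ} [GradedRing 𝒜]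

section ObjOf

variable (𝒜)
variable {M : Type u} [AddCommGroup M] [Module R M] {τ : Type u} [SetLike τ M] [AddSubgroupClass τ M]
  (ℳ : ι → τ) [DirectSum.Decomposition ℳ] [SetLike.GradedSMul 𝒜 ℳ]

/-- The pieces as subgroups. -/
def agPiece (g : ι) : AddSubgroup M := AddSubgroup.ofClass (ℳ g)

lemma isInternal_agPiece : DirectSum.IsInternal (agPiece ℳ) :=
  (DirectSum.Decomposition.isInternal ℳ : _)

instance agPiece_gradedSMul : SetLike.GradedSMul 𝒜 (agPiece ℳ) :=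
  ⟨fun {_ _ _ m} hr hm => SetLike.GradedSMul.smul_mem (A := 𝒜) (B := ℳ) (bj := m) hr hm⟩

/-- The bundled object of a graded module. -/
def objOf : GrLC.GMod.{u} 𝒜 :=
  letI : DirectSum.Decomposition (agPiece ℳ) := (isInternal_agPiece ℳ).chooseDecomposition
  GrLC.GMod.of 𝒜 M (agPiece ℳ)

end ObjOf

/-- Extension of a graded map along a graded map. -/
theorem exists_extend {A B X : GrLC.GMod.{u} 𝒜} (hX : GrLC.IsStarInj 𝒜 X.gr)
    {f : A.carrier →ₗ[R] B.carrier} (hf : GrLC.IsGrHom A.gr B.gr f)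
    {g : A.carrier →ₗ[R] X.carrier} (hg : GrLC.IsGrHom A.gr X.gr g) (hker : LinearMap.ker f ≤ LinearMap.ker g) :
    ∃ h : B.carrier →ₗ[R] X.carrier, GrLC.IsGrHom B.gr X.gr h ∧ h ∘ₗ f = g := by
  have hK : Homog A.gr (LinearMap.ker f) := homog_ker A.gr B.gr hf
  let Q : GrLC.GMod.{u} 𝒜 := quotObj 𝒜 A.gr (LinearMap.ker f) hK
  obtain ⟨h, hh, hh'⟩ := hX Q B ((LinearMap.ker f).liftQ f le_rfl)
    (fun e z ⟨x, hx, hz⟩ => hz ▸ hf e x hx)
    (LinearMap.ker_eq_bot.1 (Submodule.ker_liftQ_eq_bot' _ _ rfl))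
    ((LinearMap.ker f).liftQ g hker) (fun e z ⟨x, hx, hz⟩ => hz ▸ hg e x hx)
  refine ⟨h, hh, LinearMap.ext fun x => ?_⟩
  exact LinearMap.congr_fun hh' ((LinearMap.ker f).mkQ x)

variable {M : Type u} [AddCommGroup M] [Module R M] {τ : Type u} [SetLike τ M] [AddSubgroupClass τ M]
  {ℳ : ι → τ} [DirectSum.Decomposition ℳ] [SetLike.GradedSMul 𝒜 ℳ]
variable {N : Type u} [AddCommGroup N] [Module R N] {τ' : Type u} [SetLike τ' N] [AddSubgroupClass τ' N]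
  {𝒩 : ι → τ'} [DirectSum.Decomposition 𝒩] [SetLike.GradedSMul 𝒜 𝒩]

/-- A map of resolutions over a map of modules. -/
structure RMap (E : GrLC.StarInjRes 𝒜 ℳ) (E' : GrLC.StarInjRes 𝒜 𝒩) (f : M →ₗ[R] N) where
  φ : ∀ i, (E.X i).carrier →ₗ[R] (E'.X i).carrier
  gr : ∀ i, GrLC.IsGrHom (E.X i).gr (E'.X i).gr (φ i)
  ε : ∀ m, φ 0 (E.ε m) = E'.ε (f m)
  comm : ∀ i x, φ (i + 1) (E.d i x) = E'.d i (φ i x)

variable (E : GrLC.StarInjRes 𝒜 ℳ) (E' : GrLC.StarInjRes 𝒜 𝒩) (f : M →ₗ[R] N)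

lemma ker_d_succ_le {i : ℕ} {Z : Type u} [AddCommGroup Z] [Module R Z] {g : (E.X (i + 1)).carrier →ₗ[R] Z}
    (h : ∀ w, g (E.d i w) = 0) : LinearMap.ker (E.d (i + 1)) ≤ LinearMap.ker g := by
  rw [E.exact_succ i]
  rintro _ ⟨w, rfl⟩
  exact h w

lemma ker_d_zero_le {Z : Type u} [AddCommGroup Z] [Module R Z] {g : (E.X 0).carrier →ₗ[R] Z}
    (h : ∀ m, g (E.ε m) = 0) : LinearMap.ker (E.d 0) ≤ LinearMap.ker g := by
  rw [E.exact_zero]
  rintro _ ⟨w, rfl⟩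
  exact h w

theorem exists_rmap (hf : GrLC.IsGrHom ℳ 𝒩 f) : Nonempty (RMap E E' f) := by
  obtain ⟨φ0, hφ0, hφ0'⟩ := exists_extend (A := objOf 𝒜 ℳ) (E'.starInj 0) (f := E.ε) E.ε_grHom (g := E'.ε ∘ₗ f)
    (fun e x hx => E'.ε_grHom e _ (hf e x hx))
    (fun x hx => by rw [E.ε_injective ((LinearMap.mem_ker.1 hx).trans (map_zero E.ε).symm)]; exact Submodule.zero_mem _)
  let T : ℕ → Type u := fun i => {φ : (E.X i).carrier →ₗ[R] (E'.X i).carrier //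
    GrLC.IsGrHom (E.X i).gr (E'.X i).gr φ ∧ LinearMap.ker (E.d i) ≤ LinearMap.ker (E'.d i ∘ₗ φ)}
  have step : ∀ i (φ : T i), ∃ ψ : T (i + 1), ∀ x, ψ.1 (E.d i x) = E'.d i (φ.1 x) := by
    rintro i ⟨φ, hφ, hk⟩
    obtain ⟨ψ, hψ, hψ'⟩ := exists_extend (E'.starInj (i + 1)) (f := E.d i) (E.d_grHom i) (g := E'.d i ∘ₗ φ)
      (fun e x hx => E'.d_grHom i e _ (hφ e x hx)) hk
    refine ⟨⟨ψ, hψ, ker_d_succ_le E fun w => ?_⟩, fun x => LinearMap.congr_fun hψ' x⟩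
    rw [LinearMap.comp_apply, show ψ (E.d i w) = E'.d i (φ w) from LinearMap.congr_fun hψ' w, d_d]
  let Φ : ∀ i, T i := fun i => Nat.rec (⟨φ0, hφ0, ker_d_zero_le E fun m => by
    rw [LinearMap.comp_apply, show φ0 (E.ε m) = E'.ε (f m) from LinearMap.congr_fun hφ0' m, d_ε]⟩ : T 0)
    (fun i φ => (step i φ).choose) i
  exact ⟨⟨fun i => (Φ i).1, fun i => (Φ i).2.1, fun m => LinearMap.congr_fun hφ0' m,
    fun i x => (step i (Φ i)).choose_spec x⟩⟩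

theorem exists_null {f : M →ₗ[R] N} (φ : RMap E E' f) (hf : f = 0) :
    ∃ h : ∀ i, (E.X (i + 1)).carrier →ₗ[R] (E'.X i).carrier,
      (∀ i, GrLC.IsGrHom (E.X (i + 1)).gr (E'.X i).gr (h i)) ∧ (∀ x, φ.φ 0 x = h 0 (E.d 0 x)) ∧
        ∀ i x, φ.φ (i + 1) x = E'.d i (h i x) + h (i + 1) (E.d (i + 1) x) := by
  subst hf
  obtain ⟨h0, hh0, hh0'⟩ := exists_extend (E'.starInj 0) (f := E.d 0) (E.d_grHom 0) (g := φ.φ 0) (φ.gr 0)
    (ker_d_zero_le E fun m => by rw [φ.ε, LinearMap.zero_apply, map_zero])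
  let T : ℕ → Type u := fun i => {h : (E.X (i + 1)).carrier →ₗ[R] (E'.X i).carrier //
    GrLC.IsGrHom (E.X (i + 1)).gr (E'.X i).gr h ∧ ∀ w, E'.d i (φ.φ i w - h (E.d i w)) = 0}
  have step : ∀ i (h : T i), ∃ h' : T (i + 1),
      ∀ x, φ.φ (i + 1) x = E'.d i (h.1 x) + h'.1 (E.d (i + 1) x) := by
    rintro i ⟨h, hh, hk⟩
    obtain ⟨h', hh1, hh2⟩ := exists_extend (E'.starInj (i + 1)) (f := E.d (i + 1)) (E.d_grHom (i + 1))
      (g := φ.φ (i + 1) - E'.d i ∘ₗ h) (fun e x hx => sub_mem (φ.gr (i + 1) e x hx) (E'.d_grHom i e _ (hh e x hx)))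
      (ker_d_succ_le E fun w => by
        rw [LinearMap.sub_apply, LinearMap.comp_apply, φ.comm, ← map_sub]
        exact hk w)
    have he : ∀ x, h' (E.d (i + 1) x) = φ.φ (i + 1) x - E'.d i (h x) := fun x => LinearMap.congr_fun hh2 x
    refine ⟨⟨h', hh1, fun w => ?_⟩, fun x => by rw [he]; abel⟩
    rw [he, sub_sub_cancel, d_d]
  let H : ∀ i, T i := fun i => Nat.rec (⟨h0, hh0, fun w => by
    rw [show h0 (E.d 0 w) = φ.φ 0 w from LinearMap.congr_fun hh0' w, sub_self, map_zero]⟩ : T 0)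
    (fun i h => (step i h).choose) i
  exact ⟨fun i => (H i).1, fun i => (H i).2.1, fun x => (LinearMap.congr_fun hh0' x).symm,
    fun i x => (step i (H i)).choose_spec x⟩

variable {E E' f}

lemma RMap.map_cocyc (φ : RMap E E' f) (a : HomogeneousIdeal 𝒜) {i : ℕ} {z : (E.X i).carrier}
    (hz : z ∈ E.cocyc a i) : φ.φ i z ∈ E'.cocyc a i :=
  ⟨map_mem_gam _ hz.1, by
    show E'.d i (φ.φ i z) = 0
    rw [← φ.comm, show E.d i z = 0 from hz.2, map_zero]⟩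

lemma RMap.map_cobdy (φ : RMap E E' f) (a : HomogeneousIdeal 𝒜) : ∀ {i : ℕ} {z : (E.X i).carrier},
    z ∈ E.cobdy a i → φ.φ i z ∈ E'.cobdy a i
  | 0, z, hz => by rw [(Submodule.mem_bot R).1 hz, map_zero]; exact Submodule.zero_mem _
  | i + 1, _, ⟨w, hw, hwz⟩ => ⟨φ.φ i w, map_mem_gam _ hw, by rw [← φ.comm, hwz]⟩

variable {E₂ : GrLC.StarInjRes 𝒜 ℳ}

/-- A round trip is the identity on classes. -/
lemma roundtrip (φ : RMap E E₂ LinearMap.id) (ψ : RMap E₂ E LinearMap.id) (a : HomogeneousIdeal 𝒜) {i : ℕ}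
    {z : (E.X i).carrier} (hz : z ∈ E.cocyc a i) : ψ.φ i (φ.φ i z) - z ∈ E.cobdy a i := by
  let χ : RMap E E (0 : M →ₗ[R] M) :=
    { φ := fun i => (ψ.φ i ∘ₗ φ.φ i) - LinearMap.id
      gr := fun i e x hx => sub_mem (ψ.gr i e _ (φ.gr i e x hx)) hx
      ε := fun m => by simp [φ.ε, ψ.ε]
      comm := fun i x => by simp [φ.comm, ψ.comm] }
  obtain ⟨h, hgr, h0, h1⟩ := exists_null E E χ rfl
  show χ.φ i z ∈ E.cobdy a i
  cases i with
  | zero =>
    rw [h0, show E.d 0 z = 0 from hz.2, map_zero]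
    exact Submodule.zero_mem _
  | succ i =>
    rw [h1, show E.d (i + 1) z = 0 from hz.2, map_zero, add_zero]
    exact ⟨h i z, map_mem_gam _ hz.1, rfl⟩

theorem van_congr (E E₂ : GrLC.StarInjRes 𝒜 ℳ) (a : HomogeneousIdeal 𝒜) (i : ℕ) (g : ι) (h : Van E a i g) :
    Van E₂ a i g := by
  intro z hzg hz
  obtain ⟨φ⟩ := exists_rmap E₂ E LinearMap.id (fun _ _ hx => hx)
  obtain ⟨ψ⟩ := exists_rmap E E₂ LinearMap.id (fun _ _ hx => hx)
  have h1 := ψ.map_cobdy a (h _ (φ.gr i g z hzg) (φ.map_cocyc a hz))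
  have h2 := roundtrip φ ψ a hz
  simpa using Submodule.sub_mem _ h1 h2

end Groth.Agent.GrLCLib
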