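import Groth.Agent.GrLCLib.Compare

/-!
The cone resolution of a cokernel; vanishing along short exact sequences.
-/

set_option autoImplicit false
set_option linter.unusedSectionVars false
set_option linter.style.haveILetI false
universe u

open scoped Classical
open DirectSum

noncomputable section

namespace Groth.Agent.GrLCLib

variable {ι : Type} [AddCommGroup ι] [DecidableEq ι]
variable {R : Type u} [CommRing R] {σ : Type u} [SetLike σ R] [AddSubgroupClass σ R] {𝒜 : ι → σ} [GradedRing 𝒜]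

section Prod

variable (X X' : GrLC.GMod.{u} 𝒜)

/-- The pieces of a product. -/
def prodPiece (g : ι) : AddSubgroup (X.carrier × X'.carrier) := (X.gr g).prod (X'.gr g)

instance : SetLike.GradedSMul 𝒜 (prodPiece X X') :=
  ⟨fun {_ _ _ m} hr hm =>
    ⟨SetLike.GradedSMul.smul_mem (A := 𝒜) (B := X.gr) (bj := m.1) hr hm.1,
      SetLike.GradedSMul.smul_mem (A := 𝒜) (B := X'.gr) (bj := m.2) hr hm.2⟩⟩

lemma isInternal_prodPiece : DirectSum.IsInternal (prodPiece X X') := by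
  have key : ∀ (w : ⨁ g, prodPiece X X' g) (g : ι),
      pr X.gr g (DirectSum.coeAddMonoidHom (prodPiece X X') w).1 = ((w g : X.carrier × X'.carrier)).1 ∧
      pr X'.gr g (DirectSum.coeAddMonoidHom (prodPiece X X') w).2 = ((w g : X.carrier × X'.carrier)).2 := by
    intro w g
    induction w using DirectSum.induction_on with
    | zero => simp
    | of j x =>
      rw [DirectSum.coeAddMonoidHom_of]
      by_cases h : j = g
      · subst h
        rw [DirectSum.of_eq_same]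
        exact ⟨pr_of_mem _ x.2.1, pr_of_mem _ x.2.2⟩
      · rw [DirectSum.of_eq_of_ne _ _ _ (Ne.symm h)]
        exact ⟨pr_of_mem_ne _ x.2.1 h, pr_of_mem_ne _ x.2.2 h⟩
    | add a b ha hb => simp only [map_add, DirectSum.add_apply, AddSubgroup.coe_add, Prod.fst_add, Prod.snd_add, ha.1, ha.2, hb.1, hb.2, and_self]
  refine ⟨fun a b h => DFinsupp.ext fun g => Subtype.ext (Prod.ext ?_ ?_), fun z => ?_⟩
  · rw [← (key a g).1, ← (key b g).1, h]
  · rw [← (key a g).2, ← (key b g).2, h]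
  · refine ⟨(∑ g ∈ (DirectSum.decompose X.gr z.1).support,
        DirectSum.of (fun g => prodPiece X X' g) g ⟨(pr X.gr g z.1, 0), pr_mem X.gr g z.1, zero_mem _⟩) +
      ∑ g ∈ (DirectSum.decompose X'.gr z.2).support,
        DirectSum.of (fun g => prodPiece X X' g) g ⟨(0, pr X'.gr g z.2), zero_mem _, pr_mem X'.gr g z.2⟩, ?_⟩
    rw [map_add, map_sum, map_sum]
    simp only [DirectSum.coeAddMonoidHom_of]
    refine Prod.ext ?_ ?_
    · simp [Prod.fst_sum, sum_pr]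
    · simp [Prod.snd_sum, sum_pr]

/-- The product of two objects. -/
def prodObj : GrLC.GMod.{u} 𝒜 :=
  letI : DirectSum.Decomposition (prodPiece X X') := (isInternal_prodPiece X X').chooseDecomposition
  GrLC.GMod.of 𝒜 (X.carrier × X'.carrier) (prodPiece X X')

lemma isStarInj_prodObj (hX : GrLC.IsStarInj 𝒜 X.gr) (hX' : GrLC.IsStarInj 𝒜 X'.gr) :
    GrLC.IsStarInj 𝒜 (prodObj X X').gr := by
  intro A B f hf hinj g hg
  obtain ⟨h1, hh1, e1⟩ := hX A B f hf hinj (LinearMap.fst R X.carrier X'.carrier ∘ₗ g) (fun e x hx => (hg e x hx).1)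
  obtain ⟨h2, hh2, e2⟩ := hX' A B f hf hinj (LinearMap.snd R X.carrier X'.carrier ∘ₗ g) (fun e x hx => (hg e x hx).2)
  exact ⟨h1.prod h2, fun e x hx => ⟨hh1 e x hx, hh2 e x hx⟩, LinearMap.ext fun x =>
    Prod.ext (LinearMap.congr_fun e1 x) (LinearMap.congr_fun e2 x)⟩

end Prod

variable {MA : Type u} [AddCommGroup MA] [Module R MA] {τA : Type u} [SetLike τA MA] [AddSubgroupClass τA MA]
  {ℳA : ι → τA} [DirectSum.Decomposition ℳA] [SetLike.GradedSMul 𝒜 ℳA]
variable {MB : Type u} [AddCommGroup MB] [Module R MB] {τB : Type u} [SetLike τB MB] [AddSubgroupClass τB MB]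
  {ℳB : ι → τB} [DirectSum.Decomposition ℳB] [SetLike.GradedSMul 𝒜 ℳB]
variable {MC : Type u} [AddCommGroup MC] [Module R MC] {τC : Type u} [SetLike τC MC] [AddSubgroupClass τC MC]
  {ℳC : ι → τC} [DirectSum.Decomposition ℳC] [SetLike.GradedSMul 𝒜 ℳC]
variable {EA : GrLC.StarInjRes 𝒜 ℳA} {EB : GrLC.StarInjRes 𝒜 ℳB} {f : MA →ₗ[R] MB} (φ : RMap EA EB f)

/-- The terms of the cone in degrees `≥ 0`. -/
abbrev W (EA : GrLC.StarInjRes 𝒜 ℳA) (EB : GrLC.StarInjRes 𝒜 ℳB) (i : ℕ) : GrLC.GMod.{u} 𝒜 :=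
  prodObj (EA.X (i + 1)) (EB.X i)

/-- The differential of the cone. -/
def dW (i : ℕ) : (W EA EB i).carrier →ₗ[R] (W EA EB (i + 1)).carrier :=
  (-(EA.d (i + 1) ∘ₗ LinearMap.fst R _ _)).prod (EB.d i ∘ₗ LinearMap.snd R _ _ + φ.φ (i + 1) ∘ₗ LinearMap.fst R _ _)

/-- The split first map of the cone. -/
def jW : (EA.X 0).carrier →ₗ[R] (W EA EB 0).carrier := (-(EA.d 0)).prod (φ.φ 0)

lemma dW_apply (i : ℕ) (a : (EA.X (i + 1)).carrier) (b : (EB.X i).carrier) :
    dW φ i (a, b) = (-(EA.d (i + 1) a), EB.d i b + φ.φ (i + 1) a) := rfl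

lemma jW_apply (a : (EA.X 0).carrier) : jW φ a = (-(EA.d 0 a), φ.φ 0 a) := rfl

lemma dW_grHom (i : ℕ) : GrLC.IsGrHom (W EA EB i).gr (W EA EB (i + 1)).gr (dW φ i) :=
  fun e x hx => ⟨((EA.X (i + 1 + 1)).gr e).neg_mem (EA.d_grHom (i + 1) e _ hx.1), add_mem (EB.d_grHom i e _ hx.2) (φ.gr (i + 1) e _ hx.1)⟩

lemma jW_grHom : GrLC.IsGrHom (EA.X 0).gr (W EA EB 0).gr (jW φ) :=
  fun e x hx => ⟨((EA.X (0 + 1)).gr e).neg_mem (EA.d_grHom 0 e x hx), φ.gr 0 e x hx⟩

lemma dW_dW (i : ℕ) (x : (W EA EB i).carrier) : dW φ (i + 1) (dW φ i x) = 0 := by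
  obtain ⟨a, b⟩ := x
  rw [dW_apply, dW_apply, map_neg, neg_neg, d_d, map_add, d_d, zero_add, map_neg, φ.comm, add_neg_cancel]
  rfl

lemma dW_jW (a : (EA.X 0).carrier) : dW φ 0 (jW φ a) = 0 := by
  rw [jW_apply, dW_apply, map_neg, neg_neg, d_d, map_neg, φ.comm, add_neg_cancel]
  rfl

variable (hf : Function.Injective f)

include hf in
lemma jW_injective : Function.Injective (jW φ) := by
  rw [injective_iff_map_eq_zero]
  intro a ha
  rw [jW_apply] at ha
  have h1 : EA.d 0 a = 0 := neg_eq_zero.1 (congrArg Prod.fst ha)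
  obtain ⟨m, rfl⟩ : a ∈ LinearMap.range EA.ε := by rw [← EA.exact_zero]; exact h1
  have h2 : EB.ε (f m) = 0 := (φ.ε m).symm.trans (congrArg Prod.snd ha)
  rw [hf ((EB.ε_injective (h2.trans (map_zero _).symm)).trans (map_zero f).symm), map_zero]

include hf in
lemma exists_retraction : ∃ r : (W EA EB 0).carrier →ₗ[R] (EA.X 0).carrier,
    GrLC.IsGrHom (W EA EB 0).gr (EA.X 0).gr r ∧ ∀ a, r (jW φ a) = a := by
  obtain ⟨r, hr, hr'⟩ := EA.starInj 0 (EA.X 0) (W EA EB 0) (jW φ) (jW_grHom φ) (jW_injective φ hf)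
    LinearMap.id (fun _ _ hx => hx)
  exact ⟨r, hr, fun a => LinearMap.congr_fun hr' a⟩

variable (r : (W EA EB 0).carrier →ₗ[R] (EA.X 0).carrier) (hr : GrLC.IsGrHom (W EA EB 0).gr (EA.X 0).gr r)
  (hrj : ∀ a, r (jW φ a) = a)

/-- The first term of the resolution of the cokernel. -/
def Y0 (hr : GrLC.IsGrHom (W EA EB 0).gr (EA.X 0).gr r) : GrLC.GMod.{u} 𝒜 :=
  subObj 𝒜 (W EA EB 0).gr (LinearMap.ker r) (homog_ker _ _ hr)

/-- The inclusion of the first term. -/
def incY0 : (Y0 r hr).carrier →ₗ[R] (W EA EB 0).carrier := (LinearMap.ker r).subtype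

lemma incY0_grHom : GrLC.IsGrHom (Y0 r hr).gr (W EA EB 0).gr (incY0 r hr) := fun _ _ hx => hx

lemma incY0_injective : Function.Injective (incY0 r hr) := (LinearMap.ker r).injective_subtype

lemma r_incY0 (y : (Y0 r hr).carrier) : r (incY0 r hr y) = 0 := by
  obtain ⟨y, hy⟩ := y
  exact hy

/-- The projection to the first term. -/
def prY0 : (W EA EB 0).carrier →ₗ[R] (Y0 r hr).carrier :=
  LinearMap.codRestrict (LinearMap.ker r) (LinearMap.id - jW φ ∘ₗ r) fun x => by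
    rw [LinearMap.mem_ker, LinearMap.sub_apply, LinearMap.id_apply, LinearMap.comp_apply, map_sub, hrj, sub_self]

lemma incY0_prY0 (x : (W EA EB 0).carrier) : incY0 r hr (prY0 φ r hr hrj x) = x - jW φ (r x) := rfl

lemma prY0_grHom : GrLC.IsGrHom (W EA EB 0).gr (Y0 r hr).gr (prY0 φ r hr hrj) :=
  fun e x hx => sub_mem hx (jW_grHom φ e _ (hr e x hx))

include hrj in
lemma isStarInj_Y0 (hX : GrLC.IsStarInj 𝒜 (W EA EB 0).gr) : GrLC.IsStarInj 𝒜 (Y0 r hr).gr := by
  intro A B i hi hinj g hg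
  obtain ⟨h, hh, hh'⟩ := hX A B i hi hinj (incY0 r hr ∘ₗ g) (fun e x hx => incY0_grHom r hr e _ (hg e x hx))
  refine ⟨prY0 φ r hr hrj ∘ₗ h, fun e x hx => prY0_grHom φ r hr hrj e _ (hh e x hx), LinearMap.ext fun x => ?_⟩
  refine incY0_injective r hr ?_
  rw [LinearMap.comp_apply, LinearMap.comp_apply, show h (i x) = incY0 r hr (g x) from LinearMap.congr_fun hh' x,
    incY0_prY0, r_incY0, map_zero, sub_zero]

variable (g : MB →ₗ[R] MC) (hg : Function.Surjective g) (hfg : LinearMap.range f = LinearMap.ker g)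
  (hgg : GrLC.IsGrHom ℳB ℳC g)

include hfg in
lemma ker_g_le : LinearMap.ker g ≤ LinearMap.ker (prY0 φ r hr hrj ∘ₗ LinearMap.inr R _ _ ∘ₗ EB.ε) := by
  rw [← hfg]
  rintro _ ⟨m, rfl⟩
  refine incY0_injective r hr ?_
  rw [map_zero, LinearMap.comp_apply, LinearMap.comp_apply, incY0_prY0]
  have : LinearMap.inr R (EA.X (0 + 1)).carrier (EB.X 0).carrier (EB.ε (f m)) = jW φ (EA.ε m) := by
    rw [jW_apply, d_ε, neg_zero, φ.ε]; rfl
  refine (congrArg (fun z : (W EA EB 0).carrier => z - jW φ (r z)) this).trans ?_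
  show jW φ (EA.ε m) - jW φ (r (jW φ (EA.ε m))) = 0
  rw [hrj, sub_self]

/-- The augmentation of the cokernel. -/
def εC : MC →ₗ[R] (Y0 r hr).carrier :=
  (LinearMap.ker g).liftQ (prY0 φ r hr hrj ∘ₗ LinearMap.inr R _ _ ∘ₗ EB.ε) (ker_g_le φ r hr hrj g hfg) ∘ₗ
    (LinearMap.quotKerEquivOfSurjective g hg).symm.toLinearMap

lemma εC_g (b : MB) : εC φ r hr hrj g hg hfg (g b) = prY0 φ r hr hrj (0, EB.ε b) := by
  have : (LinearMap.quotKerEquivOfSurjective g hg).symm (g b) = Submodule.Quotient.mk b := by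
    rw [LinearEquiv.symm_apply_eq]
    rfl
  rw [εC, LinearMap.comp_apply, LinearEquiv.coe_coe, this]
  rfl

/-- The differentials of the resolution of the cokernel. -/
def coneX (hr : GrLC.IsGrHom (W EA EB 0).gr (EA.X 0).gr r) : ℕ → GrLC.GMod.{u} 𝒜
  | 0 => Y0 r hr
  | i + 1 => W EA EB (i + 1)

def coneDiff : ∀ i, (coneX r hr i).carrier →ₗ[R] (coneX r hr (i + 1)).carrier
  | 0 => dW φ 0 ∘ₗ incY0 r hr
  | i + 1 => dW φ (i + 1)

lemma exists_dW_preimage (i : ℕ) (x : (W EA EB (i + 1)).carrier) (hx : dW φ (i + 1) x = 0) : ∃ w, dW φ i w = x := by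
  obtain ⟨a, b⟩ := x
  rw [dW_apply] at hx
  obtain ⟨a', ha'⟩ : a ∈ LinearMap.range (EA.d (i + 1)) := by
    rw [← EA.exact_succ (i + 1)]; exact neg_eq_zero.1 (congrArg Prod.fst hx)
  have hb : EB.d (i + 1) b + φ.φ (i + 1 + 1) a = 0 := congrArg Prod.snd hx
  obtain ⟨b', hb'⟩ : b + φ.φ (i + 1) a' ∈ LinearMap.range (EB.d i) := by
    rw [← EB.exact_succ i, LinearMap.mem_ker, map_add, ← φ.comm, ha', hb]
  refine ⟨(-a', b'), ?_⟩
  rw [dW_apply, map_neg, neg_neg, ha', map_neg, hb', add_neg_cancel_right]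

include hg hgg in
lemma εC_grHom : GrLC.IsGrHom ℳC (Y0 r hr).gr (εC φ r hr hrj g hg hfg) := by
  intro e c hc
  obtain ⟨b, hb, rfl⟩ := exists_preimage ℳB ℳC hgg hc (LinearMap.range_eq_top.2 hg ▸ Submodule.mem_top)
  rw [εC_g]
  exact prY0_grHom φ r hr hrj e _ ⟨zero_mem _, EB.ε_grHom e b hb⟩

/-- The resolution of the cokernel. -/
def coneRes : GrLC.StarInjRes 𝒜 ℳC where
  X := coneX r hr
  d := coneDiff φ r hr
  ε := εC φ r hr hrj g hg hfg
  d_grHom := fun i => by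
    cases i with
    | zero => exact fun e x hx => dW_grHom φ 0 e _ (incY0_grHom r hr e x hx)
    | succ i => exact dW_grHom φ (i + 1)
  ε_grHom := εC_grHom φ r hr hrj g hg hfg hgg
  ε_injective := by
    rw [injective_iff_map_eq_zero]
    intro c hc
    obtain ⟨b, rfl⟩ := hg c
    replace hc : prY0 φ r hr hrj (0, EB.ε b) = 0 := (εC_g φ r hr hrj g hg hfg b).symm.trans hc
    have h := congrArg (incY0 r hr) hc
    rw [incY0_prY0, map_zero, sub_eq_zero] at h
    obtain ⟨m, hm⟩ : r (0, EB.ε b) ∈ LinearMap.range EA.ε := by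
      rw [← EA.exact_zero]; exact neg_eq_zero.1 (congrArg Prod.fst h).symm
    have h2 : EB.ε b = EB.ε (f m) := by
      rw [← φ.ε, hm]; exact congrArg Prod.snd h
    rw [EB.ε_injective h2]
    exact (show f m ∈ LinearMap.ker g from hfg ▸ ⟨m, rfl⟩)
  exact_zero := by
    refine le_antisymm (fun y hy => ?_) ?_
    · have hy' : dW φ 0 (incY0 r hr y) = 0 := hy
      have hry := r_incY0 r hr y
      rcases he : incY0 r hr y with ⟨a, b⟩
      rw [he, dW_apply] at hy'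
      obtain ⟨a', ha'⟩ : a ∈ LinearMap.range (EA.d 0) := by
        rw [← EA.exact_succ 0]; exact neg_eq_zero.1 (congrArg Prod.fst hy')
      have hb : EB.d 0 b + φ.φ (0 + 1) a = 0 := congrArg Prod.snd hy'
      obtain ⟨n, hn⟩ : b + φ.φ 0 a' ∈ LinearMap.range EB.ε := by
        rw [← EB.exact_zero, LinearMap.mem_ker, map_add, ← φ.comm, ha', hb]
      refine ⟨g n, incY0_injective r hr ?_⟩
      refine ((congrArg (incY0 r hr) (εC_g φ r hr hrj g hg hfg n)).trans (incY0_prY0 φ r hr hrj _)).trans ?_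
      rw [hn]
      have e : ((0, b + φ.φ 0 a') : (W EA EB 0).carrier) = incY0 r hr y + jW φ a' := by
        rw [he, jW_apply, ha']
        exact Prod.ext (add_neg_cancel a).symm rfl
      rw [e, map_add, map_add, hry, map_zero, zero_add, hrj, add_sub_cancel_right]
    · rintro _ ⟨c, rfl⟩
      obtain ⟨b, rfl⟩ := hg c
      show dW φ 0 (incY0 r hr (εC φ r hr hrj g hg hfg (g b))) = 0
      rw [εC_g, incY0_prY0, map_sub, dW_jW, sub_zero, dW_apply, d_ε, map_zero, map_zero, neg_zero, add_zero]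
      rfl
  exact_succ := fun i => by
    refine le_antisymm (fun x hx => ?_) ?_
    · obtain ⟨w, rfl⟩ := exists_dW_preimage φ i x hx
      cases i with
      | zero =>
        refine ⟨prY0 φ r hr hrj w, ?_⟩
        show dW φ 0 (incY0 r hr (prY0 φ r hr hrj w)) = dW φ 0 w
        rw [incY0_prY0, map_sub, dW_jW, sub_zero]
      | succ i => exact ⟨w, rfl⟩
    · rintro _ ⟨x, rfl⟩
      cases i with
      | zero => exact dW_dW φ 0 _
      | succ i => exact dW_dW φ (i + 1) _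
  starInj := fun i => by
    cases i with
    | zero => exact isStarInj_Y0 φ r hr hrj (isStarInj_prodObj _ _ (EA.starInj 1) (EB.starInj 0))
    | succ i => exact isStarInj_prodObj _ _ (EA.starInj _) (EB.starInj _)

section Pairs

variable (a : HomogeneousIdeal 𝒜)

lemma mem_gam_prod {i : ℕ} {x : (EA.X (i + 1)).carrier} {y : (EB.X i).carrier}
    (hx : x ∈ GrLC.gam a.toIdeal (EA.X (i + 1)).carrier) (hy : y ∈ GrLC.gam a.toIdeal (EB.X i).carrier) :
    ((x, y) : (W EA EB i).carrier) ∈ GrLC.gam a.toIdeal (W EA EB i).carrier :=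
  by
    have h1 := map_mem_gam (LinearMap.inl R (EA.X (i + 1)).carrier (EB.X i).carrier) hx
    have h2 := map_mem_gam (LinearMap.inr R (EA.X (i + 1)).carrier (EB.X i).carrier) hy
    have := Submodule.add_mem _ h1 h2
    simp only [LinearMap.inl_apply, LinearMap.inr_apply, Prod.mk_add_mk, add_zero, zero_add] at this
    exact this

include hr hrj hg hfg hgg in
lemma pair_zero_of_van {e : ι} (h : Van (coneRes φ r hr hrj g hg hfg hgg) a 0 e) (x : (W EA EB 0).carrier)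
    (hx : x ∈ (W EA EB 0).gr e) (hxg : x ∈ GrLC.gam a.toIdeal (W EA EB 0).carrier) (hxd : dW φ 0 x = 0) :
    ∃ a' ∈ (EA.X 0).gr e, a' ∈ GrLC.gam a.toIdeal (EA.X 0).carrier ∧ jW φ a' = x := by
  have h0 := (Submodule.mem_bot R).1 (h (prY0 φ r hr hrj x) (prY0_grHom φ r hr hrj e x hx)
    ⟨map_mem_gam _ hxg, (show dW φ 0 (incY0 r hr (prY0 φ r hr hrj x)) = 0 from by
      rw [incY0_prY0, map_sub, dW_jW, hxd, sub_zero])⟩)
  refine ⟨r x, hr e x hx, map_mem_gam r hxg, ?_⟩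
  have := ((incY0_prY0 φ r hr hrj x).symm.trans (congrArg (incY0 r hr) h0)).trans (map_zero (incY0 r hr))
  exact (sub_eq_zero.1 this).symm

include hr hrj hg hfg hgg in
lemma pair_succ_of_van {i : ℕ} {e : ι} (h : Van (coneRes φ r hr hrj g hg hfg hgg) a (i + 1) e)
    (x : (W EA EB (i + 1)).carrier) (hx : x ∈ (W EA EB (i + 1)).gr e)
    (hxg : x ∈ GrLC.gam a.toIdeal (W EA EB (i + 1)).carrier) (hxd : dW φ (i + 1) x = 0) :
    ∃ w ∈ (W EA EB i).gr e, w ∈ GrLC.gam a.toIdeal (W EA EB i).carrier ∧ dW φ i w = x := by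
  obtain ⟨w, hw, hwg, hwd⟩ := exists_of_mem_cobdy (coneRes φ r hr hrj g hg hfg hgg) a (h x hx ⟨hxg, hxd⟩) hx
  cases i with
  | zero => exact ⟨incY0 r hr w, incY0_grHom r hr e w hw, map_mem_gam (incY0 r hr) hwg, hwd⟩
  | succ i => exact ⟨w, hw, hwg, hwd⟩

lemma van_cone_zero {e : ι} (h : ∀ x ∈ (W EA EB 0).gr e, x ∈ GrLC.gam a.toIdeal (W EA EB 0).carrier →
    dW φ 0 x = 0 → ∃ a', jW φ a' = x) : Van (coneRes φ r hr hrj g hg hfg hgg) a 0 e := by
  intro y hy hyc
  obtain ⟨a', ha'⟩ := h (incY0 r hr y) (incY0_grHom r hr e y hy) (map_mem_gam (incY0 r hr) hyc.1) hyc.2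
  have h1 := r_incY0 r hr y
  rw [← ha', hrj] at h1
  subst h1
  rw [map_zero] at ha'
  rw [incY0_injective r hr (ha'.symm.trans (map_zero _).symm)]
  exact Submodule.zero_mem _

lemma van_cone_succ {i : ℕ} {e : ι} (h : ∀ x ∈ (W EA EB (i + 1)).gr e, x ∈ GrLC.gam a.toIdeal (W EA EB (i + 1)).carrier →
    dW φ (i + 1) x = 0 → ∃ w ∈ GrLC.gam a.toIdeal (W EA EB i).carrier, dW φ i w = x) :
    Van (coneRes φ r hr hrj g hg hfg hgg) a (i + 1) e := by
  intro y hy hyc
  obtain ⟨w, hw, hwd⟩ := h y hy hyc.1 hyc.2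
  cases i with
  | zero =>
    refine ⟨prY0 φ r hr hrj w, map_mem_gam _ hw, ?_⟩
    show dW φ 0 (incY0 r hr (prY0 φ r hr hrj w)) = y
    rw [incY0_prY0, map_sub, dW_jW, sub_zero, hwd]
  | succ i => exact ⟨w, hw, hwd⟩

end Pairs

end Groth.Agent.GrLCLib
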