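import Groth.Agent.GrLCLib.LongExact

/-!
The difference of the Hilbert function and the Hilbert polynomial is the Euler characteristic of local cohomology.
-/

set_option autoImplicit false
set_option linter.unusedSectionVars false
set_option linter.style.haveILetI false
universe u

open scoped Classical
open DirectSum

noncomputable section

namespace Groth.Agent.GrLCLib

variable {R : Type u} [CommRing R] {𝒜 : ℤ → AddSubgroup R} [GradedRing 𝒜]
variable {M : Type u} [AddCommGroup M] [Module R M] {ℳ : ℤ → AddSubgroup M} [DirectSum.Decomposition ℳ]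
  [SetLike.GradedSMul 𝒜 ℳ]

/-- The alternating sum of the lengths of the pieces in degree `n`. -/
def euler (E : GrLC.StarInjRes 𝒜 ℳ) (a : HomogeneousIdeal 𝒜) (d : ℕ) (n : ℤ) : ℚ :=
  ∑ i ∈ Finset.range (d + 1), (-1 : ℚ) ^ i * (len (GrLC.deg0 𝒜) (E.Hcomp a i n) : ℚ)

lemma len_hcomp_of_van [IsArtinianRing (GrLC.deg0 𝒜)] (E : GrLC.StarInjRes 𝒜 ℳ) (a : HomogeneousIdeal 𝒜) {i : ℕ}
    {e : ℤ} (h : Van E a i e) : len (GrLC.deg0 𝒜) (E.Hcomp a i e) = 0 := by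
  haveI : Subsingleton (E.Hcomp a i e) := by rw [(hcomp_eq_bot_iff E a i e).2 h]; infer_instance
  exact len_eq_zero_of_subsingleton

lemma euler_of_van [IsArtinianRing (GrLC.deg0 𝒜)] (E : GrLC.StarInjRes 𝒜 ℳ) (a : HomogeneousIdeal 𝒜) {d : ℕ} {e : ℤ}
    (h : ∀ i, Van E a i e) : euler E a d e = 0 :=
  Finset.sum_eq_zero fun i _ => by rw [len_hcomp_of_van E a (h i), Nat.cast_zero, mul_zero]

theorem len_hcomp_zero_of_gam_top [IsArtinianRing (GrLC.deg0 𝒜)] (E : GrLC.StarInjRes 𝒜 ℳ) (a : HomogeneousIdeal 𝒜)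
    (h : GrLC.gam a.toIdeal M = ⊤) (e : ℤ) :
    len (GrLC.deg0 𝒜) (E.Hcomp a 0 e) = len (GrLC.deg0 𝒜) (GrLC.comp 𝒜 ℳ e) := by
  let T : GrLC.comp 𝒜 ℳ e →ₗ[GrLC.deg0 𝒜] E.Hcomp a 0 e :=
    { toFun := fun v => ⟨E.toH a 0 ⟨E.ε v.1, map_mem_gam _ (h ▸ Submodule.mem_top), d_ε E _⟩, _, E.ε_grHom e _ v.2, rfl⟩
      map_add' := fun v w => Subtype.ext (((congrArg (E.toH a 0) (Subtype.ext (map_add E.ε _ _)))).trans (map_add _ _ _))
      map_smul' := fun c v => Subtype.ext (((congrArg (E.toH a 0) (Subtype.ext (map_smul E.ε (c : R) _)))).trans (map_smul _ (c : R) _)) }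
  refine (len_congr (LinearEquiv.ofBijective T ⟨?_, fun y => ?_⟩)).symm
  · refine (injective_iff_map_eq_zero T).2 fun v hv => ?_
    have h1 := (Submodule.mem_bot R).1 ((mk_H_eq_zero a E _).1 (congrArg Subtype.val hv))
    exact Subtype.ext (E.ε_injective (h1.trans (map_zero _).symm))
  · obtain ⟨z, hz, hzy⟩ := y.2
    obtain ⟨w, hw, hwz⟩ := exists_preimage ℳ (E.X 0).gr E.ε_grHom hz (by rw [← E.exact_zero]; exact z.2.2)
    exact ⟨⟨w, hw⟩, Subtype.ext ((congrArg (E.toH a 0) (Subtype.ext hwz)).trans hzy)⟩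

theorem euler_of_gam_top [IsNoetherianRing R] [IsArtinianRing (GrLC.deg0 𝒜)] (E : GrLC.StarInjRes 𝒜 ℳ)
    (a : HomogeneousIdeal 𝒜) (h : GrLC.gam a.toIdeal M = ⊤) (d : ℕ) (e : ℤ) :
    euler E a d e = (len (GrLC.deg0 𝒜) (GrLC.comp 𝒜 ℳ e) : ℚ) := by
  rw [euler, Finset.sum_range_succ', pow_zero, one_mul, len_hcomp_zero_of_gam_top E a h e,
    Finset.sum_eq_zero fun i _ => by rw [len_hcomp_of_van E a (van_succ_of_gam_eq_top E a h i e), Nat.cast_zero, mul_zero],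
    zero_add]

theorem len_comp_ses [IsArtinianRing (GrLC.deg0 𝒜)]
    {MA MB MC : Type u} [AddCommGroup MA] [Module R MA] [AddCommGroup MB] [Module R MB] [AddCommGroup MC] [Module R MC]
    {ℳA : ℤ → AddSubgroup MA} [DirectSum.Decomposition ℳA] [SetLike.GradedSMul 𝒜 ℳA]
    {ℳB : ℤ → AddSubgroup MB} [DirectSum.Decomposition ℳB] [SetLike.GradedSMul 𝒜 ℳB]
    {ℳC : ℤ → AddSubgroup MC} [DirectSum.Decomposition ℳC] [SetLike.GradedSMul 𝒜 ℳC]
    {f : MA →ₗ[R] MB} {g : MB →ₗ[R] MC} (hs : IsSES ℳA ℳB ℳC f g) (e : ℤ)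
    [Module.Finite (GrLC.deg0 𝒜) (GrLC.comp 𝒜 ℳA e)] [Module.Finite (GrLC.deg0 𝒜) (GrLC.comp 𝒜 ℳB e)]
    [Module.Finite (GrLC.deg0 𝒜) (GrLC.comp 𝒜 ℳC e)] :
    len (GrLC.deg0 𝒜) (GrLC.comp 𝒜 ℳB e) =
      len (GrLC.deg0 𝒜) (GrLC.comp 𝒜 ℳA e) + len (GrLC.deg0 𝒜) (GrLC.comp 𝒜 ℳC e) := by
  refine len_ses
    ({ toFun := fun v => ⟨f v, hs.grf e _ v.2⟩, map_add' := fun v w => Subtype.ext (map_add f _ _),
       map_smul' := fun c v => Subtype.ext (map_smul f (c : R) _) } : GrLC.comp 𝒜 ℳA e →ₗ[GrLC.deg0 𝒜] GrLC.comp 𝒜 ℳB e)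
    ({ toFun := fun v => ⟨g v, hs.grg e _ v.2⟩, map_add' := fun v w => Subtype.ext (map_add g _ _),
       map_smul' := fun c v => Subtype.ext (map_smul g (c : R) _) } : GrLC.comp 𝒜 ℳB e →ₗ[GrLC.deg0 𝒜] GrLC.comp 𝒜 ℳC e)
    (fun v w h => Subtype.ext (hs.inj (congrArg Subtype.val h))) (fun y => ?_) (fun y => ⟨fun hy => ?_, ?_⟩)
  · obtain ⟨v, hv, hvy⟩ := exists_preimage ℳB ℳC hs.grg y.2 (LinearMap.range_eq_top.2 hs.surj ▸ Submodule.mem_top)
    exact ⟨⟨v, hv⟩, Subtype.ext hvy⟩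
  · obtain ⟨v, hv, hvy⟩ := exists_preimage ℳA ℳB hs.grf y.2
      (hs.exact ▸ (LinearMap.mem_ker.2 (congrArg Subtype.val hy)))
    exact ⟨⟨v, hv⟩, Subtype.ext hvy⟩
  · rintro ⟨v, rfl⟩
    exact Subtype.ext (LinearMap.mem_ker.1 (hs.exact ▸ LinearMap.mem_range_self f (v : MA) : f (v : MA) ∈ LinearMap.ker g))

lemma len_comp_shift (δ e : ℤ) :
    letI := shiftDec ℳ δ
    len (GrLC.deg0 𝒜) (GrLC.comp 𝒜 (shiftPiece ℳ δ) e) = len (GrLC.deg0 𝒜) (GrLC.comp 𝒜 ℳ (e + δ)) := rfl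

lemma len_hcomp_shift (E : GrLC.StarInjRes 𝒜 ℳ) (a : HomogeneousIdeal 𝒜) (δ : ℤ) (i : ℕ) (e : ℤ) :
    letI := shiftDec ℳ δ
    len (GrLC.deg0 𝒜) ((shiftRes E δ).Hcomp a i e) = len (GrLC.deg0 𝒜) (E.Hcomp a i (e + δ)) := by
  cases i <;> rfl

lemma euler_shift (E : GrLC.StarInjRes 𝒜 ℳ) (a : HomogeneousIdeal 𝒜) (δ : ℤ) (d : ℕ) (e : ℤ) :
    letI := shiftDec ℳ δ
    euler (shiftRes E δ) a d e = euler E a d (e + δ) :=
  Finset.sum_congr rfl fun i _ => by rw [len_hcomp_shift]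

/-- Pieces only depend on the torsion functor of the ideal. -/
def hcompCongr (E : GrLC.StarInjRes 𝒜 ℳ) {a b : HomogeneousIdeal 𝒜}
    (h : ∀ (Q : Type u) [AddCommGroup Q] [Module R Q], GrLC.gam a.toIdeal Q = GrLC.gam b.toIdeal Q) (i : ℕ) (e : ℤ) :
    E.Hcomp a i e ≃ₗ[GrLC.deg0 𝒜] E.Hcomp b i e :=
  have hc : E.cocyc a i = E.cocyc b i := by rw [GrLC.StarInjRes.cocyc, GrLC.StarInjRes.cocyc, h]
  have hb : E.cobdy a i = E.cobdy b i := by
    cases i with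
    | zero => rfl
    | succ i => rw [GrLC.StarInjRes.cobdy, GrLC.StarInjRes.cobdy, h]
  let T : E.H a i ≃ₗ[R] E.H b i :=
    Submodule.Quotient.equiv ((E.cobdy a i).comap (E.cocyc a i).subtype) ((E.cobdy b i).comap (E.cocyc b i).subtype)
      (LinearEquiv.ofEq _ _ hc) (by
        refine Submodule.ext fun z => ⟨?_, fun hz => ⟨⟨z.1, hc.symm ▸ z.2⟩, ?_, Subtype.ext rfl⟩⟩
        · rintro ⟨w, hw, rfl⟩
          exact (hb ▸ hw : (w : (E.X i).carrier) ∈ E.cobdy b i)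
        · exact (hb.symm ▸ hz : (z : (E.X i).carrier) ∈ E.cobdy a i))
  (T.restrictScalars (GrLC.deg0 𝒜)).ofSubmodules _ _ (by
    refine Submodule.ext fun y => ⟨?_, ?_⟩
    · rintro ⟨_, ⟨z, hz, rfl⟩, rfl⟩
      exact ⟨⟨z.1, hc ▸ z.2⟩, hz, rfl⟩
    · rintro ⟨z, hz, rfl⟩
      exact ⟨E.toH a i ⟨z.1, hc.symm ▸ z.2⟩, ⟨⟨z.1, hc.symm ▸ z.2⟩, hz, rfl⟩, rfl⟩)

section Main

variable (a : HomogeneousIdeal 𝒜) {s : ℕ} {f : Fin s → R} {dg : Fin s → ℤ} (hf : ∀ j, f j ∈ 𝒜 (dg j))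
  (hdg : ∀ j, 0 < dg j) (hpos : ∀ n : ℤ, n < 0 → 𝒜 n = ⊥) (ha : a.toIdeal = Ideal.span (Set.range f))
  (hin : ∀ e : ℤ, 0 < e → ∀ r ∈ 𝒜 e, r ∈ a.toIdeal)

include hf hdg hpos ha hin in
theorem euler_eq [IsNoetherianRing R] [IsArtinianRing (GrLC.deg0 𝒜)] {d : ℕ} (hd : ringKrullDim R = d) :
    ∀ (I : Ideal R) (M : GrLC.GMod.{u} 𝒜) [Module.Finite R M.carrier], Module.annihilator R M.carrier = I →
    ∀ (E : GrLC.StarInjRes 𝒜 M.gr) (P : Polynomial ℚ),
    (∃ N : ℤ, ∀ n : ℤ, N ≤ n → P.eval (n : ℚ) = (len (GrLC.deg0 𝒜) (GrLC.comp 𝒜 M.gr n) : ℚ)) →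
    ∀ n : ℤ, (len (GrLC.deg0 𝒜) (GrLC.comp 𝒜 M.gr n) : ℚ) - P.eval (n : ℚ) = euler E a d n := by
  have hneg : ∀ e : ℤ, e < 0 → ∀ r ∈ 𝒜 e, r = 0 := fun e he r hr => (hpos e he).le hr
  haveI : IsNoetherianRing (GrLC.deg0 𝒜) := isNoetherianRing_deg0 hpos
  have fin : ∀ (X : GrLC.GMod.{u} 𝒜) [Module.Finite R X.carrier] (E : GrLC.StarInjRes 𝒜 X.gr) (i : ℕ) (e : ℤ),
      Module.Finite (GrLC.deg0 𝒜) (E.Hcomp a i e) := fun X _ E => finite_hcomp a hf hdg hpos ha hin _ X rfl E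
  have finc : ∀ (X : GrLC.GMod.{u} 𝒜) [Module.Finite R X.carrier] (e : ℤ),
      Module.Finite (GrLC.deg0 𝒜) (GrLC.comp 𝒜 X.gr e) := fun X _ e => finite_comp_mod a hf hdg hpos ha hin X.gr e
  have top : ∀ (X : GrLC.GMod.{u} 𝒜) (E : GrLC.StarInjRes 𝒜 X.gr) (e : ℤ), Van E a (d + 1) e := fun X E e =>
    van_of_subsingleton E a (subsingleton_H_of_dim_lt hd a.toIdeal (lt_add_one d) X.carrier) e
  intro I
  induction I using IsNoetherian.induction with
  | hgt I ih =>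
    intro M _ hI E P hP n
    obtain ⟨N, hN⟩ := hP
    obtain ⟨b, hb⟩ := exists_bound_gam hf a ha hin hneg M.gr
    let K := GrLC.gam a.toIdeal M.carrier
    have hK : Homog M.gr K := homog_gam 𝒜 a
    let T := subObj 𝒜 M.gr K hK
    let Q := quotObj 𝒜 M.gr K hK
    let ιT : T.carrier →ₗ[R] M.carrier := K.subtype
    let πQ : M.carrier →ₗ[R] Q.carrier := K.mkQ
    have hs : IsSES T.gr M.gr Q.gr ιT πQ :=
      ⟨Submodule.injective_subtype _, Submodule.mkQ_surjective _, (Submodule.range_subtype _).trans (Submodule.ker_mkQ _).symm,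
        subtype_grHom M.gr K, mkQ_grHom M.gr K⟩
    obtain ⟨ET⟩ := nonempty_starInjRes 𝒜 T.gr
    obtain ⟨EQ⟩ := nonempty_starInjRes 𝒜 Q.gr
    have hTt : GrLC.gam a.toIdeal T.carrier = ⊤ := eq_top_iff.2 fun x _ =>
      mem_gam_of_injective (f := ιT) (Submodule.injective_subtype _) x.2
    haveI : Module.Finite R T.carrier := Module.Finite.of_injective ιT hs.inj
    haveI : Module.Finite R Q.carrier := Module.Finite.of_surjective πQ hs.surj
    have hlen : ∀ e, (len (GrLC.deg0 𝒜) (GrLC.comp 𝒜 M.gr e) : ℚ) =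
        (len (GrLC.deg0 𝒜) (GrLC.comp 𝒜 T.gr e) : ℚ) + (len (GrLC.deg0 𝒜) (GrLC.comp 𝒜 Q.gr e) : ℚ) := fun e => by
      haveI := finc T e
      haveI := finc M e
      haveI := finc Q e
      rw [len_comp_ses hs e]
      push_cast
      ring
    obtain ⟨φT⟩ := exists_rmap ET E ιT hs.grf
    have hchi : euler E a d n = euler ET a d n + euler EQ a d n :=
      len_alternating a hs φT EQ d n (fun i => fin T ET i n) (fun i => fin M E i n) (fun i => fin Q EQ i n) (top T ET n)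
    rw [hchi, euler_of_gam_top ET a hTt d n, hlen, add_sub_assoc]
    congr 1
    have hT0 : ∀ e, b ≤ e → len (GrLC.deg0 𝒜) (GrLC.comp 𝒜 T.gr e) = 0 := fun e he => by
      haveI : Subsingleton (GrLC.comp 𝒜 T.gr e) :=
        subsingleton_of_forall_eq 0 fun v => Subtype.ext (hs.inj ((hb e he _ (hs.grf e _ v.2) v.1.2).trans (map_zero ιT).symm))
      exact len_eq_zero_of_subsingleton
    have hQP : ∀ e, max N b ≤ e → P.eval (e : ℚ) = (len (GrLC.deg0 𝒜) (GrLC.comp 𝒜 Q.gr e) : ℚ) := fun e he => by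
      rw [hN e (le_of_max_le_left he), hlen, hT0 e (le_of_max_le_right he), Nat.cast_zero, zero_add]
    rcases subsingleton_or_nontrivial (M.carrier ⧸ K) with hQ | hQ
    · haveI : Subsingleton Q.carrier := hQ
      have h0 : ∀ e, len (GrLC.deg0 𝒜) (GrLC.comp 𝒜 Q.gr e) = 0 := fun e => len_eq_zero_of_subsingleton
      have hP0 : P = 0 := by
        refine Polynomial.eq_zero_of_infinite_isRoot P (Set.Infinite.mono ?_
          ((Set.Ici_infinite (max N b)).image Int.cast_injective.injOn))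
        rintro _ ⟨e, he, rfl⟩
        show P.eval (e : ℚ) = 0
        rw [hQP e he, h0, Nat.cast_zero]
      have hQt : GrLC.gam a.toIdeal Q.carrier = ⊤ := eq_top_iff.2 fun q _ => by
        rw [Subsingleton.elim q 0]; exact Submodule.zero_mem _
      rw [euler_of_gam_top EQ a hQt d n, hP0, Polynomial.eval_zero, sub_zero]
    have hne : 0 < s := by
      rcases Nat.eq_zero_or_pos s with rfl | h
      · exfalso
        obtain ⟨q, hq⟩ := exists_ne (0 : M.carrier ⧸ K)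
        refine hq (gam_quot_gam a.toIdeal ⟨1, fun r hr => ?_⟩)
        rw [pow_one, ha, Set.range_eq_empty, Ideal.span_empty, Ideal.mem_bot] at hr
        rw [hr, zero_smul]
      · exact h
    have hfin := associatedPrimes.finite R (M.carrier ⧸ K)
    obtain ⟨m, x, hm, hx, hxa, hnot⟩ := exists_homog_notMem_gen a.toIdeal hf ha hdg hne _ hfin.toFinset rfl (fun p hp => by
      have hp' : IsAssociatedPrime p (M.carrier ⧸ K) := hfin.mem_toFinset.1 hp
      refine ⟨hp'.isPrime, fun hle => ?_⟩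
      obtain ⟨hpr, y, hy⟩ := isAssociatedPrime_iff.1 hp'
      have : y = 0 := gam_quot_gam a.toIdeal ⟨1, fun r hr => by
        rw [pow_one] at hr
        have := hle hr
        rw [hy] at this
        simpa using this⟩
      refine hpr.ne_top ((Ideal.eq_top_iff_one p).2 ?_)
      rw [hy, this]
      simp)
    have hreg : IsSMulRegular (M.carrier ⧸ K) x := IsSMulRegular.of_right_eq_zero_of_smul fun y hy => by
      by_contra hy0
      have : x ∈ ⋃ p ∈ associatedPrimes R (M.carrier ⧸ K), (p : Set R) := by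
        rw [biUnion_associatedPrimes_eq_zero_divisors]
        exact ⟨y, hy0, hy⟩
      obtain ⟨p, hp, hxp⟩ := Set.mem_iUnion₂.1 this
      exact hnot p (hfin.mem_toFinset.2 hp) hxp
    let μ : Q.carrier →ₗ[R] Q.carrier := x • LinearMap.id
    letI := shiftDec Q.gr (-(m : ℤ))
    have hμ : GrLC.IsGrHom (shiftPiece Q.gr (-(m : ℤ))) Q.gr μ := fun g y hy => by
      have h1 := smul_mem 𝒜 Q.gr hx (mem_shiftPiece.1 hy)
      rwa [show (m : ℤ) + (g + -(m : ℤ)) = g by ring] at h1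
    have hL : Homog Q.gr (LinearMap.range μ) := homog_range (shiftPiece Q.gr (-(m : ℤ))) Q.gr hμ
    let L := quotObj 𝒜 Q.gr (LinearMap.range μ) hL
    let πL : Q.carrier →ₗ[R] L.carrier := (LinearMap.range μ).mkQ
    have hs' : IsSES (shiftPiece Q.gr (-(m : ℤ))) Q.gr L.gr μ πL :=
      ⟨fun _ _ h => hreg h, Submodule.mkQ_surjective _, (Submodule.ker_mkQ _).symm, hμ, mkQ_grHom Q.gr _⟩
    haveI : Module.Finite R L.carrier := Module.Finite.of_surjective πL hs'.surj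
    have hlt : I < Module.annihilator R L.carrier := by
      rw [← hI]
      refine lt_of_le_of_lt (LinearMap.annihilator_le_of_surjective πQ (Submodule.mkQ_surjective _))
        (lt_of_le_of_ne (LinearMap.annihilator_le_of_surjective πL (Submodule.mkQ_surjective _)) fun he => ?_)
      have hx' : x ∈ Module.annihilator R L.carrier := Module.mem_annihilator.2 fun q => by
        obtain ⟨y, rfl⟩ := Submodule.mkQ_surjective (LinearMap.range μ) q
        exact (map_smul πL x y).symm.trans ((Submodule.Quotient.mk_eq_zero (LinearMap.range μ)).2 ⟨y, rfl⟩)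
      rw [← he] at hx'
      obtain ⟨q, hq⟩ := exists_ne (0 : M.carrier ⧸ K)
      exact hq (hreg ((Module.mem_annihilator.1 hx' q).trans (smul_zero x).symm))
    let φ : RMap (shiftRes EQ (-(m : ℤ))) EQ μ :=
      { φ := fun i => x • (LinearMap.id : (EQ.X i).carrier →ₗ[R] (EQ.X i).carrier)
        gr := fun i g y hy => by
          have h1 := smul_mem 𝒜 (EQ.X i).gr hx (show y ∈ (EQ.X i).gr (g + -(m : ℤ)) from hy)
          rwa [show (m : ℤ) + (g + -(m : ℤ)) = g by ring] at h1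
        ε := fun y => (map_smul EQ.ε x y).symm
        comm := fun i y => (map_smul (EQ.d i) x y).symm }
    obtain ⟨EL⟩ := nonempty_starInjRes 𝒜 L.gr
    let QS : GrLC.GMod.{u} 𝒜 := shiftObj 𝒜 Q.gr (-(m : ℤ))
    haveI : Module.Finite R QS.carrier := inferInstanceAs (Module.Finite R Q.carrier)
    let ES : GrLC.StarInjRes 𝒜 QS.gr := shiftRes EQ (-(m : ℤ))
    have hchiL : ∀ e, euler EQ a d e = euler EQ a d (e + -(m : ℤ)) + euler EL a d e := fun e => by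
      rw [← euler_shift EQ a (-(m : ℤ)) d e]
      exact len_alternating a hs' φ EL d e (fun i => fin QS ES i e) (fun i => fin Q EQ i e) (fun i => fin L EL i e)
        (top QS ES e)
    have hlenL : ∀ e, (len (GrLC.deg0 𝒜) (GrLC.comp 𝒜 Q.gr e) : ℚ) =
        (len (GrLC.deg0 𝒜) (GrLC.comp 𝒜 Q.gr (e + -(m : ℤ))) : ℚ) + (len (GrLC.deg0 𝒜) (GrLC.comp 𝒜 L.gr e) : ℚ) := fun e => by
      haveI : Module.Finite (GrLC.deg0 𝒜) (GrLC.comp 𝒜 (shiftPiece Q.gr (-(m : ℤ))) e) := finc QS e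
      haveI := finc Q e
      haveI := finc L e
      rw [len_comp_ses hs' e, ← len_comp_shift]
      push_cast
      ring
    have hIH := ih _ hlt L rfl EL (P - P.comp (Polynomial.X - Polynomial.C (m : ℚ))) ⟨max N b + m, fun e he => by
      have h1 := hQP e (by omega)
      have h2 := hQP (e + -(m : ℤ)) (by omega)
      have h3 := hlenL e
      push_cast at h2
      simp only [Polynomial.eval_sub, Polynomial.eval_comp, Polynomial.eval_X, Polynomial.eval_C] at h2 ⊢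
      simp only [sub_eq_add_neg] at h2 ⊢
      linarith⟩
    let g : ℤ → ℚ := fun e => (len (GrLC.deg0 𝒜) (GrLC.comp 𝒜 Q.gr e) : ℚ) - P.eval (e : ℚ) - euler EQ a d e
    have hper : ∀ e, g e = g (e + -(m : ℤ)) := fun e => by
      have h1 := hchiL e
      have h2 := hlenL e
      have h3 := hIH e
      simp only [g]
      push_cast
      simp only [Polynomial.eval_sub, Polynomial.eval_comp, Polynomial.eval_X, Polynomial.eval_C] at h3 ⊢
      simp only [sub_eq_add_neg] at h3 ⊢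
      linarith
    obtain ⟨r₀, hr₀⟩ := exists_van_high hf hdg a ha hin hneg _ Q rfl EQ
    suffices key : ∀ (k : ℕ) (e : ℤ), max (max N b) r₀ - e ≤ k → g e = 0 from
      sub_eq_zero.1 (key (max (max N b) r₀ - n).toNat n (by omega))
    intro k
    induction k with
    | zero =>
      intro e he
      simp only [g]
      rw [hQP e (by omega), euler_of_van EQ a fun i => hr₀ i e (by omega), sub_self, sub_zero]
    | succ k ihk =>
      intro e he
      have h1 := ihk (e + m) (by omega)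
      rwa [hper, add_neg_cancel_right] at h1

end Main

theorem euler_eq_starLocal [IsNoetherianRing R] (hpos : ∀ n : ℤ, n < 0 → 𝒜 n = ⊥)
    (hstd : Ideal.span (⋃ n ∈ Set.Ioi (0 : ℤ), (𝒜 n : Set R)) = Ideal.span ((𝒜 1 : AddSubgroup R) : Set R))
    [IsArtinianRing (GrLC.deg0 𝒜)] {m : HomogeneousIdeal 𝒜} (hm : GrLC.IsStarLocal 𝒜 m) {d : ℕ}
    (hd : ringKrullDim R = d) [Module.Finite R M] (E : GrLC.StarInjRes 𝒜 ℳ) (P : Polynomial ℚ)
    (hP : ∃ N : ℤ, ∀ n : ℤ, N ≤ n → P.eval (n : ℚ) = (len (GrLC.deg0 𝒜) (GrLC.comp 𝒜 ℳ n) : ℚ)) (n : ℤ) :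
    (len (GrLC.deg0 𝒜) (GrLC.comp 𝒜 ℳ n) : ℚ) - P.eval (n : ℚ) = euler E m d n ∧
      ∀ i, Module.Finite (GrLC.deg0 𝒜) (E.Hcomp m i n) := by
  obtain ⟨s, x, hx, hgen⟩ := exists_gens_one hstd
  have hin : ∀ e : ℤ, 0 < e → ∀ r ∈ 𝒜 e, r ∈ (irr 𝒜).toIdeal := fun e he r hr =>
    Ideal.subset_span (Set.mem_iUnion₂.2 ⟨e, he, hr⟩)
  have hdg : ∀ _j : Fin s, (0 : ℤ) < 1 := fun _ => one_pos
  haveI : IsNoetherianRing (GrLC.deg0 𝒜) := isNoetherianRing_deg0 hpos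
  have hg : ∀ (Q : Type u) [AddCommGroup Q] [Module R Q], GrLC.gam (irr 𝒜).toIdeal Q = GrLC.gam m.toIdeal Q :=
    fun Q _ _ => gam_irr_eq hpos hm Q
  let X : GrLC.GMod.{u} 𝒜 := GrLC.GMod.of 𝒜 M ℳ
  haveI : Module.Finite R X.carrier := inferInstanceAs (Module.Finite R M)
  refine ⟨(euler_eq (irr 𝒜) hx hdg hpos hgen hin hd _ X rfl E P hP n).trans
    (Finset.sum_congr rfl fun i _ => congrArg (fun t : ℕ => (-1 : ℚ) ^ i * (t : ℚ)) (len_congr (hcompCongr E hg i n))), fun i => ?_⟩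
  haveI : Module.Finite (GrLC.deg0 𝒜) (E.Hcomp (irr 𝒜) i n) := finite_hcomp (irr 𝒜) hx hdg hpos hgen hin _ X rfl E i n
  exact Module.Finite.equiv (hcompCongr E hg i n)

theorem sub_eq_top [LocCoh.IsCohenMacaulayRing R] (hpos : ∀ n : ℤ, n < 0 → 𝒜 n = ⊥)
    (hstd : Ideal.span (⋃ n ∈ Set.Ioi (0 : ℤ), (𝒜 n : Set R)) = Ideal.span ((𝒜 1 : AddSubgroup R) : Set R))
    [IsArtinianRing (GrLC.deg0 𝒜)] {m : HomogeneousIdeal 𝒜} (hm : GrLC.IsStarLocal 𝒜 m) {d : ℕ}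
    (hd : ringKrullDim R = d) (E : GrLC.StarInjRes 𝒜 𝒜) (P : Polynomial ℚ)
    (hP : ∃ N : ℤ, ∀ n : ℤ, N ≤ n → P.eval (n : ℚ) = (len (GrLC.deg0 𝒜) (GrLC.comp 𝒜 𝒜 n) : ℚ)) (n : ℤ) :
    P.eval (n : ℚ) = (len (GrLC.deg0 𝒜) (GrLC.comp 𝒜 𝒜 n) : ℚ) ↔ E.Hgr m d n = ⊥ := by
  obtain ⟨h, hf⟩ := euler_eq_starLocal hpos hstd hm hd E P hP n
  haveI := hf d
  have hd' : m.toIdeal.height = (d : ℕ∞) := WithBot.coe_inj.1 ((ringKrullDim_eq_height hpos hm).symm.trans hd)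
  rw [euler, Finset.sum_range_succ, Finset.sum_eq_zero fun i hi => by
    rw [len_hcomp_of_van E m (van_of_subsingleton E m (subsingleton_H_of_lt_height (I := m.toIdeal) (isStarLocal_ne_top hm)
      (by rw [hd']; exact_mod_cast (Finset.mem_range.1 hi))) n), Nat.cast_zero, mul_zero], zero_add] at h
  rw [eq_comm, ← sub_eq_zero, h, mul_eq_zero, or_iff_right (pow_ne_zero _ (by norm_num)), Nat.cast_eq_zero,
    hgr_eq_bot_iff, ← hcomp_eq_bot_iff]
  constructor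
  · intro h0
    have h1 : Module.length (GrLC.deg0 𝒜) (E.Hcomp m d n) = 0 := (ENat.toNat_eq_zero.1 h0).resolve_right (length_ne_top_of_finite _)
    rw [Module.length_eq_zero_iff] at h1
    exact Submodule.eq_bot_of_subsingleton
  · intro h0
    haveI : Subsingleton (E.Hcomp m d n) := by rw [h0]; infer_instance
    exact len_eq_zero_of_subsingleton

end Groth.Agent.GrLCLib
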