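import Groth.Agent.GrLCLib.TorsionGen

/-!
The Koszul complex on elements of degree one: vanishing on a diagonal propagates upwards.
-/

set_option autoImplicit false
set_option linter.unusedSectionVars false
set_option linter.style.haveILetI false
universe u

open scoped Classical
open DirectSum

noncomputable section

namespace Groth.Agent.GrLCLib.Kos

variable {R : Type u} [CommRing R] {n : ℕ} (x : Fin n → R)

/-- Subsets of size `j`. -/
abbrev T (n j : ℕ) : Type := {s : Finset (Fin n) // s.card = j}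

variable (M : Type u) [AddCommGroup M] [Module R M]

/-- The terms. -/
abbrev KC (n j : ℕ) (M : Type u) : Type u := T n j → M

variable {M}

/-- The sign. -/
def sgn (R : Type u) [CommRing R] {n : ℕ} (a : Fin n) (s : Finset (Fin n)) : R := (-1) ^ (s.filter (· < a)).card

lemma sgn_mul_self (a : Fin n) (s : Finset (Fin n)) : sgn R a s * sgn R a s = 1 := by
  rw [sgn, ← pow_add, ← two_mul, pow_mul, neg_one_sq, one_pow]

lemma card_filter_insert {a b : Fin n} {s : Finset (Fin n)} (hb : b ∉ s) :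
    ((insert b s).filter (· < a)).card = (s.filter (· < a)).card + (if b < a then 1 else 0) := by
  rw [Finset.filter_insert]
  split_ifs with h
  · rw [Finset.card_insert_of_notMem fun h' => hb (Finset.mem_filter.1 h').1]
  · rw [add_zero]

lemma sgn_swap {a b : Fin n} {s : Finset (Fin n)} (hab : a ≠ b) (ha : a ∉ s) (hb : b ∉ s) :
    sgn R a (insert b s) * sgn R b s = -(sgn R b (insert a s) * sgn R a s) := by
  rw [sgn, sgn, sgn, sgn, card_filter_insert hb, card_filter_insert ha]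
  rcases lt_or_gt_of_ne hab with h | h
  · rw [if_neg (asymm h), if_pos h, add_zero, pow_succ]; ring
  · rw [if_pos h, if_neg (asymm h), add_zero, pow_succ]; ring

/-- Extension by zero. -/
def ext (j : ℕ) : KC n j M →ₗ[R] (Finset (Fin n) → M) where
  toFun v s := if h : s.card = j then v ⟨s, h⟩ else 0
  map_add' v w := funext fun s => by by_cases h : s.card = j <;> simp [h]
  map_smul' r v := funext fun s => by by_cases h : s.card = j <;> simp [h]

lemma ext_of_card {j : ℕ} (v : KC n j M) {s : Finset (Fin n)} (h : s.card = j) :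
    ext (R := R) j v s = v ⟨s, h⟩ := dif_pos h

/-- One component of the differential. -/
def dVal (j : ℕ) (v : KC n j M) (t : Finset (Fin n)) : M :=
  ∑ a ∈ tᶜ, (sgn R a t * x a) • ext (R := R) j v (insert a t)

/-- The differential. -/
def dK (j : ℕ) : KC n (j + 1) M →ₗ[R] KC n j M where
  toFun v s := dVal x (j + 1) v s.1
  map_add' v w := funext fun s => by
    simp only [dVal, map_add, Pi.add_apply, smul_add, Finset.sum_add_distrib]
  map_smul' r v := funext fun s => by
    simp only [dVal, map_smul, Pi.smul_apply, RingHom.id_apply, Finset.smul_sum]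
    exact Finset.sum_congr rfl fun a _ => smul_comm _ _ _

lemma dK_apply (j : ℕ) (v : KC n (j + 1) M) (s : T n j) : dK x j v s = dVal x (j + 1) v s.1 := rfl

theorem dK_dK (j : ℕ) (v : KC n (j + 1 + 1) M) : dK x j (dK x (j + 1) v) = 0 := by
  funext s
  rw [dK_apply, Pi.zero_apply, dVal]
  let F : Fin n → Fin n → M := fun a b =>
    if a ≠ b then (sgn R a s.1 * x a) • (sgn R b (insert a s.1) * x b) • ext (R := R) (j + 1 + 1) v (insert b (insert a s.1)) else 0
  have h1 : ∀ a ∈ s.1ᶜ, (sgn R a s.1 * x a) • ext (R := R) (j + 1) (dK x (j + 1) v) (insert a s.1) = ∑ b ∈ s.1ᶜ, F a b := by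
    intro a ha
    have ha' := Finset.mem_compl.1 ha
    rw [ext_of_card _ (by rw [Finset.card_insert_of_notMem ha', s.2]), dK_apply, dVal, Finset.smul_sum,
      Finset.compl_insert, ← Finset.sum_erase_add _ (fun b => F a b) ha, show F a a = 0 from if_neg (not_not.2 rfl), add_zero]
    exact Finset.sum_congr rfl fun b hb => (if_pos (Finset.ne_of_mem_erase hb).symm).symm
  rw [Finset.sum_congr rfl h1, ← Finset.sum_product']
  refine Finset.sum_involution (fun p _ => (p.2, p.1)) (fun p hp => ?_) (fun p hp hne h => ?_)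
    (fun p hp => Finset.mem_product.2 (Finset.mem_product.1 hp).symm) (fun p _ => rfl)
  · obtain ⟨ha, hb⟩ := Finset.mem_product.1 hp
    by_cases hab : p.1 = p.2
    · simp [F, hab]
    · simp only [F, if_pos hab, if_pos (Ne.symm hab), ← mul_smul, Finset.insert_comm p.2 p.1]
      rw [← add_smul]
      refine (congrArg (· • _) ?_).trans (zero_smul R _)
      have := sgn_swap (R := R) hab (Finset.mem_compl.1 ha) (Finset.mem_compl.1 hb)
      linear_combination (x p.1 * x p.2) * this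
  · refine hne (if_neg (not_not.2 ?_))
    exact (congrArg Prod.fst h).symm

/-- The homotopy. -/
def hK (j : ℕ) (b : Fin n) : KC n j M →ₗ[R] KC n (j + 1) M where
  toFun v s := if b ∈ s.1 then sgn R b (s.1.erase b) • ext (R := R) j v (s.1.erase b) else 0
  map_add' v w := funext fun s => by by_cases h : b ∈ s.1 <;> simp [h]
  map_smul' r v := funext fun s => by
    by_cases h : b ∈ s.1
    · simp only [h, if_true, map_smul, Pi.smul_apply, RingHom.id_apply]
      exact smul_comm _ _ _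
    · simp [h]

theorem dK_hK (j : ℕ) (b : Fin n) (v : KC n j M) (hv : ∀ t : Finset (Fin n), t.card + 1 = j → dVal x j v t = 0) :
    dK x j (hK (R := R) j b v) = x b • v := by
  funext s
  rw [dK_apply, dVal, Pi.smul_apply]
  have hins : ∀ a ∈ s.1ᶜ, ext (R := R) (j + 1) (hK (R := R) j b v) (insert a s.1) =
      if b ∈ insert a s.1 then sgn R b ((insert a s.1).erase b) • ext (R := R) j v ((insert a s.1).erase b) else 0 := by
    intro a ha
    rw [ext_of_card _ (by rw [Finset.card_insert_of_notMem (Finset.mem_compl.1 ha), s.2])]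
    rfl
  rw [Finset.sum_congr rfl fun a ha => congrArg ((sgn R a s.1 * x a) • ·) (hins a ha)]
  by_cases hb : b ∈ s.1
  · have hbt : b ∉ s.1.erase b := Finset.notMem_erase b _
    have hsb : insert b (s.1.erase b) = s.1 := Finset.insert_erase hb
    have hcard : (s.1.erase b).card + 1 = j := by rw [Finset.card_erase_add_one hb, s.2]
    have h0 := hv _ hcard
    rw [dVal, Finset.compl_erase, Finset.sum_insert (fun h => Finset.mem_compl.1 h hb), hsb,
      ext_of_card (R := R) v s.2] at h0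
    have hterm : ∀ a ∈ s.1ᶜ, (sgn R a s.1 * x a) •
        (if b ∈ insert a s.1 then sgn R b ((insert a s.1).erase b) • ext (R := R) j v ((insert a s.1).erase b) else 0) =
          -(sgn R b (s.1.erase b) • (sgn R a (s.1.erase b) * x a) • ext (R := R) j v (insert a (s.1.erase b))) := by
      intro a ha
      have ha' := Finset.mem_compl.1 ha
      have hab : a ≠ b := fun h => ha' (h ▸ hb)
      rw [if_pos (Finset.mem_insert_of_mem hb), Finset.erase_insert_of_ne hab, ← mul_smul, ← mul_smul, ← neg_smul]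
      refine congrArg (· • _) ?_
      have h1 := sgn_swap (R := R) hab (fun h => ha' (Finset.mem_of_mem_erase h)) hbt
      rw [hsb] at h1
      have h2 := sgn_mul_self (R := R) b (s.1.erase b)
      linear_combination (sgn R b (insert a (s.1.erase b)) * sgn R b (s.1.erase b) * x a) * h1 +
        (-(sgn R a s.1 * x a * sgn R b (insert a (s.1.erase b)))) * h2 +
        (-(sgn R b (s.1.erase b) * sgn R a (s.1.erase b) * x a)) * sgn_mul_self (R := R) b (insert a (s.1.erase b))
    rw [Finset.sum_congr rfl hterm, Finset.sum_neg_distrib, ← Finset.smul_sum, ← eq_neg_of_add_eq_zero_right h0 |>.symm,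
      smul_neg, neg_neg, ← mul_smul, ← mul_assoc, sgn_mul_self, one_mul]
  · have hne : ∀ a ∈ s.1ᶜ, a ≠ b → (sgn R a s.1 * x a) •
        (if b ∈ insert a s.1 then sgn R b ((insert a s.1).erase b) • ext (R := R) j v ((insert a s.1).erase b) else 0) = 0 :=
      fun a _ hab => by rw [if_neg (by rw [Finset.mem_insert, not_or]; exact ⟨Ne.symm hab, hb⟩), smul_zero]
    rw [Finset.sum_eq_single b hne (fun h => absurd (Finset.mem_compl.2 hb) h), if_pos (Finset.mem_insert_self _ _),
      Finset.erase_insert hb, ext_of_card (R := R) v s.2, ← mul_smul]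
    refine congrArg (· • _) ?_
    rw [mul_comm _ (x b), mul_assoc, sgn_mul_self, mul_one]

end Groth.Agent.GrLCLib.Kos

namespace Groth.Agent.GrLCLib

open Kos

variable {R : Type u} [CommRing R] {σ : Type u} [SetLike σ R] [AddSubgroupClass σ R] {𝒜 : ℤ → σ} [GradedRing 𝒜]
variable {M : Type u} [AddCommGroup M] [Module R M] {τ : Type u} [SetLike τ M] [AddSubgroupClass τ M]
  (ℳ : ℤ → τ) [DirectSum.Decomposition ℳ] [SetLike.GradedSMul 𝒜 ℳ] {n : ℕ}

/-- The pieces of a term. -/
def kPiece (j : ℕ) (e : ℤ) : AddSubgroup (KC n j M) where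
  carrier := {v | ∀ s, v s ∈ ℳ (e + -(j : ℤ))}
  add_mem' hv hw s := add_mem (hv s) (hw s)
  zero_mem' _ := zero_mem _
  neg_mem' hv s := neg_mem (hv s)

instance kPiece_gradedSMul (j : ℕ) : SetLike.GradedSMul 𝒜 (kPiece (n := n) ℳ j) :=
  ⟨fun {d e r v} hr hv s => by
    rw [vadd_eq_add, add_assoc]
    exact smul_mem 𝒜 ℳ hr (hv s)⟩

lemma isInternal_kPiece (j : ℕ) : DirectSum.IsInternal (kPiece (n := n) ℳ j) := by
  have key : ∀ (w : ⨁ g, kPiece (n := n) ℳ j g) (g : ℤ) (s : T n j),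
      pr ℳ (g + -(j : ℤ)) ((DirectSum.coeAddMonoidHom (kPiece (n := n) ℳ j) w) s) = (w g : KC n j M) s := by
    intro w g s
    induction w using DirectSum.induction_on with
    | zero => simp
    | of i v =>
      rw [DirectSum.coeAddMonoidHom_of]
      by_cases h : i = g
      · subst h
        rw [DirectSum.of_eq_same, pr_of_mem ℳ (v.2 s)]
      · rw [DirectSum.of_eq_of_ne _ _ _ (Ne.symm h), pr_of_mem_ne ℳ (v.2 s) (fun h' => h (add_right_cancel h'))]
        rfl
    | add a b ha hb => simp only [map_add, DirectSum.add_apply, AddSubgroup.coe_add, Pi.add_apply, ha, hb]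
  refine ⟨fun a b h => DFinsupp.ext fun g => Subtype.ext (funext fun s => ?_), fun z => ?_⟩
  · rw [← key a g s, ← key b g s, h]
  · refine ⟨∑ s, ∑ g ∈ (DirectSum.decompose ℳ (z s)).support, DirectSum.of (fun g => kPiece (n := n) ℳ j g) (g + (j : ℤ))
      ⟨Pi.single s (pr ℳ g (z s)), fun t => ?_⟩, ?_⟩
    · by_cases h : t = s
      · subst h
        rw [Pi.single_eq_same, add_neg_cancel_right]
        exact pr_mem ℳ g _
      · rw [Pi.single_eq_of_ne h]
        exact zero_mem _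
    · rw [map_sum, ← Finset.univ_sum_single z]
      refine Finset.sum_congr rfl fun s _ => ?_
      rw [map_sum, Finset.univ_sum_single]
      simp only [DirectSum.coeAddMonoidHom_of]
      refine Eq.trans ?_ (congrArg (Pi.single s) (sum_pr ℳ (z s)))
      exact (map_sum (AddMonoidHom.single (fun _ : T n j => M) s) _ _).symm

/-- A term as an object. -/
def kObj (n j : ℕ) : GrLC.GMod.{u} 𝒜 :=
  letI : DirectSum.Decomposition (kPiece (n := n) ℳ j) := (isInternal_kPiece ℳ j).chooseDecomposition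
  GrLC.GMod.of 𝒜 (KC n j M) (kPiece (n := n) ℳ j)

variable {x : Fin n → R}

lemma dK_grHom (hx : ∀ a, x a ∈ 𝒜 1) (j : ℕ) :
    GrLC.IsGrHom (kPiece (n := n) ℳ (j + 1)) (kPiece (n := n) ℳ j) (dK x j (M := M)) := by
  intro e v hv s
  rw [dK_apply, dVal]
  refine sum_mem fun a ha => ?_
  rw [mul_smul, ext_of_card _ (by rw [Finset.card_insert_of_notMem (Finset.mem_compl.1 ha), s.2])]
  have h1 := smul_mem 𝒜 ℳ (hx a) (hv ⟨insert a s.1, by rw [Finset.card_insert_of_notMem (Finset.mem_compl.1 ha), s.2]⟩)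
  rw [show (1 : ℤ) + (e + -((j + 1 : ℕ) : ℤ)) = e + -(j : ℤ) by push_cast; ring] at h1
  rcases neg_one_pow_eq_or R ((s.1).filter (· < a)).card with h | h
  · rw [Kos.sgn, h, one_smul]
    exact h1
  · rw [Kos.sgn, h, neg_one_smul]
    exact neg_mem h1

section Propagate

variable [IsNoetherianRing R] (a : HomogeneousIdeal 𝒜) (hx : ∀ b, x b ∈ 𝒜 1)
  (ha : a.toIdeal = Ideal.span (Set.range x))

include ha in
lemma gam_eq_top_of_killed {Q : Type u} [AddCommGroup Q] [Module R Q] (h : ∀ (b : Fin n) (q : Q), x b • q = 0) :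
    GrLC.gam a.toIdeal Q = ⊤ := eq_top_iff.2 fun q _ => ⟨1, fun r hr => by
  rw [pow_one, ha] at hr
  induction hr using Submodule.span_induction with
  | mem y hy =>
    obtain ⟨b, rfl⟩ := hy
    exact h b q
  | zero => exact zero_smul _ _
  | add u v _ _ hu hv => rw [add_smul, hu, hv, add_zero]
  | smul c u _ hu => rw [smul_eq_mul, mul_smul, hu, smul_zero]⟩

lemma van_kObj (E : GrLC.StarInjRes 𝒜 ℳ) (j : ℕ) (EK : GrLC.StarInjRes 𝒜 (kObj (𝒜 := 𝒜) ℳ n j).gr) (i : ℕ) (e : ℤ)
    (h : Van E a i (e + -(j : ℤ))) : Van EK a i e := by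
  letI := shiftDec ℳ (-(j : ℤ))
  refine van_of_family (J := T n j) (fun _ => shiftObj 𝒜 ℳ (-(j : ℤ))) (fun _ => shiftRes E (-(j : ℤ))) EK a
    (fun s => LinearMap.single R (fun _ : T n j => M) s) (fun s => LinearMap.proj s)
    (fun s g v hv t => ?_) (fun s g v hv => hv s) (fun v => ?_) (fun s => (van_shiftRes_iff E _ a i e).2 h)
  · show (Pi.single s v : T n j → M) t ∈ ℳ (g + -(j : ℤ))
    by_cases h : t = s
    · subst h
      rw [Pi.single_eq_same]
      exact hv
    · rw [Pi.single_eq_of_ne h]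
      exact zero_mem _
  · exact Finset.univ_sum_single v

variable (x) in
/-- The differential between objects. -/
abbrev dObj (j : ℕ) : (kObj (𝒜 := 𝒜) ℳ n (j + 1)).carrier →ₗ[R] (kObj (𝒜 := 𝒜) ℳ n j).carrier := dK x j

include hx in
lemma homog_rangeK (j : ℕ) : Homog (kObj (𝒜 := 𝒜) ℳ n j).gr (LinearMap.range (dObj (𝒜 := 𝒜) ℳ x j)) :=
  homog_range (kObj (𝒜 := 𝒜) ℳ n (j + 1)).gr (kObj (𝒜 := 𝒜) ℳ n j).gr (dK_grHom ℳ hx j)

include hx in
lemma homog_kerK (j : ℕ) : Homog (kObj (𝒜 := 𝒜) ℳ n (j + 1)).gr (LinearMap.ker (dObj (𝒜 := 𝒜) ℳ x j)) :=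
  homog_ker (kObj (𝒜 := 𝒜) ℳ n (j + 1)).gr (kObj (𝒜 := 𝒜) ℳ n j).gr (dK_grHom ℳ hx j)

include hx ha in
theorem van_rangeK (E : GrLC.StarInjRes 𝒜 ℳ) {l : ℕ} {c : ℤ} (hvan : ∀ i, l ≤ i → Van E a i (c - i))
    {i : ℕ} (hi : l ≤ i) : ∀ (m j : ℕ), n ≤ j + m → 1 ≤ i + j →
      ∀ EB : GrLC.StarInjRes 𝒜 (subObj 𝒜 (kObj (𝒜 := 𝒜) ℳ n j).gr _ (homog_rangeK ℳ hx j)).gr,
        Van EB a (i + j) (c + 1 - i) := by
  intro m
  induction m with
  | zero =>
    intro j hj h1 EB
    obtain ⟨p, hp⟩ : ∃ p, i + j = p + 1 := ⟨i + j - 1, by omega⟩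
    rw [hp]
    refine van_succ_of_gam_eq_top EB a (gam_eq_top_of_killed a ha fun b q => ?_) p _
    haveI : IsEmpty (T n (j + 1)) := ⟨fun s => by
      have := s.1.card_le_univ
      rw [s.2, Fintype.card_fin] at this
      omega⟩
    obtain ⟨v, hv⟩ := q.2
    rw [show v = 0 from funext fun s => isEmptyElim (α := T n (j + 1)) s, map_zero] at hv
    rw [show q = 0 from Subtype.ext hv.symm, smul_zero]
  | succ m ih =>
    intro j hj h1 EB
    let C1 := kObj (𝒜 := 𝒜) ℳ n (j + 1)
    let Z := subObj 𝒜 C1.gr _ (homog_kerK ℳ hx j)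
    let Bj := subObj 𝒜 (kObj (𝒜 := 𝒜) ℳ n j).gr _ (homog_rangeK ℳ hx j)
    let B1 := subObj 𝒜 C1.gr _ (homog_rangeK ℳ hx (j + 1))
    let g : C1.carrier →ₗ[R] Bj.carrier := (dObj (𝒜 := 𝒜) ℳ x j).rangeRestrict
    let incl : B1.carrier →ₗ[R] Z.carrier := Submodule.inclusion (by
      rintro _ ⟨v, rfl⟩
      exact dK_dK x j v)
    have hinclg : GrLC.IsGrHom B1.gr Z.gr incl := fun e v hv => hv
    let H := quotObj 𝒜 Z.gr _ (homog_range B1.gr Z.gr hinclg)
    obtain ⟨EC⟩ := nonempty_starInjRes 𝒜 C1.gr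
    obtain ⟨EZ⟩ := nonempty_starInjRes 𝒜 Z.gr
    obtain ⟨EB1⟩ := nonempty_starInjRes 𝒜 B1.gr
    obtain ⟨EH⟩ := nonempty_starInjRes 𝒜 H.gr
    let ι1 : Z.carrier →ₗ[R] C1.carrier := (LinearMap.ker (dObj (𝒜 := 𝒜) ℳ x j)).subtype
    have hs1 : IsSES Z.gr C1.gr Bj.gr ι1 g :=
      ⟨Submodule.injective_subtype _, LinearMap.surjective_rangeRestrict _,
        (Submodule.range_subtype _).trans (LinearMap.ker_rangeRestrict _).symm, fun _ _ hv => hv,
        fun e v hv => dK_grHom ℳ hx j e v hv⟩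
    let π1 : Z.carrier →ₗ[R] H.carrier := (LinearMap.range incl).mkQ
    have hs2 : IsSES B1.gr Z.gr H.gr incl π1 :=
      ⟨Submodule.inclusion_injective _, Submodule.mkQ_surjective _, (Submodule.ker_mkQ _).symm, hinclg,
        mkQ_grHom Z.gr _⟩
    refine van_right hs1 EZ EC EB a (van_kObj ℳ a E (j + 1) EC _ _ ?_) ?_
    · have := hvan (i + j) (by omega)
      rwa [show c + 1 - (i : ℤ) + -((j + 1 : ℕ) : ℤ) = c - ((i + j : ℕ) : ℤ) by push_cast; ring]
    · refine van_mid hs2 EB1 EZ EH a ?_ (van_succ_of_gam_eq_top EH a (gam_eq_top_of_killed a ha fun b q => ?_) _ _)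
      · rw [show i + j + 1 = i + (j + 1) by omega]
        exact ih (j + 1) (by omega) (by omega) EB1
      · obtain ⟨z, rfl⟩ := Submodule.mkQ_surjective (LinearMap.range incl) q
        refine (map_smul π1 (x b) z).symm.trans ?_
        refine (Submodule.Quotient.mk_eq_zero _).2 ⟨⟨x b • z.1, ⟨hK (j + 1) b z.1, dK_hK x (j + 1) b z.1 fun t ht => ?_⟩⟩, rfl⟩
        exact congrFun z.2 ⟨t, by omega⟩

include hx ha in
theorem van_next_diag (E : GrLC.StarInjRes 𝒜 ℳ) {l : ℕ} (hl : 1 ≤ l) {c : ℤ}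
    (hvan : ∀ i, l ≤ i → Van E a i (c - i)) {i : ℕ} (hi : l ≤ i) : Van E a i (c + 1 - i) := by
  let C0 := kObj (𝒜 := 𝒜) ℳ n 0
  let B0 := subObj 𝒜 C0.gr _ (homog_rangeK ℳ hx 0)
  let H := quotObj 𝒜 C0.gr _ (homog_rangeK ℳ hx 0)
  obtain ⟨EC⟩ := nonempty_starInjRes 𝒜 C0.gr
  obtain ⟨EB⟩ := nonempty_starInjRes 𝒜 B0.gr
  obtain ⟨EH⟩ := nonempty_starInjRes 𝒜 H.gr
  let ι0 : B0.carrier →ₗ[R] C0.carrier := (LinearMap.range (dObj (𝒜 := 𝒜) ℳ x 0)).subtype
  let π0 : C0.carrier →ₗ[R] H.carrier := (LinearMap.range (dObj (𝒜 := 𝒜) ℳ x 0)).mkQ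
  have hs : IsSES B0.gr C0.gr H.gr ι0 π0 :=
    ⟨Submodule.injective_subtype _, Submodule.mkQ_surjective _, (Submodule.range_subtype _).trans (Submodule.ker_mkQ _).symm,
      fun _ _ hv => hv, mkQ_grHom C0.gr _⟩
  obtain ⟨p, rfl⟩ : ∃ p, i = p + 1 := ⟨i - 1, by omega⟩
  refine van_retract E EC a (LinearMap.proj (⟨∅, rfl⟩ : T n 0)) (LinearMap.pi fun _ => LinearMap.id)
    (fun g v hv => by
      have := hv (⟨∅, rfl⟩ : T n 0)
      rwa [Nat.cast_zero, neg_zero, add_zero] at this)
    (fun g v hv s => by rwa [Nat.cast_zero, neg_zero, add_zero]) (fun v => rfl)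
    (van_mid hs EB EC EH a ?_ (van_succ_of_gam_eq_top EH a (gam_eq_top_of_killed a ha fun b q => ?_) _ _))
  · exact van_rangeK ℳ a hx ha E hvan hi n 0 (by omega) (by omega) EB
  · obtain ⟨z, rfl⟩ := Submodule.mkQ_surjective (LinearMap.range (dObj (𝒜 := 𝒜) ℳ x 0)) q
    refine (map_smul π0 (x b) z).symm.trans ?_
    exact (Submodule.Quotient.mk_eq_zero _).2 ⟨hK 0 b z, dK_hK x 0 b z fun t ht => absurd ht (Nat.succ_ne_zero _)⟩

include hx ha in
theorem van_above_diag (E : GrLC.StarInjRes 𝒜 ℳ) {l : ℕ} (hl : 1 ≤ l) {c : ℤ}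
    (hvan : ∀ i, l ≤ i → Van E a i (c - i)) : ∀ (s : ℤ), c ≤ s → ∀ i, l ≤ i → Van E a i (s - i) := by
  intro s hs
  induction s, hs using Int.leInduction with
  | base => exact hvan
  | succ s hs ih => exact fun i hi => van_next_diag ℳ a hx ha E hl ih hi

end Propagate

end Groth.Agent.GrLCLib
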