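import Groth.Agent.GrLCLib.Koszul
import Groth.Agent.GrLCLib.Bridge

/-!
The low end of the Koszul complex: generators, relations, and the top local cohomology.
-/

set_option autoImplicit false
set_option linter.unusedSectionVars false
set_option linter.style.haveILetI false
universe u

open scoped Classical
open DirectSum

noncomputable section

namespace Groth.Agent.GrLCLib

open Kos

variable {R : Type u} [CommRing R] [IsNoetherianRing R] {σ : Type u} [SetLike σ R] [AddSubgroupClass σ R] {𝒜 : ℤ → σ}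
  [GradedRing 𝒜]
variable {M : Type u} [AddCommGroup M] [Module R M] {τ : Type u} [SetLike τ M] [AddSubgroupClass τ M]
  (ℳ : ℤ → τ) [DirectSum.Decomposition ℳ] [SetLike.GradedSMul 𝒜 ℳ]
variable {n : ℕ} {x : Fin n → R} (a : HomogeneousIdeal 𝒜) (hx : ∀ b, x b ∈ 𝒜 1)
  (ha : a.toIdeal = Ideal.span (Set.range x)) (E : GrLC.StarInjRes 𝒜 ℳ)

lemma exists_preimage_obj (A B : GrLC.GMod.{u} 𝒜) (f : A.carrier →ₗ[R] B.carrier) (hf : GrLC.IsGrHom A.gr B.gr f)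
    {g : ℤ} {y : B.carrier} (hy : y ∈ B.gr g) (h : y ∈ LinearMap.range f) : ∃ w ∈ A.gr g, f w = y :=
  exists_preimage A.gr B.gr hf hy h

include hx ha in
/-- Elements in degrees beyond the regularity lie in the irrelevant part. -/
theorem exists_sum_of_van {e : ℤ} (hvan : ∀ i : ℕ, Van E a i (e - i)) {y : M} (hy : y ∈ ℳ e) :
    ∃ z : Fin n → M, (∀ b, z b ∈ ℳ (e - 1)) ∧ y = ∑ b, x b • z b := by
  let C0 := kObj (𝒜 := 𝒜) ℳ n 0
  let C1 := kObj (𝒜 := 𝒜) ℳ n (0 + 1)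
  let B0 := subObj 𝒜 C0.gr _ (homog_rangeK ℳ hx 0)
  let H := quotObj 𝒜 C0.gr _ (homog_rangeK ℳ hx 0)
  obtain ⟨EC⟩ := nonempty_starInjRes 𝒜 C0.gr
  obtain ⟨EB⟩ := nonempty_starInjRes 𝒜 B0.gr
  obtain ⟨EH⟩ := nonempty_starInjRes 𝒜 H.gr
  let ι0 : B0.carrier →ₗ[R] C0.carrier := (LinearMap.range (dObj (𝒜 := 𝒜) ℳ x 0)).subtype
  let π0 : C0.carrier →ₗ[R] H.carrier := (LinearMap.range (dObj (𝒜 := 𝒜) ℳ x 0)).mkQ
  have hs : IsSES B0.gr C0.gr H.gr ι0 π0 :=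
    ⟨Submodule.injective_subtype _, Submodule.mkQ_surjective _, (Submodule.range_subtype _).trans (Submodule.ker_mkQ _).symm,
      fun _ _ hv => hv, mkQ_grHom C0.gr _⟩
  have hH : Van EH a 0 e := by
    refine van_right hs EB EC EH a (van_kObj ℳ a E 0 EC 0 e (by simpa using hvan 0)) ?_
    have h1 := van_rangeK ℳ a hx ha E (l := 0) (c := e) (fun i _ => hvan i) (i := 1) (by omega) n 0 (by omega) (by omega) EB
    simpa using h1
  let v : C0.carrier := fun _ => y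
  have hv : v ∈ C0.gr e := fun s => by rwa [Nat.cast_zero, neg_zero, add_zero]
  have hkill : GrLC.gam a.toIdeal H.carrier = ⊤ := gam_eq_top_of_killed a ha fun b q => by
    obtain ⟨z, rfl⟩ := Submodule.mkQ_surjective (LinearMap.range (dObj (𝒜 := 𝒜) ℳ x 0)) q
    refine (map_smul π0 (x b) z).symm.trans ?_
    exact (Submodule.Quotient.mk_eq_zero _).2 ⟨hK 0 b z, dK_hK x 0 b z fun t ht => absurd ht (Nat.succ_ne_zero _)⟩
  have h0 : π0 v = 0 := (van_zero_iff EH a e).1 hH _ (mkQ_grHom C0.gr _ e v hv) (hkill ▸ Submodule.mem_top)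
  obtain ⟨w, hw, hwv⟩ := exists_preimage_obj C1 C0 (dObj (𝒜 := 𝒜) ℳ x 0) (dK_grHom ℳ hx 0) hv
    ((Submodule.Quotient.mk_eq_zero _).1 h0)
  refine ⟨fun b => w ⟨{b}, Finset.card_singleton b⟩, fun b => ?_, ?_⟩
  · have := hw ⟨{b}, Finset.card_singleton b⟩
    rwa [show e + -((0 + 1 : ℕ) : ℤ) = e - 1 by push_cast; ring] at this
  · refine (congrFun hwv ⟨∅, rfl⟩).symm.trans ?_
    show dVal x (0 + 1) w ∅ = _
    rw [dVal, Finset.compl_empty]
    refine Finset.sum_congr rfl fun b _ => ?_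
    rw [ext_of_card w (by simp)]
    simp [Kos.sgn]

include hx ha in
/-- Relations in degrees beyond the regularity come from the trivial ones. -/
theorem exists_koszul_of_van {e : ℤ} (hvan : ∀ i : ℕ, Van E a i (e - 1 - i)) (z : KC n 1 M)
    (hz : ∀ s, z s ∈ ℳ (e - 1)) (hdz : dK x 0 z = 0) :
    ∃ w : KC n 2 M, (∀ s, w s ∈ ℳ (e - 2)) ∧ dK x 1 w = z := by
  let C1 := kObj (𝒜 := 𝒜) ℳ n (0 + 1)
  let C2 := kObj (𝒜 := 𝒜) ℳ n (1 + 1)
  let Z := subObj 𝒜 C1.gr _ (homog_kerK ℳ hx 0)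
  let B1 := subObj 𝒜 C1.gr _ (homog_rangeK ℳ hx 1)
  let incl : B1.carrier →ₗ[R] Z.carrier := Submodule.inclusion (by
    rintro _ ⟨v, rfl⟩
    exact dK_dK x 0 v)
  have hinclg : GrLC.IsGrHom B1.gr Z.gr incl := fun e v hv => hv
  let H := quotObj 𝒜 Z.gr _ (homog_range B1.gr Z.gr hinclg)
  obtain ⟨EC⟩ := nonempty_starInjRes 𝒜 C1.gr
  obtain ⟨EZ⟩ := nonempty_starInjRes 𝒜 Z.gr
  obtain ⟨EB⟩ := nonempty_starInjRes 𝒜 B1.gr
  obtain ⟨EH⟩ := nonempty_starInjRes 𝒜 H.gr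
  let ι1 : Z.carrier →ₗ[R] C1.carrier := (LinearMap.ker (dObj (𝒜 := 𝒜) ℳ x 0)).subtype
  let B0 := subObj 𝒜 (kObj (𝒜 := 𝒜) ℳ n 0).gr _ (homog_rangeK ℳ hx 0)
  obtain ⟨EB0⟩ := nonempty_starInjRes 𝒜 B0.gr
  let g : C1.carrier →ₗ[R] B0.carrier := (dObj (𝒜 := 𝒜) ℳ x 0).rangeRestrict
  have hs1 : IsSES Z.gr C1.gr B0.gr ι1 g :=
    ⟨Submodule.injective_subtype _, LinearMap.surjective_rangeRestrict _,
      (Submodule.range_subtype _).trans (LinearMap.ker_rangeRestrict _).symm, fun _ _ hv => hv,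
      fun e v hv => dK_grHom ℳ hx 0 e v hv⟩
  let π1 : Z.carrier →ₗ[R] H.carrier := (LinearMap.range incl).mkQ
  have hs2 : IsSES B1.gr Z.gr H.gr incl π1 :=
    ⟨Submodule.inclusion_injective _, Submodule.mkQ_surjective _, (Submodule.ker_mkQ _).symm, hinclg,
      mkQ_grHom Z.gr _⟩
  have hH : Van EH a 0 e := by
    refine van_right hs2 EB EZ EH a (van_left_zero hs1 EZ EC a (van_kObj ℳ a E (0 + 1) EC 0 e ?_)) ?_
    · simpa [← sub_eq_add_neg] using hvan 0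
    · have h1 := van_rangeK ℳ a hx ha E (l := 0) (c := e - 1) (fun i _ => hvan i) (i := 0) (by omega) n 1 (by omega)
        (by omega) EB
      simpa using h1
  have hkill : GrLC.gam a.toIdeal H.carrier = ⊤ := gam_eq_top_of_killed a ha fun b q => by
    obtain ⟨z, rfl⟩ := Submodule.mkQ_surjective (LinearMap.range incl) q
    refine (map_smul π1 (x b) z).symm.trans ?_
    refine (Submodule.Quotient.mk_eq_zero _).2 ⟨⟨x b • z.1, ⟨hK 1 b z.1, dK_hK x 1 b z.1 fun t ht => ?_⟩⟩, rfl⟩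
    exact congrFun z.2 ⟨t, by omega⟩
  let z' : Z.carrier := ⟨z, hdz⟩
  have hzC : z ∈ C1.gr e := fun s => by
    rw [show e + -((0 + 1 : ℕ) : ℤ) = e - 1 by push_cast; ring]
    exact hz s
  have h0 : π1 z' = 0 := (van_zero_iff EH a e).1 hH _ (mkQ_grHom Z.gr _ e z' hzC) (hkill ▸ Submodule.mem_top)
  obtain ⟨u, hu⟩ := (Submodule.Quotient.mk_eq_zero _).1 h0
  obtain ⟨w, hw, hwv⟩ := exists_preimage_obj C2 C1 (dObj (𝒜 := 𝒜) ℳ x 1) (dK_grHom ℳ hx 1) hzC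
    (show z ∈ LinearMap.range (dObj (𝒜 := 𝒜) ℳ x 1) from by
      have h1 : u.1 = z := congrArg Subtype.val hu
      rw [← h1]
      exact u.2)
  refine ⟨w, fun s => ?_, hwv⟩
  have := hw s
  rwa [show e + -((1 + 1 : ℕ) : ℤ) = e - 2 by push_cast; ring] at this

include hx ha in
/-- Top local cohomology in degree `e` is a quotient of the one in degree `e - 1`. -/
theorem van_top_step [Module.Finite R M] {r : ℕ} (hr : 1 ≤ r)
    (hbig : ∀ (Q : Type u) [AddCommGroup Q] [Module R Q] [Module.Finite R Q], Subsingleton (LocCoh.H a.toIdeal (r + 1) Q))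
    {e : ℤ} (h : Van E a r (e - 1)) : Van E a r e := by
  let C0 := kObj (𝒜 := 𝒜) ℳ n 0
  let C1 := kObj (𝒜 := 𝒜) ℳ n (0 + 1)
  let B0 := subObj 𝒜 C0.gr _ (homog_rangeK ℳ hx 0)
  let H := quotObj 𝒜 C0.gr _ (homog_rangeK ℳ hx 0)
  let Z := subObj 𝒜 C1.gr _ (homog_kerK ℳ hx 0)
  haveI : Module.Finite R C1.carrier := inferInstanceAs (Module.Finite R (T n (0 + 1) → M))
  haveI : Module.Finite R Z.carrier := inferInstanceAs (Module.Finite R (LinearMap.ker (dObj (𝒜 := 𝒜) ℳ x 0)))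
  obtain ⟨EC⟩ := nonempty_starInjRes 𝒜 C0.gr
  obtain ⟨EC1⟩ := nonempty_starInjRes 𝒜 C1.gr
  obtain ⟨EZ⟩ := nonempty_starInjRes 𝒜 Z.gr
  obtain ⟨EB⟩ := nonempty_starInjRes 𝒜 B0.gr
  obtain ⟨EH⟩ := nonempty_starInjRes 𝒜 H.gr
  let ι1 : Z.carrier →ₗ[R] C1.carrier := (LinearMap.ker (dObj (𝒜 := 𝒜) ℳ x 0)).subtype
  let g : C1.carrier →ₗ[R] B0.carrier := (dObj (𝒜 := 𝒜) ℳ x 0).rangeRestrict
  have hs1 : IsSES Z.gr C1.gr B0.gr ι1 g :=
    ⟨Submodule.injective_subtype _, LinearMap.surjective_rangeRestrict _,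
      (Submodule.range_subtype _).trans (LinearMap.ker_rangeRestrict _).symm, fun _ _ hv => hv,
      fun e v hv => dK_grHom ℳ hx 0 e v hv⟩
  let ι0 : B0.carrier →ₗ[R] C0.carrier := (LinearMap.range (dObj (𝒜 := 𝒜) ℳ x 0)).subtype
  let π0 : C0.carrier →ₗ[R] H.carrier := (LinearMap.range (dObj (𝒜 := 𝒜) ℳ x 0)).mkQ
  have hs : IsSES B0.gr C0.gr H.gr ι0 π0 :=
    ⟨Submodule.injective_subtype _, Submodule.mkQ_surjective _, (Submodule.range_subtype _).trans (Submodule.ker_mkQ _).symm,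
      fun _ _ hv => hv, mkQ_grHom C0.gr _⟩
  obtain ⟨p, rfl⟩ : ∃ p, r = p + 1 := ⟨r - 1, by omega⟩
  have hB : Van EB a (p + 1) e := van_right hs1 EZ EC1 EB a
    (van_kObj ℳ a E (0 + 1) EC1 (p + 1) e (by simpa [← sub_eq_add_neg] using h)) (van_of_subsingleton EZ a (hbig Z.carrier) e)
  refine van_retract E EC a (LinearMap.proj (⟨∅, rfl⟩ : T n 0)) (LinearMap.pi fun _ => LinearMap.id)
    (fun g v hv => by
      have := hv (⟨∅, rfl⟩ : T n 0)
      rwa [Nat.cast_zero, neg_zero, add_zero] at this)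
    (fun g v hv s => by rwa [Nat.cast_zero, neg_zero, add_zero]) (fun v => rfl)
    (van_mid hs EB EC EH a hB (van_succ_of_gam_eq_top EH a (gam_eq_top_of_killed a ha fun b q => ?_) _ _))
  obtain ⟨z, rfl⟩ := Submodule.mkQ_surjective (LinearMap.range (dObj (𝒜 := 𝒜) ℳ x 0)) q
  refine (map_smul π0 (x b) z).symm.trans ?_
  exact (Submodule.Quotient.mk_eq_zero _).2 ⟨hK 0 b z, dK_hK x 0 b z fun t ht => absurd ht (Nat.succ_ne_zero _)⟩

end Groth.Agent.GrLCLib
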