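import Groth.Agent.GrLCLib.FinPieces

/-!
Lengths of pieces of graded local cohomology are additive in an alternating sum over short exact sequences.
-/

set_option autoImplicit false
set_option linter.unusedSectionVars false
set_option linter.style.haveILetI false
universe u

open scoped Classical
open DirectSum

noncomputable section

namespace Groth.Agent.GrLCLib

/-- Length as a natural number. -/
def len (k : Type*) [Ring k] (A : Type*) [AddCommGroup A] [Module k A] : ℕ := (Module.length k A).toNat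

section Len

variable {k : Type u} [CommRing k] [IsArtinianRing k] {A B C : Type u} [AddCommGroup A] [Module k A]
  [AddCommGroup B] [Module k B] [AddCommGroup C] [Module k C]

lemma length_ne_top_of_finite (A : Type u) [AddCommGroup A] [Module k A] [Module.Finite k A] :
    Module.length k A ≠ ⊤ := by
  haveI : IsNoetherianRing k := inferInstance
  exact Module.length_ne_top

lemma len_eq_ker_add_range [Module.Finite k A] [Module.Finite k B] (f : A →ₗ[k] B) :
    len k A = len k (LinearMap.ker f) + len k (LinearMap.range f) := by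
  rw [len, len, len, Module.length_eq_add_of_exact (LinearMap.ker f).subtype f.rangeRestrict
    (Submodule.injective_subtype _) f.surjective_rangeRestrict ?_, ENat.toNat_add (length_ne_top_of_finite _) (length_ne_top_of_finite _)]
  intro y
  exact ⟨fun h => ⟨⟨y, congrArg Subtype.val h⟩, rfl⟩, by rintro ⟨z, rfl⟩; exact Subtype.ext z.2⟩

lemma len_congr (e : A ≃ₗ[k] B) : len k A = len k B := by rw [len, len, e.length_eq]

lemma len_eq_zero_of_subsingleton [Subsingleton A] : len k A = 0 := by rw [len, Module.length_eq_zero]; rfl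

lemma len_ses [Module.Finite k A] [Module.Finite k B] [Module.Finite k C] (f : A →ₗ[k] B) (g : B →ₗ[k] C)
    (hf : Function.Injective f) (hg : Function.Surjective g) (h : Function.Exact f g) :
    len k B = len k A + len k C := by
  rw [len, len, len, Module.length_eq_add_of_exact f g hf hg h,
    ENat.toNat_add (length_ne_top_of_finite _) (length_ne_top_of_finite _)]

end Len

lemma alternating_sum_eq {d : ℕ} (a b c ka ra rb rd : ℕ → ℕ) (ha : ∀ i ≤ d, a i = ka i + ra i)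
    (hb : ∀ i ≤ d, b i = ra i + rb i) (hc : ∀ i ≤ d, c i = rb i + rd i) (h0 : ka 0 = 0)
    (hk : ∀ i < d, ka (i + 1) = rd i) (hd : rd d = 0) :
    ∑ i ∈ Finset.range (d + 1), (-1 : ℚ) ^ i * (b i : ℚ) =
      ∑ i ∈ Finset.range (d + 1), (-1 : ℚ) ^ i * (a i : ℚ) + ∑ i ∈ Finset.range (d + 1), (-1 : ℚ) ^ i * (c i : ℚ) := by
  rw [← sub_eq_zero, ← Finset.sum_add_distrib, ← Finset.sum_sub_distrib]
  have h : ∀ i ∈ Finset.range (d + 1),
      (-1 : ℚ) ^ i * (b i : ℚ) - ((-1) ^ i * (a i : ℚ) + (-1) ^ i * (c i : ℚ)) =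
        -((-1 : ℚ) ^ i * (ka i : ℚ)) - (-1) ^ i * (rd i : ℚ) := fun i hi => by
    have hi' : i ≤ d := Nat.lt_succ_iff.1 (Finset.mem_range.1 hi)
    rw [ha i hi', hb i hi', hc i hi']
    push_cast
    ring
  rw [Finset.sum_congr rfl h, Finset.sum_sub_distrib, Finset.sum_neg_distrib, Finset.sum_range_succ', Finset.sum_range_succ]
  rw [h0, hd, Finset.sum_congr rfl fun i hi => by rw [hk i (Finset.mem_range.1 hi), pow_succ]]
  simp [Finset.sum_neg_distrib]

variable {R : Type u} [CommRing R] {𝒜 : ℤ → AddSubgroup R} [GradedRing 𝒜]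
variable {MA : Type u} [AddCommGroup MA] [Module R MA] {ℳA : ℤ → AddSubgroup MA} [DirectSum.Decomposition ℳA]
  [SetLike.GradedSMul 𝒜 ℳA]
variable {MB : Type u} [AddCommGroup MB] [Module R MB] {ℳB : ℤ → AddSubgroup MB} [DirectSum.Decomposition ℳB]
  [SetLike.GradedSMul 𝒜 ℳB]
variable {MC : Type u} [AddCommGroup MC] [Module R MC] {ℳC : ℤ → AddSubgroup MC} [DirectSum.Decomposition ℳC]
  [SetLike.GradedSMul 𝒜 ℳC]
variable (a : HomogeneousIdeal 𝒜)

lemma mk_H_eq_zero (E : GrLC.StarInjRes 𝒜 ℳA) {i : ℕ} (z : E.cocyc a i) :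
    E.toH a i z = 0 ↔ (z : (E.X i).carrier) ∈ E.cobdy a i :=
  Submodule.Quotient.mk_eq_zero ((E.cobdy a i).comap (E.cocyc a i).subtype)

section SESMaps

variable {f : MA →ₗ[R] MB} {g : MB →ₗ[R] MC} (hs : IsSES ℳA ℳB ℳC f g)
  {EA : GrLC.StarInjRes 𝒜 ℳA} {EB : GrLC.StarInjRes 𝒜 ℳB} (φ : RMap EA EB f)
  (r : (W EA EB 0).carrier →ₗ[R] (EA.X 0).carrier) (hr : GrLC.IsGrHom (W EA EB 0).gr (EA.X 0).gr r)
  (hrj : ∀ y, r (jW φ y) = y)

/-- From pairs to the cone resolution. -/
def toY : ∀ i, (W EA EB i).carrier →ₗ[R] (coneX r hr i).carrier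
  | 0 => prY0 φ r hr hrj
  | _ + 1 => LinearMap.id

lemma toY_grHom : ∀ i, GrLC.IsGrHom (W EA EB i).gr (coneX r hr i).gr (toY φ r hr hrj i)
  | 0 => prY0_grHom φ r hr hrj
  | _ + 1 => fun _ _ hx => hx

lemma coneDiff_toY : ∀ (i : ℕ) (w : (W EA EB i).carrier), coneDiff φ r hr i (toY φ r hr hrj i w) = dW φ i w
  | 0, w => by
    show dW φ 0 (incY0 r hr (prY0 φ r hr hrj w)) = dW φ 0 w
    rw [incY0_prY0, map_sub, dW_jW, sub_zero]
  | _ + 1, _ => rfl

lemma toY_toW : ∀ (i : ℕ) (y : (coneX r hr i).carrier), toY φ r hr hrj i (toW r hr i y) = y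
  | 0, y => incY0_injective r hr (by
    show incY0 r hr (prY0 φ r hr hrj (incY0 r hr y)) = incY0 r hr y
    rw [incY0_prY0, r_incY0, map_zero, sub_zero])
  | _ + 1, _ => rfl

lemma toY_jW (y : (EA.X 0).carrier) : toY φ r hr hrj 0 (jW φ y) = 0 := incY0_injective r hr (by
  show incY0 r hr (prY0 φ r hr hrj (jW φ y)) = incY0 r hr 0
  rw [incY0_prY0, hrj, sub_self, map_zero])

lemma toW_toY_succ (i : ℕ) (w : (W EA EB (i + 1)).carrier) : toW r hr (i + 1) (toY φ r hr hrj (i + 1) w) = w := rfl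

include hs φ in
/-- Additivity of the alternating sums. -/
theorem len_alternating [IsArtinianRing (GrLC.deg0 𝒜)] (EC : GrLC.StarInjRes 𝒜 ℳC) (d : ℕ) (e : ℤ)
    (hA : ∀ i, Module.Finite (GrLC.deg0 𝒜) (EA.Hcomp a i e)) (hB : ∀ i, Module.Finite (GrLC.deg0 𝒜) (EB.Hcomp a i e))
    (hC : ∀ i, Module.Finite (GrLC.deg0 𝒜) (EC.Hcomp a i e)) (htop : Van EA a (d + 1) e) :
    ∑ i ∈ Finset.range (d + 1), (-1 : ℚ) ^ i * (len (GrLC.deg0 𝒜) (EB.Hcomp a i e) : ℚ) =
      ∑ i ∈ Finset.range (d + 1), (-1 : ℚ) ^ i * (len (GrLC.deg0 𝒜) (EA.Hcomp a i e) : ℚ) +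
        ∑ i ∈ Finset.range (d + 1), (-1 : ℚ) ^ i * (len (GrLC.deg0 𝒜) (EC.Hcomp a i e) : ℚ) := by
  obtain ⟨r, hr, hrj⟩ := exists_retraction φ hs.inj
  let EK := coneRes φ r hr hrj g hs.surj hs.exact hs.grg
  haveI : ∀ i, Module.Finite (GrLC.deg0 𝒜) (EK.Hcomp a i e) := fun i => by
    haveI := hC i
    exact finite_hcomp_congr a EC EK i e
  -- the length does not depend on the resolution
  have hlenC : ∀ i, len (GrLC.deg0 𝒜) (EC.Hcomp a i e) = len (GrLC.deg0 𝒜) (EK.Hcomp a i e) := fun i => by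
    obtain ⟨ψ⟩ := exists_rmap EC EK LinearMap.id (fun _ _ hx => hx)
    obtain ⟨χ⟩ := exists_rmap EK EC LinearMap.id (fun _ _ hx => hx)
    let F := hmap a EC EK (ψ.φ i) (fun z hz => ψ.map_cocyc a hz) (fun z hz => ψ.map_cobdy a hz) (ψ.gr i e)
    let G := hmap a EK EC (χ.φ i) (fun z hz => χ.map_cocyc a hz) (fun z hz => χ.map_cobdy a hz) (χ.gr i e)
    refine len_congr (LinearEquiv.ofLinear F G (LinearMap.ext fun y => ?_) (LinearMap.ext fun y => ?_))
    · obtain ⟨z, hz, hzy⟩ := y.2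
      refine Subtype.ext ?_
      show hmapH a EC EK _ (fun z hz => ψ.map_cocyc a hz) (fun z hz => ψ.map_cobdy a hz) (hmapH a EK EC _ (fun z hz => χ.map_cocyc a hz) (fun z hz => χ.map_cobdy a hz) (y : EK.H a i)) = (y : EK.H a i)
      rw [← hzy, hmapH_toH, hmapH_toH]
      exact (toH_eq_iff a EK _ _).2 (roundtrip χ ψ a z.2)
    · obtain ⟨z, hz, hzy⟩ := y.2
      refine Subtype.ext ?_
      show hmapH a EK EC _ (fun z hz => χ.map_cocyc a hz) (fun z hz => χ.map_cobdy a hz) (hmapH a EC EK _ (fun z hz => ψ.map_cocyc a hz) (fun z hz => ψ.map_cobdy a hz) (y : EC.H a i)) = (y : EC.H a i)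
      rw [← hzy, hmapH_toH, hmapH_toH]
      exact (toH_eq_iff a EC _ _).2 (roundtrip ψ χ a z.2)
  simp only [hlenC]
  -- the three maps
  let β : ∀ i, (EB.X i).carrier →ₗ[R] (EK.X i).carrier := fun i =>
    toY φ r hr hrj i ∘ₗ LinearMap.inr R (EA.X (i + 1)).carrier (EB.X i).carrier
  have hβd : ∀ i z, coneDiff φ r hr i (β i z) = ((0, EB.d i z) : (W EA EB (i + 1)).carrier) := fun i z => by
    refine (coneDiff_toY φ r hr hrj i _).trans ?_
    show dW φ i (0, z) = (0, EB.d i z)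
    rw [dW_apply, map_zero, map_zero, neg_zero, add_zero]
  have hβc : ∀ i, ∀ z ∈ EB.cocyc a i, β i z ∈ EK.cocyc a i := fun i z hz => by
    refine ⟨map_mem_gam (β i) hz.1, ?_⟩
    show coneDiff φ r hr i (β i z) = 0
    rw [hβd, show EB.d i z = 0 from hz.2]
    rfl
  have hβb : ∀ i, ∀ z ∈ EB.cobdy a i, β i z ∈ EK.cobdy a i := by
    intro i z hz
    cases i with
    | zero => rw [(Submodule.mem_bot R).1 hz, map_zero]; exact Submodule.zero_mem _
    | succ i =>
      obtain ⟨w, hw, rfl⟩ := hz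
      exact ⟨β i w, map_mem_gam (β i) hw, hβd i w⟩
  have hβg : ∀ i, ∀ z ∈ (EB.X i).gr e, β i z ∈ (EK.X i).gr e := fun i z hz =>
    toY_grHom φ r hr hrj i e _ ⟨zero_mem _, hz⟩
  let δ : ∀ i, (EK.X i).carrier →ₗ[R] (EA.X (i + 1)).carrier := fun i => fstW r hr i
  have hδc : ∀ i, ∀ z ∈ EK.cocyc a i, δ i z ∈ EA.cocyc a (i + 1) := fun i z hz =>
    ⟨map_mem_gam (δ i) hz.1, d_fstW_eq_zero φ r hr i z hz.2⟩
  have hδb : ∀ i, ∀ z ∈ EK.cobdy a i, δ i z ∈ EA.cobdy a (i + 1) := by
    intro i z hz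
    cases i with
    | zero => rw [(Submodule.mem_bot R).1 hz, map_zero]; exact Submodule.zero_mem _
    | succ i =>
      obtain ⟨w, hw, rfl⟩ := hz
      exact ⟨-(fstW r hr i w), Submodule.neg_mem _ (map_mem_gam (fstW r hr i) hw), (fstW_diff φ r hr i w).symm⟩
  have hδg : ∀ i, ∀ z ∈ (EK.X i).gr e, δ i z ∈ (EA.X (i + 1)).gr e := fun i z hz => (toW_grHom r hr i e z hz).1
  let Α := fun i => hmap a EA EB (φ.φ i) (fun z hz => φ.map_cocyc a hz) (fun z hz => φ.map_cobdy a hz) (φ.gr i e)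
  let Β := fun i => hmap a EB EK (β i) (hβc i) (hβb i) (hβg i)
  let Δ := fun i => hmap a EK EA (δ i) (hδc i) (hδb i) (hδg i)
  -- exactness
  have hexB : ∀ i, LinearMap.ker (Β i) = LinearMap.range (Α i) := by
    intro i
    refine le_antisymm (fun y hy => ?_) ?_
    · obtain ⟨z, hz, hzy⟩ := y.2
      have h1 : EK.toH a i ⟨β i z, hβc i z z.2⟩ = 0 := by
        rw [← hmapH_toH a EB EK (β i) (hβc i) (hβb i), hzy]
        exact congrArg Subtype.val (LinearMap.mem_ker.1 hy)
      have h2 := (mk_H_eq_zero a EK _).1 h1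
      suffices h : ∃ p ∈ (EA.X i).gr e, p ∈ EA.cocyc a i ∧ φ.φ i p - (z : (EB.X i).carrier) ∈ EB.cobdy a i by
        obtain ⟨p, hp, hpc, hpz⟩ := h
        refine ⟨⟨EA.toH a i ⟨p, hpc⟩, ⟨p, hpc⟩, hp, rfl⟩, Subtype.ext ?_⟩
        refine (hmapH_toH a EA EB (φ.φ i) (fun z hz => φ.map_cocyc a hz) (fun z hz => φ.map_cobdy a hz) _).trans (Eq.trans ?_ hzy)
        exact (toH_eq_iff a EB _ _).2 hpz
      cases i with
      | zero =>
        have h3 : prY0 φ r hr hrj (0, (z : (EB.X 0).carrier)) = 0 := (Submodule.mem_bot R).1 h2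
        have h4 := incY0_prY0 φ r hr hrj ((0, (z : (EB.X 0).carrier)) : (W EA EB 0).carrier)
        rw [h3, map_zero, eq_comm, sub_eq_zero] at h4
        refine ⟨r (0, (z : (EB.X 0).carrier)), hr e _ ⟨zero_mem _, hz⟩,
          ⟨map_mem_gam r (mem_gam_prod a (Submodule.zero_mem _) z.2.1), ?_⟩, ?_⟩
        · exact neg_eq_zero.1 (congrArg Prod.fst h4).symm
        · rw [show φ.φ 0 (r (0, (z : (EB.X 0).carrier))) = (z : (EB.X 0).carrier) from (congrArg Prod.snd h4).symm, sub_self]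
          exact Submodule.zero_mem _
      | succ i =>
        obtain ⟨w, hw, hwg, hwd⟩ := exists_of_mem_cobdy EK a h2 (hβg (i + 1) z hz)
        have h3 : dW φ i ((toW r hr i w).1, (toW r hr i w).2) = (0, (z : (EB.X (i + 1)).carrier)) :=
          (dW_toW φ r hr i w).trans hwd
        rw [dW_apply] at h3
        refine ⟨(toW r hr i w).1, (toW_grHom r hr i e w hw).1,
          ⟨map_mem_gam (LinearMap.fst R _ _) (map_mem_gam (toW r hr i) hwg), neg_eq_zero.1 (congrArg Prod.fst h3)⟩,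
          ⟨-(toW r hr i w).2, Submodule.neg_mem _ (map_mem_gam (LinearMap.snd R _ _) (map_mem_gam (toW r hr i) hwg)), ?_⟩⟩
        rw [← show EB.d i (toW r hr i w).2 + φ.φ (i + 1) (toW r hr i w).1 = (z : (EB.X (i + 1)).carrier) from congrArg Prod.snd h3,
          map_neg]
        abel
    · rintro _ ⟨y, rfl⟩
      obtain ⟨z, hz, hzy⟩ := y.2
      refine Subtype.ext ?_
      show hmapH a EB EK (β i) (hβc i) (hβb i) (hmapH a EA EB (φ.φ i) (fun z hz => φ.map_cocyc a hz) (fun z hz => φ.map_cobdy a hz) (y : EA.H a i)) = 0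
      rw [← hzy, hmapH_toH, hmapH_toH]
      refine (mk_H_eq_zero a EK _).2 ?_
      show toY φ r hr hrj i (0, φ.φ i z) ∈ EK.cobdy a i
      cases i with
      | zero =>
        rw [show ((0, φ.φ 0 (z : (EA.X 0).carrier)) : (W EA EB 0).carrier) = jW φ z from by
          rw [jW_apply, show EA.d 0 (z : (EA.X 0).carrier) = 0 from z.2.2, neg_zero], toY_jW]
        exact Submodule.zero_mem _
      | succ i =>
        refine ⟨toY φ r hr hrj i ((z : (EA.X (i + 1)).carrier), 0),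
          map_mem_gam _ (mem_gam_prod a z.2.1 (Submodule.zero_mem _)), ?_⟩
        refine (coneDiff_toY φ r hr hrj i _).trans ?_
        show dW φ i ((z : (EA.X (i + 1)).carrier), 0) = (0, φ.φ (i + 1) z)
        rw [dW_apply, show EA.d (i + 1) (z : (EA.X (i + 1)).carrier) = 0 from z.2.2, neg_zero, map_zero, zero_add]
  have hexC : ∀ i, LinearMap.ker (Δ i) = LinearMap.range (Β i) := by
    intro i
    refine le_antisymm (fun y hy => ?_) ?_
    · obtain ⟨z, hz, hzy⟩ := y.2
      have h1 : EA.toH a (i + 1) ⟨δ i z, hδc i z z.2⟩ = 0 := by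
        rw [← hmapH_toH a EK EA (δ i) (hδc i) (hδb i), hzy]
        exact congrArg Subtype.val (LinearMap.mem_ker.1 hy)
      obtain ⟨p', hp', hpg, hpp⟩ := exists_of_mem_cobdy EA a ((mk_H_eq_zero a EA _).1 h1) (hδg i z hz)
      let w := toW r hr i (z : (EK.X i).carrier)
      have hwd : dW φ i (w.1, w.2) = 0 := (dW_toW φ r hr i _).trans z.2.2
      rw [dW_apply] at hwd
      let q := w.2 + φ.φ i p'
      have hqc : q ∈ EB.cocyc a i := by
        refine ⟨Submodule.add_mem _ (map_mem_gam (LinearMap.snd R _ _) (map_mem_gam (toW r hr i) z.2.1)) (map_mem_gam _ hpg), ?_⟩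
        show EB.d i (w.2 + φ.φ i p') = 0
        rw [map_add, ← φ.comm, hpp]
        exact congrArg Prod.snd hwd
      refine ⟨⟨EB.toH a i ⟨q, hqc⟩, ⟨q, hqc⟩, add_mem (toW_grHom r hr i e _ hz).2 (φ.gr i e _ hp'), rfl⟩, Subtype.ext ?_⟩
      refine (hmapH_toH a EB EK (β i) (hβc i) (hβb i) _).trans (Eq.trans ?_ hzy)
      refine (toH_eq_iff a EK _ _).2 ?_
      let zz : (coneX r hr i).carrier := (z : (EK.X i).carrier)
      show toY φ r hr hrj i (0, q) - zz ∈ EK.cobdy a i
      rw [show toY φ r hr hrj i (0, q) - zz = toY φ r hr hrj i (-(EA.d i p'), φ.φ i p') from by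
        refine (congrArg (toY φ r hr hrj i (0, q) - ·) (toY_toW φ r hr hrj i zz).symm).trans ?_
        refine (map_sub _ _ _).symm.trans (congrArg _ ?_)
        refine Prod.ext ?_ ?_
        · show 0 - w.1 = -(EA.d i p')
          rw [hpp, zero_sub]
          rfl
        · show w.2 + φ.φ i p' - w.2 = φ.φ i p'
          abel]
      cases i with
      | zero => rw [← jW_apply φ p', toY_jW]; exact Submodule.zero_mem _
      | succ i =>
        refine ⟨toY φ r hr hrj i (p', 0), map_mem_gam _ (mem_gam_prod a hpg (Submodule.zero_mem _)), ?_⟩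
        refine (coneDiff_toY φ r hr hrj i _).trans ?_
        show dW φ i (p', 0) = (-(EA.d (i + 1) p'), φ.φ (i + 1) p')
        rw [dW_apply, map_zero, zero_add]
    · rintro _ ⟨y, rfl⟩
      obtain ⟨z, hz, hzy⟩ := y.2
      refine Subtype.ext ?_
      show hmapH a EK EA (δ i) (hδc i) (hδb i) (hmapH a EB EK (β i) (hβc i) (hβb i) (y : EB.H a i)) = 0
      rw [← hzy, hmapH_toH, hmapH_toH]
      refine (mk_H_eq_zero a EA _).2 ?_
      show fstW r hr i (toY φ r hr hrj i (0, (z : (EB.X i).carrier))) ∈ EA.cobdy a (i + 1)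
      cases i with
      | zero =>
        refine ⟨r (0, (z : (EB.X 0).carrier)), map_mem_gam r (mem_gam_prod a (Submodule.zero_mem _) z.2.1), ?_⟩
        have h4 := congrArg Prod.fst (incY0_prY0 φ r hr hrj ((0, (z : (EB.X 0).carrier)) : (W EA EB 0).carrier))
        refine Eq.trans ?_ h4.symm
        show EA.d 0 (r (0, (z : (EB.X 0).carrier))) = 0 - -(EA.d 0 (r (0, (z : (EB.X 0).carrier))))
        rw [zero_sub, neg_neg]
      | succ i => exact Submodule.zero_mem _
  have hexA : ∀ i, LinearMap.ker (Α (i + 1)) = LinearMap.range (Δ i) := by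
    intro i
    refine le_antisymm (fun y hy => ?_) ?_
    · obtain ⟨z, hz, hzy⟩ := y.2
      have h1 : EB.toH a (i + 1) ⟨φ.φ (i + 1) z, φ.map_cocyc a z.2⟩ = 0 := by
        rw [← hmapH_toH a EA EB (φ.φ (i + 1)) (fun z hz => φ.map_cocyc a hz) (fun z hz => φ.map_cobdy a hz), hzy]
        exact congrArg Subtype.val (LinearMap.mem_ker.1 hy)
      obtain ⟨w, hw, hwg, hwd⟩ := exists_of_mem_cobdy EB a ((mk_H_eq_zero a EB _).1 h1) (φ.gr (i + 1) e z hz)
      let X : (W EA EB i).carrier := ((z : (EA.X (i + 1)).carrier), -w)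
      have hX : dW φ i X = 0 := by
        rw [dW_apply]
        refine Prod.ext (neg_eq_zero.2 z.2.2) ?_
        show EB.d i (-w) + φ.φ (i + 1) (z : (EA.X (i + 1)).carrier) = 0
        rw [map_neg, hwd]
        exact neg_add_cancel _
      have hXg : X ∈ (W EA EB i).gr e := ⟨hz, ((EB.X i).gr e).neg_mem hw⟩
      have hXt : X ∈ GrLC.gam a.toIdeal (W EA EB i).carrier := mem_gam_prod a z.2.1 (Submodule.neg_mem _ hwg)
      let v : EK.cocyc a i := ⟨toY φ r hr hrj i X, map_mem_gam _ hXt, (coneDiff_toY φ r hr hrj i X).trans hX⟩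
      refine ⟨⟨EK.toH a i v, v, toY_grHom φ r hr hrj i e X hXg, rfl⟩, Subtype.ext ?_⟩
      refine (hmapH_toH a EK EA (δ i) (hδc i) (hδb i) _).trans (Eq.trans ?_ hzy)
      refine (toH_eq_iff a EA _ _).2 ?_
      show fstW r hr i (toY φ r hr hrj i X) - (z : (EA.X (i + 1)).carrier) ∈ EA.cobdy a (i + 1)
      cases i with
      | zero =>
        refine ⟨r X, map_mem_gam r hXt, ?_⟩
        have h5 := congrArg Prod.fst (incY0_prY0 φ r hr hrj X)
        refine (Eq.trans ?_ (congrArg (fun t : (EA.X (0 + 1)).carrier => t - (z : (EA.X (0 + 1)).carrier)) h5).symm)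
        exact (show EA.d 0 (r X) = (z : (EA.X (0 + 1)).carrier) - (-(EA.d 0 (r X))) - (z : (EA.X (0 + 1)).carrier) by abel)
      | succ i =>
        rw [show fstW r hr (i + 1) (toY φ r hr hrj (i + 1) X) = (z : (EA.X (i + 1 + 1)).carrier) from rfl, sub_self]
        exact Submodule.zero_mem _
    · rintro _ ⟨y, rfl⟩
      obtain ⟨z, hz, hzy⟩ := y.2
      refine Subtype.ext ?_
      show hmapH a EA EB (φ.φ (i + 1)) (fun z hz => φ.map_cocyc a hz) (fun z hz => φ.map_cobdy a hz)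
        (hmapH a EK EA (δ i) (hδc i) (hδb i) (y : EK.H a i)) = 0
      rw [← hzy, hmapH_toH, hmapH_toH]
      refine (mk_H_eq_zero a EB _).2 ?_
      let w := toW r hr i (z : (EK.X i).carrier)
      have hwd : dW φ i (w.1, w.2) = 0 := (dW_toW φ r hr i _).trans z.2.2
      rw [dW_apply] at hwd
      refine ⟨-w.2, Submodule.neg_mem _ (map_mem_gam (LinearMap.snd R _ _) (map_mem_gam (toW r hr i) z.2.1)), ?_⟩
      rw [map_neg]
      exact neg_eq_of_add_eq_zero_right (congrArg Prod.snd hwd)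
  have hinj : LinearMap.ker (Α 0) = ⊥ := by
    refine LinearMap.ker_eq_bot'.2 fun y hy => ?_
    obtain ⟨z, hz, hzy⟩ := y.2
    have h1 : EB.toH a 0 ⟨φ.φ 0 z, φ.map_cocyc a z.2⟩ = 0 := by
      rw [← hmapH_toH a EA EB (φ.φ 0) (fun z hz => φ.map_cocyc a hz) (fun z hz => φ.map_cobdy a hz), hzy]
      exact congrArg Subtype.val hy
    have h2 := (Submodule.mem_bot R).1 ((mk_H_eq_zero a EB _).1 h1)
    obtain ⟨m, hm⟩ : (z : (EA.X 0).carrier) ∈ LinearMap.range EA.ε := by rw [← EA.exact_zero]; exact z.2.2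
    simp only at h2
    rw [← hm, φ.ε] at h2
    have hm0 : m = 0 := hs.inj ((EB.ε_injective (h2.trans (map_zero _).symm)).trans (map_zero f).symm)
    refine Subtype.ext (hzy.symm.trans ((mk_H_eq_zero a EA z).2 ?_))
    rw [← hm, hm0, map_zero]
    exact Submodule.zero_mem _
  haveI := hA
  haveI := hB
  refine alternating_sum_eq (fun i => len (GrLC.deg0 𝒜) (EA.Hcomp a i e)) (fun i => len (GrLC.deg0 𝒜) (EB.Hcomp a i e))
    (fun i => len (GrLC.deg0 𝒜) (EK.Hcomp a i e)) (fun i => len (GrLC.deg0 𝒜) (LinearMap.ker (Α i)))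
    (fun i => len (GrLC.deg0 𝒜) (LinearMap.range (Α i))) (fun i => len (GrLC.deg0 𝒜) (LinearMap.range (Β i)))
    (fun i => len (GrLC.deg0 𝒜) (LinearMap.range (Δ i))) (fun i _ => len_eq_ker_add_range (Α i)) (fun i _ => ?_)
    (fun i _ => ?_) ?_ (fun i _ => ?_) ?_
  · exact (len_eq_ker_add_range (Β i)).trans (congrArg (· + _) (len_congr (LinearEquiv.ofEq _ _ (hexB i))))
  · exact (len_eq_ker_add_range (Δ i)).trans (congrArg (· + _) (len_congr (LinearEquiv.ofEq _ _ (hexC i))))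
  · haveI : Subsingleton (LinearMap.ker (Α 0)) := by rw [hinj]; infer_instance
    exact len_eq_zero_of_subsingleton
  · exact len_congr (LinearEquiv.ofEq _ _ (hexA i))
  · haveI : Subsingleton (EA.Hcomp a (d + 1) e) := by
      rw [(hcomp_eq_bot_iff EA a (d + 1) e).2 htop]
      infer_instance
    exact len_eq_zero_of_subsingleton

end SESMaps

end Groth.Agent.GrLCLib
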