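import Groth.Agent.GrLCLib.EndDeg
import Groth.Agent.GrLCLib.Koszul

/-!
Regularity along a quasi-regular linear form; the diagonal criterion.
-/

set_option autoImplicit false
set_option linter.unusedSectionVars false
set_option linter.style.haveILetI false
universe u

open scoped Classical
open DirectSum

noncomputable section

namespace Groth.Agent.GrLCLib

variable {k : Type u} [Field k] {n : ℕ}
variable {M : Type u} [AddCommGroup M] [Module k M] [Module (MvPolynomial (Fin n) k) M]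
  [IsScalarTower k (MvPolynomial (Fin n) k) M]
  {ℳ : ℤ → Submodule k M} [hdec : DirectSum.Decomposition ℳ] [hgs : SetLike.GradedSMul (GrSyz.stdGr k (Fin n)) ℳ]

/-- Vanishing of `H^0` above `d` and of `H^i` in degree `d - i + 1`. -/
def DiagLE (E : GrLC.StarInjRes (GrSyz.stdGr k (Fin n)) ℳ) (d : ℤ) : Prop :=
  (∀ e, d < e → Van E (GrSyz.irrel (GrSyz.stdGr k (Fin n))) 0 e) ∧
    ∀ i : ℕ, 0 < i → Van E (GrSyz.irrel (GrSyz.stdGr k (Fin n))) i (d - i + 1)

lemma irrel_eq_span_X : (GrSyz.irrel (GrSyz.stdGr k (Fin n))).toIdeal =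
    Ideal.span (Set.range fun j : Fin n => (MvPolynomial.X j : MvPolynomial (Fin n) k)) := by
  rw [← GrSyzMin.ofList_vars]
  refine congrArg (Ideal.span (α := MvPolynomial (Fin n) k)) (Set.ext fun y => ?_)
  simp only [GrSyzMin.vars, List.mem_ofFn, Set.mem_ofPred_eq, Set.mem_range]

theorem diagLE_iff_vanLE (E : GrLC.StarInjRes (GrSyz.stdGr k (Fin n)) ℳ) (d : ℤ) : DiagLE E d ↔ VanLE E d := by
  refine ⟨fun h i e hie => ?_, fun h => ⟨fun e he => h 0 e (by omega), fun i _ => h i _ (by omega)⟩⟩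
  rcases Nat.eq_zero_or_pos i with rfl | hi
  · exact h.1 e (by omega)
  · have := van_above_diag ℳ (GrSyz.irrel (GrSyz.stdGr k (Fin n))) (fun j => GrSyzMin.X_mem (k := k) j) irrel_eq_span_X E
      le_rfl (c := d + 1) (fun j hj => by
        have h1 := h.2 j hj
        rwa [show d - (j : ℤ) + 1 = d + 1 - j by ring] at h1) (e + i) (by omega) i hi
    rwa [add_sub_cancel_right] at this

theorem diagLE_iff_endDeg (E : GrLC.StarInjRes (GrSyz.stdGr k (Fin n)) ℳ) (d : ℤ) :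
    (GrLC.endDeg (E.Hgr (GrSyz.irrel (GrSyz.stdGr k (Fin n))) 0) ≤ ((d : WithTop ℤ) : WithBot (WithTop ℤ)) ∧
      ∀ i : ℕ, 0 < i → E.Hcomp (GrSyz.irrel (GrSyz.stdGr k (Fin n))) i (d - (i : ℤ) + 1) = ⊥) ↔ DiagLE E d :=
  and_congr (endDeg_le_iff E _ 0 d) (forall₂_congr fun i _ => hcomp_eq_bot_iff E _ i _)

lemma vanLE_iff_split [Module.Finite (MvPolynomial (Fin n) k) M] (E : GrLC.StarInjRes (GrSyz.stdGr k (Fin n)) ℳ)
    (EQ : letI := GrSyzMin.quotDec ℳ (tors k n M) (homog_tors ℳ); GrLC.StarInjRes (GrSyz.stdGr k (Fin n)) (GrSyzMin.quotGr ℳ (tors k n M)))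
    (d : ℤ) : VanLE E d ↔ TorsLE ℳ n d ∧ (letI := GrSyzMin.quotDec ℳ (tors k n M) (homog_tors ℳ); VanLE EQ d) := by
  letI := GrSyzMin.quotDec ℳ (tors k n M) (homog_tors ℳ)
  constructor
  · refine fun h => ⟨(van_zero_iff_torsLE E d).1 fun e he => h 0 e (by omega), fun i e hie => ?_⟩
    cases i with
    | zero => exact (van_zero_iff EQ _ e).2 fun y _ hy => torsionFree_quot y hy
    | succ i => exact (van_succ_iff_quot E EQ i e).1 (h (i + 1) e hie)
  · rintro ⟨hT, h⟩ i e hie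
    cases i with
    | zero => exact (van_zero_iff_torsLE E d).2 hT e (by simpa using hie)
    | succ i => exact (van_succ_iff_quot E EQ i e).2 (h (i + 1) e hie)

section QR

variable {x : MvPolynomial (Fin n) k} (hx : x ∈ GrSyz.stdGr k (Fin n) 1)
  (hq : IsFiniteLength (MvPolynomial (Fin n) k) ↥(Submodule.torsionBy (MvPolynomial (Fin n) k) M x))

variable (ℳ) in
include hx in
lemma homog_torsionBy : GrSyzMin.Homog ℳ (Submodule.torsionBy (MvPolynomial (Fin n) k) M x) := fun y hy e => by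
  rw [Submodule.mem_torsionBy_iff] at hy ⊢
  have h1 := pr_smul (GrSyz.stdGr k (Fin n)) ℳ hx (e + 1) y
  rw [hy, map_zero, add_sub_cancel_right] at h1
  exact h1.symm

variable (ℳ) in
include ℳ hdec hgs hx hq in
lemma torsionBy_le_tors : Submodule.torsionBy (MvPolynomial (Fin n) k) M x ≤ tors k n M := by
  letI := GrSyzMin.subDec ℳ _ (homog_torsionBy ℳ hx)
  obtain ⟨b, hb⟩ := GrSyzMin.exists_upper_bound
    (GrSyzMin.subGr ℳ (Submodule.torsionBy (MvPolynomial (Fin n) k) M x)) hq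
  intro y hy
  refine mem_of_pr_mem ℳ fun e => (mem_gam_irrel_iff _).2 fun j _ => ?_
  let z : Submodule.torsionBy (MvPolynomial (Fin n) k) M x := ⟨pr ℳ e y, homog_torsionBy ℳ hx y hy e⟩
  refine ⟨(b - e).toNat, ?_⟩
  have hmem : (MvPolynomial.X j : MvPolynomial (Fin n) k) ^ (b - e).toNat • z ∈
      GrSyzMin.subGr ℳ (Submodule.torsionBy (MvPolynomial (Fin n) k) M x) (((b - e).toNat : ℕ) • (1 : ℤ) + e) :=
    smul_mem (GrSyz.stdGr k (Fin n)) (GrSyzMin.subGr ℳ _) (SetLike.pow_mem_graded _ (GrSyzMin.X_mem (k := k) j))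
      (show (z : M) ∈ ℳ e from pr_mem ℳ e y)
  rw [hb _ (by rw [nsmul_eq_mul, mul_one]; omega), Submodule.mem_bot] at hmem
  exact congrArg Subtype.val hmem

variable [Module.Finite (MvPolynomial (Fin n) k) M]

variable (ℳ) in
include ℳ hdec hgs hx hq in
lemma isSMulRegular_quot_tors : IsSMulRegular (M ⧸ tors k n M) x := by
  refine IsSMulRegular.of_right_eq_zero_of_smul fun q hxq => ?_
  obtain ⟨y, rfl⟩ := Submodule.Quotient.mk_surjective _ q
  rw [← Submodule.Quotient.mk_smul, Submodule.Quotient.mk_eq_zero] at hxq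
  obtain ⟨N, hN⟩ := hxq
  refine torsionFree_quot _ ⟨N, fun r hr => ?_⟩
  rw [← Submodule.Quotient.mk_smul, Submodule.Quotient.mk_eq_zero]
  exact torsionBy_le_tors ℳ hx hq ((Submodule.mem_torsionBy_iff x (r • y)).2 (by rw [smul_comm]; exact hN r hr))

variable {N : Type u} [AddCommGroup N] [Module k N] [Module (MvPolynomial (Fin n) k) N]
  [IsScalarTower k (MvPolynomial (Fin n) k) N]
  {𝒩 : ℤ → Submodule k N} [DirectSum.Decomposition 𝒩] [SetLike.GradedSMul (GrSyz.stdGr k (Fin n)) 𝒩]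
  {π : M →ₗ[MvPolynomial (Fin n) k] N} (hπ : Function.Surjective π) (hπg : GrLC.IsGrHom ℳ 𝒩 π)
  (hker : LinearMap.ker π = LinearMap.range (x • (LinearMap.id : M →ₗ[MvPolynomial (Fin n) k] M)))
  (E : GrLC.StarInjRes (GrSyz.stdGr k (Fin n)) ℳ) (E' : GrLC.StarInjRes (GrSyz.stdGr k (Fin n)) 𝒩)

include hx hq hπ hπg hker in
theorem van_quot {i : ℕ} {e : ℤ} (h0 : Van E (GrSyz.irrel (GrSyz.stdGr k (Fin n))) i e)
    (h1 : Van E (GrSyz.irrel (GrSyz.stdGr k (Fin n))) (i + 1) (e - 1)) :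
    Van E' (GrSyz.irrel (GrSyz.stdGr k (Fin n))) i e := by
  let a := GrSyz.irrel (GrSyz.stdGr k (Fin n))
  let f := x • (LinearMap.id : M →ₗ[MvPolynomial (Fin n) k] M)
  letI := shiftDec ℳ (-1)
  have hfg : GrLC.IsGrHom (shiftPiece ℳ (-1)) ℳ f := fun g y hy => by
    have h2 := smul_mem (GrSyz.stdGr k (Fin n)) ℳ hx (mem_shiftPiece.1 hy)
    rwa [show (1 : ℤ) + (g + -1) = g by ring] at h2
  letI : DirectSum.Decomposition (agPiece ℳ) := (isInternal_agPiece ℳ).chooseDecomposition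
  have hT : Homog (shiftPiece ℳ (-1)) (LinearMap.ker f) := homog_ker (shiftPiece ℳ (-1)) ℳ hfg
  have hK : Homog (agPiece ℳ) (LinearMap.range f) := homog_range (shiftPiece ℳ (-1)) (agPiece ℳ) hfg
  let T := subObj (GrSyz.stdGr k (Fin n)) (shiftPiece ℳ (-1)) (LinearMap.ker f) hT
  let K := subObj (GrSyz.stdGr k (Fin n)) (agPiece ℳ) (LinearMap.range f) hK
  obtain ⟨ET⟩ := nonempty_starInjRes (GrSyz.stdGr k (Fin n)) T.gr
  obtain ⟨EK⟩ := nonempty_starInjRes (GrSyz.stdGr k (Fin n)) K.gr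
  let ιT : T.carrier →ₗ[MvPolynomial (Fin n) k] M := (LinearMap.ker f).subtype
  let πK : M →ₗ[MvPolynomial (Fin n) k] K.carrier := f.rangeRestrict
  let ιK : K.carrier →ₗ[MvPolynomial (Fin n) k] M := (LinearMap.range f).subtype
  have hs2 : IsSES T.gr (shiftPiece ℳ (-1)) K.gr ιT πK :=
    ⟨Submodule.injective_subtype _, LinearMap.surjective_rangeRestrict _,
      (Submodule.range_subtype _).trans (LinearMap.ker_rangeRestrict _).symm, fun _ _ hy => hy, hfg⟩
  have hs1 : IsSES K.gr ℳ 𝒩 ιK π :=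
    ⟨Submodule.injective_subtype _, hπ, (Submodule.range_subtype _).trans hker.symm, fun _ _ hy => hy, hπg⟩
  have hTt : GrLC.gam a.toIdeal T.carrier = ⊤ := eq_top_iff.2 fun y _ =>
    mem_gam_of_injective (f := ιT) (Submodule.injective_subtype _)
      (torsionBy_le_tors ℳ hx hq ((Submodule.mem_torsionBy_iff x _).2 y.2))
  refine van_right hs1 EK E E' a h0 (van_right hs2 ET (shiftRes E (-1)) EK a ?_ (van_succ_of_gam_eq_top ET a hTt _ _))
  exact (van_shiftRes_iff E (-1) a (i + 1) e).2 (by rwa [← sub_eq_add_neg])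

include hx hq hπ hπg hker in
theorem vanLE_quot {d : ℤ} (h : VanLE E d) : VanLE E' d :=
  fun i e hie => van_quot hx hq hπ hπg hker E E' (h i e hie) (h (i + 1) (e - 1) (by push_cast; omega))

include hx hq hπ hπg hker in
theorem vanLE_of_quot {d : ℤ} (hN : VanLE E' d) (hT : TorsLE ℳ n d) : VanLE E d := by
  letI := GrSyzMin.quotDec ℳ (tors k n M) (homog_tors ℳ)
  obtain ⟨EQ⟩ := nonempty_starInjRes (GrSyz.stdGr k (Fin n)) (GrSyzMin.quotGr ℳ (tors k n M))
  refine (vanLE_iff_split E EQ d).2 ⟨hT, ?_⟩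
  have hx' : x ∈ GrSyz.stdGr k (Fin n) ((1 : ℕ) : ℤ) := by simpa using hx
  letI := xDec (GrSyzMin.quotGr ℳ (tors k n M)) hx'
  let L := LinearMap.range (x • (LinearMap.id : (M ⧸ tors k n M) →ₗ[MvPolynomial (Fin n) k] (M ⧸ tors k n M)))
  obtain ⟨EL⟩ := nonempty_starInjRes (GrSyz.stdGr k (Fin n)) (GrSyzMin.quotGr (GrSyzMin.quotGr ℳ (tors k n M)) L)
  refine (vanLE_iff_xQuot one_pos hx' (isSMulRegular_quot_tors ℳ hx hq) torsionFree_quot EQ EL d).2 ?_
  let ψ : M →ₗ[MvPolynomial (Fin n) k] ((M ⧸ tors k n M) ⧸ L) := L.mkQ ∘ₗ (tors k n M).mkQ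
  have hle : LinearMap.ker π ≤ LinearMap.ker ψ := by
    rw [hker]
    rintro _ ⟨y, rfl⟩
    exact (Submodule.Quotient.mk_eq_zero L).2 ⟨Submodule.Quotient.mk y, rfl⟩
  let θ : N →ₗ[MvPolynomial (Fin n) k] ((M ⧸ tors k n M) ⧸ L) :=
    (LinearMap.ker π).liftQ ψ hle ∘ₗ (π.quotKerEquivOfSurjective hπ).symm.toLinearMap
  have hθ : ∀ y, θ (π y) = ψ y := fun y => by
    have : (π.quotKerEquivOfSurjective hπ).symm (π y) = Submodule.Quotient.mk y :=
      (LinearEquiv.symm_apply_eq _).2 (by rfl)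
    show (LinearMap.ker π).liftQ ψ hle ((π.quotKerEquivOfSurjective hπ).symm (π y)) = _
    rw [this]
    rfl
  have hθg : GrLC.IsGrHom 𝒩 (GrSyzMin.quotGr (GrSyzMin.quotGr ℳ (tors k n M)) L) θ := fun e z hz => by
    obtain ⟨y, hy, rfl⟩ := exists_preimage ℳ 𝒩 hπg hz (LinearMap.range_eq_top.2 hπ ▸ Submodule.mem_top)
    rw [hθ]
    exact GrSyzMin.mk_mem_quotGr (GrSyzMin.mk_mem_quotGr hy)
  have hθs : Function.Surjective θ := fun z => by
    obtain ⟨q, rfl⟩ := Submodule.mkQ_surjective L z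
    obtain ⟨y, rfl⟩ := Submodule.mkQ_surjective (tors k n M) q
    exact ⟨π y, hθ y⟩
  letI : DirectSum.Decomposition (agPiece 𝒩) := (isInternal_agPiece 𝒩).chooseDecomposition
  let A := subObj (GrSyz.stdGr k (Fin n)) (agPiece 𝒩) (LinearMap.ker θ)
    (homog_ker (agPiece 𝒩) (GrSyzMin.quotGr (GrSyzMin.quotGr ℳ (tors k n M)) L) hθg)
  let ιA : A.carrier →ₗ[MvPolynomial (Fin n) k] N := (LinearMap.ker θ).subtype
  obtain ⟨EA⟩ := nonempty_starInjRes (GrSyz.stdGr k (Fin n)) A.gr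
  have hs : IsSES A.gr 𝒩 (GrSyzMin.quotGr (GrSyzMin.quotGr ℳ (tors k n M)) L) ιA θ :=
    ⟨Submodule.injective_subtype _, hθs, Submodule.range_subtype _, fun _ _ hy => hy, hθg⟩
  have hA : GrLC.gam (GrSyz.irrel (GrSyz.stdGr k (Fin n))).toIdeal A.carrier = ⊤ := eq_top_iff.2 fun z _ => by
    refine mem_gam_of_injective (f := ιA) (Submodule.injective_subtype _) ?_
    obtain ⟨y, hy⟩ := hπ (ιA z)
    have h0 : ψ y = 0 := by
      rw [← hθ, hy]
      exact z.2
    obtain ⟨q, hq'⟩ := (Submodule.Quotient.mk_eq_zero L).1 h0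
    obtain ⟨w, rfl⟩ := Submodule.mkQ_surjective (tors k n M) q
    have ht : y - x • w ∈ tors k n M := (Submodule.Quotient.eq _).1 hq'.symm
    have hxw : π (x • w) = 0 := by
      rw [← LinearMap.mem_ker, hker]
      exact ⟨w, rfl⟩
    have h2 := map_mem_gam π ht
    rwa [map_sub, hxw, sub_zero, hy] at h2
  intro i e hie
  exact van_right hs EA E' EL _ (hN i e (by push_cast at hie; omega))
    (van_succ_of_gam_eq_top EA _ hA _ _)

include hx hq hπ hπg hker in
theorem vanLE_iff_quot {d : ℤ} : VanLE E d ↔ TorsLE ℳ n d ∧ VanLE E' d :=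
  ⟨fun h => ⟨(van_zero_iff_torsLE E d).1 fun e he => h 0 e (by omega), vanLE_quot hx hq hπ hπg hker E E' h⟩,
    fun h => vanLE_of_quot hx hq hπ hπg hker E E' h.2 h.1⟩

end QR

end Groth.Agent.GrLCLib
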