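import Groth.Agent.GrLCLib.Split
import Groth.Agent.GrLCLib.Avoid
import Groth.Agent.GrSyzMin.Hilbert

/-!
Regularity is read off from the vanishing of graded local cohomology.
-/

set_option autoImplicit false
set_option linter.unusedSectionVars false
set_option linter.style.haveILetI false
universe u

open scoped Classical
open DirectSum

noncomputable section

namespace Groth.Agent.GrLCLib

variable {k : Type u} [Field k] {n : ℕ}

variable {M : Type u} [AddCommGroup M] [Module k M] [Module (MvPolynomial (Fin n) k) M]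
  [IsScalarTower k (MvPolynomial (Fin n) k) M]
  {ℳ : ℤ → Submodule k M} [DirectSum.Decomposition ℳ] [SetLike.GradedSMul (GrSyz.stdGr k (Fin n)) ℳ]

/-- `H^i` vanishes in degrees above `d - i`. -/
def VanLE (E : GrLC.StarInjRes (GrSyz.stdGr k (Fin n)) ℳ) (d : ℤ) : Prop :=
  ∀ (i : ℕ) (e : ℤ), d < e + i → Van E (GrSyz.irrel (GrSyz.stdGr k (Fin n))) i e

lemma vanLE_congr (E E' : GrLC.StarInjRes (GrSyz.stdGr k (Fin n)) ℳ) {d : ℤ} (h : VanLE E d) : VanLE E' d :=
  fun i e hie => van_congr E E' _ i e (h i e hie)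

variable (ℳ) in
lemma isRegLE_mono {d d' : ℤ} (hdd : d ≤ d')
    (h : GrSyz.IsRegLE (GrSyz.stdGr k (Fin n)) ℳ (GrSyz.irrel (GrSyz.stdGr k (Fin n))).toIdeal d) :
    GrSyz.IsRegLE (GrSyz.stdGr k (Fin n)) ℳ (GrSyz.irrel (GrSyz.stdGr k (Fin n))).toIdeal d' := by
  obtain ⟨F, hF, hFd⟩ := h
  exact ⟨F, hF, fun i b => (hFd i b).trans (by omega)⟩

variable (ℳ) in
lemma exists_isRegLE [Module.Finite (MvPolynomial (Fin n) k) M] :
    ∃ r, GrSyz.IsRegLE (GrSyz.stdGr k (Fin n)) ℳ (GrSyz.irrel (GrSyz.stdGr k (Fin n))).toIdeal r := by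
  obtain ⟨F, hF⟩ := GrSyzMin.exists_minimal (n := n) ℳ
  obtain ⟨r, hr⟩ := (Set.finite_range (fun p : (i : Fin (n + 1)) × Fin (F.rk i) => F.deg p.1 p.2 - p.1)).bddAbove
  refine ⟨r, F, hF, fun i b => ?_⟩
  by_cases hi : i ≤ n
  · have : F.deg i b - i ≤ r := hr ⟨⟨⟨i, by omega⟩, b⟩, rfl⟩
    omega
  · have := GrSyzMin.hasLengthLE_numVars hF i (by omega)
    exact absurd b.isLt (by omega)

/-- The cokernel of multiplication by a homogeneous element. -/
abbrev xQuot (M : Type u) [AddCommGroup M] [Module (MvPolynomial (Fin n) k) M] (x : MvPolynomial (Fin n) k) : Type u :=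
  M ⧸ LinearMap.range (x • (LinearMap.id : M →ₗ[MvPolynomial (Fin n) k] M))

section Step

variable {x : MvPolynomial (Fin n) k} {m : ℕ} (hm : 0 < m) (hx : x ∈ GrSyz.stdGr k (Fin n) m)
  (hreg : IsSMulRegular M x)

variable (ℳ) in
/-- The decomposition of the cokernel. -/
@[instance_reducible]
def xDec : DirectSum.Decomposition (GrSyzMin.quotGr ℳ (LinearMap.range (x • (LinearMap.id : M →ₗ[MvPolynomial (Fin n) k] M)))) :=
  GrSyzMin.quotDec ℳ _ (GrSyzMin.homog_smul_top hx)

include hx hreg in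
lemma isSES_x : letI := shiftDec ℳ (-(m : ℤ)); letI := xDec ℳ hx
    IsSES (shiftPiece ℳ (-(m : ℤ))) ℳ (GrSyzMin.quotGr ℳ (LinearMap.range (x • (LinearMap.id : M →ₗ[MvPolynomial (Fin n) k] M))))
      (x • (LinearMap.id : M →ₗ[MvPolynomial (Fin n) k] M)) (LinearMap.range (x • (LinearMap.id : M →ₗ[MvPolynomial (Fin n) k] M))).mkQ :=
  ⟨fun _ _ h => hreg h, Submodule.mkQ_surjective _, (Submodule.ker_mkQ _).symm,
    fun g y hy => by
      have h1 := smul_mem (GrSyz.stdGr k (Fin n)) ℳ hx (mem_shiftPiece.1 hy)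
      rwa [show (m : ℤ) + (g + -(m : ℤ)) = g by ring] at h1,
    fun _ _ hy => GrSyzMin.mk_mem_quotGr hy⟩

variable [Module.Finite (MvPolynomial (Fin n) k) M]

include hm hx hreg in
theorem isRegLE_iff_xQuot (d : ℤ) :
    GrSyz.IsRegLE (GrSyz.stdGr k (Fin n)) ℳ (GrSyz.irrel (GrSyz.stdGr k (Fin n))).toIdeal d ↔
      (letI := xDec ℳ hx; GrSyz.IsRegLE (GrSyz.stdGr k (Fin n))
        (GrSyzMin.quotGr ℳ (LinearMap.range (x • (LinearMap.id : M →ₗ[MvPolynomial (Fin n) k] M))))
        (GrSyz.irrel (GrSyz.stdGr k (Fin n))).toIdeal (d + m - 1)) := by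
  letI := xDec ℳ hx
  let 𝒩 := GrSyzMin.quotGr ℳ (LinearMap.range (x • (LinearMap.id : M →ₗ[MvPolynomial (Fin n) k] M)))
  have hfd : GrLC.IsGrHomDeg ℳ ℳ (x • (LinearMap.id : M →ₗ[MvPolynomial (Fin n) k] M)) (m : ℤ) := fun e y hy => by
    rw [add_comm]; exact smul_mem (GrSyz.stdGr k (Fin n)) ℳ hx hy
  have hgr : ∀ (e : ℤ) (y : M), y ∈ ℳ e → Submodule.mkQ _ y ∈ 𝒩 e := fun _ _ hy => GrSyzMin.mk_mem_quotGr hy
  constructor
  · intro hd
    refine GrSyzMin.regLE_right ℳ ℳ 𝒩 hfd (fun _ _ h => hreg h) (Submodule.mkQ_surjective _)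
      (Submodule.ker_mkQ _).symm hgr _ (isRegLE_mono ℳ (by omega) hd) (isRegLE_mono ℳ (by omega) hd)
  · intro hN
    obtain ⟨r, hr⟩ := exists_isRegLE (n := n) ℳ
    have : ∀ j : ℕ, GrSyz.IsRegLE (GrSyz.stdGr k (Fin n)) ℳ (GrSyz.irrel (GrSyz.stdGr k (Fin n))).toIdeal (d + j) →
        GrSyz.IsRegLE (GrSyz.stdGr k (Fin n)) ℳ (GrSyz.irrel (GrSyz.stdGr k (Fin n))).toIdeal d := by
      intro j
      induction j with
      | zero => simp
      | succ j ih =>
        intro hj
        refine ih (GrSyzMin.regLE_left ℳ ℳ 𝒩 hfd (fun _ _ h => hreg h) (Submodule.mkQ_surjective _)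
          (Submodule.ker_mkQ _).symm hgr _ (isRegLE_mono ℳ (by omega) hj) (isRegLE_mono 𝒩 (by omega) hN))
    exact this (r - d).toNat (isRegLE_mono ℳ (by omega) hr)

include hm hx hreg in
theorem vanLE_iff_xQuot (htf : ∀ y ∈ tors k n M, y = 0) (E : GrLC.StarInjRes (GrSyz.stdGr k (Fin n)) ℳ)
    (EN : letI := xDec ℳ hx; GrLC.StarInjRes (GrSyz.stdGr k (Fin n))
      (GrSyzMin.quotGr ℳ (LinearMap.range (x • (LinearMap.id : M →ₗ[MvPolynomial (Fin n) k] M))))) (d : ℤ) :
    VanLE E d ↔ (letI := xDec ℳ hx; VanLE EN (d + m - 1)) := by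
  letI := xDec ℳ hx
  letI := shiftDec ℳ (-(m : ℤ))
  have hs := isSES_x (ℳ := ℳ) hx hreg
  let EA := shiftRes E (-(m : ℤ))
  have hA : ∀ i e, Van EA (GrSyz.irrel (GrSyz.stdGr k (Fin n))) i e ↔
      Van E (GrSyz.irrel (GrSyz.stdGr k (Fin n))) i (e + -(m : ℤ)) := fun i e => van_shiftRes_iff E _ _ i e
  constructor
  · intro h i e hie
    exact van_right hs EA E EN _ (h i e (by omega)) ((hA (i + 1) e).2 (h (i + 1) _ (by push_cast; omega)))
  · intro h i e hie
    cases i with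
    | zero => exact (van_zero_iff E _ e).2 fun y _ hy => htf y hy
    | succ i =>
      let φ : RMap EA E (x • (LinearMap.id : M →ₗ[MvPolynomial (Fin n) k] M)) :=
        { φ := fun i => x • (LinearMap.id : (E.X i).carrier →ₗ[MvPolynomial (Fin n) k] (E.X i).carrier)
          gr := fun i g y hy => by
            have h1 := smul_mem (GrSyz.stdGr k (Fin n)) (E.X i).gr hx
              (show y ∈ (E.X i).gr (g + -(m : ℤ)) from hy)
            rwa [show (m : ℤ) + (g + -(m : ℤ)) = g by ring] at h1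
          ε := fun y => (map_smul E.ε x y).symm
          comm := fun i y => (map_smul (E.d i) x y).symm }
      have key : ∀ (N : ℕ) (e : ℤ) (z : (E.X (i + 1)).carrier), d < e + (i + 1 : ℕ) → z ∈ (E.X (i + 1)).gr e →
          z ∈ E.cocyc (GrSyz.irrel (GrSyz.stdGr k (Fin n))) (i + 1) →
          x ^ N • z ∈ E.cobdy (GrSyz.irrel (GrSyz.stdGr k (Fin n))) (i + 1) →
          z ∈ E.cobdy (GrSyz.irrel (GrSyz.stdGr k (Fin n))) (i + 1) := by
        intro N
        induction N with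
        | zero => intro e z _ _ _ hz; simpa using hz
        | succ N ih =>
          intro e z he hz hzc hN
          have hxz : x • z ∈ (E.X (i + 1)).gr ((m : ℤ) + e) := smul_mem (GrSyz.stdGr k (Fin n)) (E.X (i + 1)).gr hx hz
          have h1 : x • z ∈ E.cobdy (GrSyz.irrel (GrSyz.stdGr k (Fin n))) (i + 1) :=
            ih _ _ (by omega) hxz (Submodule.smul_mem _ _ hzc) (by rwa [← mul_smul, ← pow_succ])
          exact mem_cobdy_left hs EA E EN _ (h i (e + m) (by push_cast at he; omega)) φ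
            (show z ∈ (E.X (i + 1)).gr (e + m + -(m : ℤ)) by rwa [add_neg_cancel_right]) hzc h1
      intro z hz hzc
      obtain ⟨N, hN⟩ := hzc.1
      refine key N e z hie hz hzc ?_
      rw [hN _ (Ideal.pow_mem_pow (show x ∈ (GrSyz.irrel (GrSyz.stdGr k (Fin n))).toIdeal from
        Ideal.subset_span ⟨(m : ℤ), by omega, hx⟩) N)]
      exact Submodule.zero_mem _

include hx in
lemma annihilator_lt (h0 : ∃ y : M, x • y ≠ 0) :
    Module.annihilator (MvPolynomial (Fin n) k) M <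
      Module.annihilator (MvPolynomial (Fin n) k) (xQuot M x) := by
  refine lt_of_le_of_ne (LinearMap.annihilator_le_of_surjective _ (Submodule.mkQ_surjective _)) fun he => ?_
  have hx' : x ∈ Module.annihilator (MvPolynomial (Fin n) k) (xQuot M x) := Module.mem_annihilator.2 fun q => by
    obtain ⟨y, rfl⟩ := Submodule.Quotient.mk_surjective _ q
    exact (Submodule.Quotient.mk_eq_zero _).2 ⟨y, rfl⟩
  obtain ⟨y, hy⟩ := h0
  rw [← he] at hx'
  exact hy (Module.mem_annihilator.1 hx' y)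

end Step

theorem vanLE_iff_isRegLE [Module.Finite (MvPolynomial (Fin n) k) M]
    (E : GrLC.StarInjRes (GrSyz.stdGr k (Fin n)) ℳ) (d : ℤ) :
    VanLE E d ↔ GrSyz.IsRegLE (GrSyz.stdGr k (Fin n)) ℳ (GrSyz.irrel (GrSyz.stdGr k (Fin n))).toIdeal d := by
  suffices H : ∀ (I : Ideal (MvPolynomial (Fin n) k)) (M : Type u) [AddCommGroup M] [Module k M]
      [Module (MvPolynomial (Fin n) k) M] [IsScalarTower k (MvPolynomial (Fin n) k) M]
      [Module.Finite (MvPolynomial (Fin n) k) M] (ℳ : ℤ → Submodule k M) [DirectSum.Decomposition ℳ]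
      [SetLike.GradedSMul (GrSyz.stdGr k (Fin n)) ℳ] (E : GrLC.StarInjRes (GrSyz.stdGr k (Fin n)) ℳ) (d : ℤ),
      Module.annihilator (MvPolynomial (Fin n) k) M = I →
      (VanLE E d ↔ GrSyz.IsRegLE (GrSyz.stdGr k (Fin n)) ℳ (GrSyz.irrel (GrSyz.stdGr k (Fin n))).toIdeal d) by
    exact H _ M ℳ E d rfl
  intro I
  induction I using IsNoetherian.induction with
  | hgt I ih =>
    intro M _ _ _ _ _ ℳ _ _ E d hI
    letI := GrSyzMin.quotDec ℳ (tors k n M) (homog_tors ℳ)
    obtain ⟨EQ⟩ := nonempty_starInjRes (GrSyz.stdGr k (Fin n)) (GrSyzMin.quotGr ℳ (tors k n M))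
    have h0 : ∀ e, Van EQ (GrSyz.irrel (GrSyz.stdGr k (Fin n))) 0 e := fun e =>
      (van_zero_iff EQ _ e).2 fun y _ hy => torsionFree_quot y hy
    have hsplit : VanLE E d ↔ TorsLE ℳ n d ∧ VanLE EQ d := by
      constructor
      · refine fun h => ⟨(van_zero_iff_torsLE E d).1 fun e he => h 0 e (by omega), fun i e hie => ?_⟩
        cases i with
        | zero => exact h0 e
        | succ i => exact (van_succ_iff_quot E EQ i e).1 (h (i + 1) e hie)
      · rintro ⟨hT, h⟩ i e hie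
        cases i with
        | zero => exact (van_zero_iff_torsLE E d).2 hT e (by simpa using hie)
        | succ i => exact (van_succ_iff_quot E EQ i e).2 (h (i + 1) e hie)
    rw [hsplit, isRegLE_iff_quot]
    refine and_congr_right fun _ => ?_
    rcases subsingleton_or_nontrivial (M ⧸ tors k n M) with hQ | hQ
    · refine iff_of_true (fun i e _ => ?_) (GrSyzMin.isRegLE_of_bound _ d fun e _ =>
        eq_bot_iff.2 fun y _ => (Submodule.mem_bot k).2 (Subsingleton.elim _ _))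
      cases i with
      | zero => exact h0 e
      | succ i => exact van_succ_of_torsion EQ (Subsingleton.elim _ _) i e
    · obtain ⟨m, x, hm, hx, hreg⟩ := exists_regular (k := k) (n := n) (M := M ⧸ tors k n M) torsionFree_quot
      letI := xDec (GrSyzMin.quotGr ℳ (tors k n M)) hx
      obtain ⟨EN⟩ := nonempty_starInjRes (GrSyz.stdGr k (Fin n))
        (GrSyzMin.quotGr (GrSyzMin.quotGr ℳ (tors k n M))
          (LinearMap.range (x • (LinearMap.id : (M ⧸ tors k n M) →ₗ[MvPolynomial (Fin n) k] (M ⧸ tors k n M)))))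
      rw [vanLE_iff_xQuot hm hx hreg torsionFree_quot EQ EN d, isRegLE_iff_xQuot hm hx hreg d]
      refine ih _ ?_ _ _ EN (d + m - 1) rfl
      rw [← hI]
      refine lt_of_le_of_lt (LinearMap.annihilator_le_of_surjective _ (Submodule.mkQ_surjective _)) (annihilator_lt hx ?_)
      obtain ⟨y, hy⟩ := exists_ne (0 : M ⧸ tors k n M)
      exact ⟨y, fun h => hy (hreg (show x • y = x • 0 by rw [h, smul_zero]))⟩

end Groth.Agent.GrLCLib
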