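import Groth.Agent.GrLCLib.AInv
import Groth.Agent.GrLCLib.MulRes
import Groth.Agent.LocH.Grothendieck

/-!
Regular sequences of linear forms over an infinite residue field.
-/

set_option autoImplicit false
set_option linter.unusedSectionVars false
set_option linter.style.haveILetI false
universe u

open scoped Classical Pointwise
open DirectSum

noncomputable section

namespace Groth.Agent.GrLCLib

variable {R : Type u} [CommRing R] [IsNoetherianRing R] {𝒜 : ℤ → AddSubgroup R} [GradedRing 𝒜]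
variable (hpos : ∀ n : ℤ, n < 0 → 𝒜 n = ⊥) {m : HomogeneousIdeal 𝒜} (hm : GrLC.IsStarLocal 𝒜 m)

include hm in
lemma isUnit_of_zero_notMem {u : R} (hu : u ∈ 𝒜 0) (hum : u ∉ m.toIdeal) : IsUnit u := by
  rw [← Ideal.span_singleton_eq_top]
  by_contra h
  exact hum (le_of_isHomogeneous hm (Ideal.homogeneous_span 𝒜 _ fun w hw => ⟨0, by rw [Set.mem_singleton_iff.1 hw]; exact hu⟩) h
    (Ideal.mem_span_singleton_self _))

include hpos hm in
theorem exists_linear_notMem (hinf : Infinite (R ⧸ m.toIdeal)) (S : Finset (Ideal R)) :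
    (∀ p ∈ S, p.IsPrime ∧ ∃ b ∈ 𝒜 1, b ∉ p) → ∃ x ∈ 𝒜 1, ∀ p ∈ S, x ∉ p := by
  induction S using Finset.induction_on with
  | empty => exact fun _ => ⟨0, zero_mem _, fun p hp => absurd hp (Finset.notMem_empty p)⟩
  | @insert q s _ ih =>
    intro hS
    obtain ⟨a, ha, has⟩ := ih fun p hp => hS p (Finset.mem_insert_of_mem hp)
    obtain ⟨hq, b, hb, hbq⟩ := hS q (Finset.mem_insert_self _ _)
    by_cases haq : a ∈ q
    swap
    · exact ⟨a, ha, fun p hp => (Finset.mem_insert.1 hp).elim (fun h => h ▸ haq) (has p)⟩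
    let π := Ideal.Quotient.mk m.toIdeal
    let cls : Ideal R → R ⧸ m.toIdeal := fun p =>
      if h : ∃ t : GrLC.deg0 𝒜, a + (t : R) * b ∈ p then π (h.choose : R) else 0
    obtain ⟨c, hc⟩ := Finset.exists_notMem (insert 0 (s.image cls))
    obtain ⟨y, rfl⟩ := Ideal.Quotient.mk_surjective c
    let t : GrLC.deg0 𝒜 := ⟨pr 𝒜 0 y, pr_mem 𝒜 0 y⟩
    have ht : π (t : R) = π y := (Ideal.Quotient.eq.2 (sub_pr_zero_mem hpos hm y)).symm
    have htb : (t : R) * b ∈ 𝒜 1 := by simpa using SetLike.mul_mem_graded (show (t : R) ∈ 𝒜 0 from t.2) hb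
    refine ⟨a + (t : R) * b, add_mem ha htb, fun p hp => ?_⟩
    intro hmem
    rcases Finset.mem_insert.1 hp with rfl | hp
    · have h1 : (t : R) * b ∈ p := by simpa using p.sub_mem hmem haq
      refine hc (Finset.mem_insert.2 (Or.inl ?_))
      rw [← ht]
      refine Ideal.Quotient.eq_zero_iff_mem.2 ?_
      by_contra h
      exact hq.ne_top (p.eq_top_of_isUnit_mem ((hq.mem_or_mem h1).resolve_right hbq) (isUnit_of_zero_notMem hm t.2 h))
    · have hex : ∃ t : GrLC.deg0 𝒜, a + (t : R) * b ∈ p := ⟨t, hmem⟩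
      obtain ⟨hpp, -⟩ := hS p (Finset.mem_insert_of_mem hp)
      refine hc (Finset.mem_insert.2 (Or.inr (Finset.mem_image.2 ⟨p, hp, ?_⟩)))
      simp only [cls, dif_pos hex]
      rw [← ht]
      refine Ideal.Quotient.eq.2 ?_
      by_contra h
      have h2 : ((hex.choose : R) - (t : R)) * b ∈ p := by
        have := p.sub_mem hex.choose_spec hmem
        rwa [add_sub_add_left_eq_sub, ← sub_mul] at this
      have hb' : b ∈ p := (hpp.mem_or_mem h2).resolve_left fun h' =>
        hpp.ne_top (p.eq_top_of_isUnit_mem h' (isUnit_of_zero_notMem hm (sub_mem hex.choose.2 t.2) h))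
      exact has p hp (by simpa using p.sub_mem hmem (p.mul_mem_left (t : R) hb'))

include hpos hm in
/-- Depth `t` gives a regular sequence of `t` linear forms. -/
theorem exists_linear_regular (hinf : Infinite (R ⧸ m.toIdeal)) (a : HomogeneousIdeal 𝒜)
    (ha : a.toIdeal = Ideal.span ((𝒜 1 : AddSubgroup R) : Set R)) : ∀ (t : ℕ) (X : GrLC.GMod.{u} 𝒜)
      [Module.Finite R X.carrier], (∀ (EX : GrLC.StarInjRes 𝒜 X.gr), ∀ i < t, ∀ e, Van EX a i e) →
      ∃ x : Fin t → R, (∀ j, x j ∈ 𝒜 1) ∧ RingTheory.Sequence.IsWeaklyRegular X.carrier (List.ofFn x) ∧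
        Module.supportDim R (X.carrier ⧸ (Ideal.span (Set.range x) • (⊤ : Submodule R X.carrier))) + t ≤
          Module.supportDim R X.carrier := by
  intro t
  induction t with
  | zero =>
    intro X _ _
    refine ⟨Fin.elim0, fun j => j.elim0, RingTheory.Sequence.IsWeaklyRegular.nil _ _, ?_⟩
    rw [Nat.cast_zero, add_zero]
    exact Module.supportDim_le_of_surjective _ (Submodule.mkQ_surjective _)
  | succ t ih =>
    intro X _ hvan
    obtain ⟨EX⟩ := nonempty_starInjRes 𝒜 X.gr
    have h0 : ∀ y ∈ GrLC.gam a.toIdeal X.carrier, y = 0 := fun y hy => by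
      refine (Submodule.mem_bot R).1 (mem_of_pr_mem X.gr fun g => ?_)
      rw [Submodule.mem_bot]
      exact (van_zero_iff EX a g).1 (hvan EX 0 (Nat.succ_pos t) g) _ (pr_mem X.gr g y) (homog_gam 𝒜 a y hy g)
    have hfin := associatedPrimes.finite R X.carrier
    obtain ⟨x₀, hx₀, hnot⟩ := exists_linear_notMem hpos hm hinf hfin.toFinset fun p hp => by
      have hp' : IsAssociatedPrime p X.carrier := hfin.mem_toFinset.1 hp
      refine ⟨hp'.isPrime, ?_⟩
      by_contra hall
      push Not at hall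
      obtain ⟨hpr, y, hy⟩ := isAssociatedPrime_iff.1 hp'
      have hy0 : y = 0 := h0 y ⟨1, fun r hr => by
        rw [pow_one, ha] at hr
        have h1 : r ∈ p := Ideal.span_le.2 (fun z hz => hall z hz) hr
        rw [hy] at h1
        simpa using h1⟩
      refine hpr.ne_top ((Ideal.eq_top_iff_one p).2 ?_)
      rw [hy, hy0]
      simp
    have hreg : IsSMulRegular X.carrier x₀ := IsSMulRegular.of_right_eq_zero_of_smul fun y hy => by
      by_contra hy0
      have : x₀ ∈ ⋃ p ∈ associatedPrimes R X.carrier, (p : Set R) := by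
        rw [biUnion_associatedPrimes_eq_zero_divisors]
        exact ⟨y, hy0, hy⟩
      obtain ⟨p, hp, hxp⟩ := Set.mem_iUnion₂.1 this
      exact hnot p (hfin.mem_toFinset.2 hp) hxp
    let K : Submodule R X.carrier := x₀ • (⊤ : Submodule R X.carrier)
    have hK : Homog X.gr K := homog_smul_top hx₀
    let Q := quotObj 𝒜 X.gr K hK
    haveI : Module.Finite R Q.carrier := inferInstanceAs (Module.Finite R (X.carrier ⧸ K))
    let q : X.carrier →ₗ[R] Q.carrier := K.mkQ
    have hqk : LinearMap.range (x₀ • LinearMap.id : X.carrier →ₗ[R] X.carrier) = LinearMap.ker q := by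
      refine Eq.trans ?_ (Submodule.ker_mkQ K).symm
      ext y
      exact ⟨fun ⟨z, hz⟩ => hz ▸ Submodule.smul_mem_pointwise_smul z x₀ ⊤ Submodule.mem_top,
        fun hy => by
          obtain ⟨z, -, rfl⟩ := (Submodule.mem_smul_pointwise_iff_exists y x₀ _).1 hy
          exact ⟨z, rfl⟩⟩
    obtain ⟨x, hx, hxr, hdim⟩ := ih Q fun EQ i hi e =>
      van_quot a EX EQ hx₀ hreg (mkQ_grHom X.gr K) (Submodule.mkQ_surjective K) hqk
        (hvan EX i (by omega) e) (hvan EX (i + 1) (by omega) _)
    refine ⟨Fin.cons x₀ x, Fin.cases hx₀ hx, ?_, ?_⟩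
    · rw [List.ofFn_succ, RingTheory.Sequence.isWeaklyRegular_cons_iff]
      exact ⟨hreg, hxr⟩
    · have h1 : Module.supportDim R (X.carrier ⧸ K) + 1 ≤ Module.supportDim R X.carrier :=
        Module.supportDim_quotSMulTop_succ_le_of_notMem_minimalPrimes fun _ => hreg.notMem_of_mem_minimalPrimes
      let L : Submodule R X.carrier := Ideal.span (Set.range (Fin.cons x₀ x : Fin (t + 1) → R)) • ⊤
      let L' : Submodule R Q.carrier := Ideal.span (Set.range x) • ⊤
      have hsurj : Module.supportDim R (X.carrier ⧸ L) ≤ Module.supportDim R (Q.carrier ⧸ L') := by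
        have hKL : K ≤ L := fun y hy => by
          obtain ⟨z, -, rfl⟩ := (Submodule.mem_smul_pointwise_iff_exists y x₀ _).1 hy
          exact Submodule.smul_mem_smul (Ideal.subset_span ⟨0, Fin.cons_zero _ _⟩) Submodule.mem_top
        let P : Q.carrier →ₗ[R] X.carrier ⧸ L := K.liftQ L.mkQ (by rwa [Submodule.ker_mkQ])
        have hP : L' ≤ LinearMap.ker P := Submodule.smul_le.2 fun r hr y _ => by
          obtain ⟨z, rfl⟩ := Submodule.mkQ_surjective K y
          rw [LinearMap.mem_ker, map_smul]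
          refine (Submodule.Quotient.mk_eq_zero L).2 ?_
          exact Submodule.smul_mem_smul (Ideal.span_mono (by rintro _ ⟨j, rfl⟩; exact ⟨j.succ, Fin.cons_succ _ _ _⟩) hr)
            Submodule.mem_top
        refine Module.supportDim_le_of_surjective (L'.liftQ P hP) fun y => ?_
        obtain ⟨z, rfl⟩ := Submodule.mkQ_surjective L y
        exact ⟨L'.mkQ (K.mkQ z), rfl⟩
      refine le_trans ?_ (le_trans (add_le_add_left hdim 1) h1)
      rw [Nat.cast_succ, ← add_assoc]
      exact add_le_add_left (add_le_add_left hsurj _) 1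

end Groth.Agent.GrLCLib
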