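import Groth.Agent.GrSyzMin.RegularReg
import Groth.Agent.GrLCLib.Torsion

/-!
Splitting off the torsion part, for vanishing and for regularity.
-/

set_option autoImplicit false
set_option linter.unusedSectionVars false
set_option linter.style.haveILetI false
universe u

open scoped Classical
open DirectSum

noncomputable section

namespace Groth.Agent.GrLCLib

variable {k : Type u} [Field k] {n : ℕ}

local notation "IRR" n:max => GrSyz.irrel (GrSyz.stdGr _ (Fin n))

variable {M : Type u} [AddCommGroup M] [Module k M] [Module (MvPolynomial (Fin n) k) M]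
  [IsScalarTower k (MvPolynomial (Fin n) k) M]
  {ℳ : ℤ → Submodule k M} [DirectSum.Decomposition ℳ] [SetLike.GradedSMul (GrSyz.stdGr k (Fin n)) ℳ]

variable (k n) in
/-- The torsion part. -/
abbrev tors (M : Type u) [AddCommGroup M] [Module (MvPolynomial (Fin n) k) M] : Submodule (MvPolynomial (Fin n) k) M :=
  GrLC.gam (GrSyz.irrel (GrSyz.stdGr k (Fin n))).toIdeal M

variable (ℳ) in
lemma homog_tors : GrSyzMin.Homog ℳ (tors k n M) :=
  fun x hx e => homog_gam (GrSyz.stdGr k (Fin n)) (GrSyz.irrel (GrSyz.stdGr k (Fin n))) x hx e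

lemma gam_tors_eq_top : GrLC.gam (GrSyz.irrel (GrSyz.stdGr k (Fin n))).toIdeal (tors k n M) = ⊤ :=
  eq_top_iff.2 fun x _ => mem_gam_of_injective (f := (tors k n M).subtype) (Submodule.injective_subtype _) x.2

lemma exists_kill_tors [Module.Finite (MvPolynomial (Fin n) k) M] :
    ∃ N : ℕ, ∀ r ∈ (GrSyz.irrel (GrSyz.stdGr k (Fin n))).toIdeal ^ N, ∀ x ∈ tors k n M, r • x = 0 := by
  obtain ⟨s, hs⟩ : (tors k n M).FG := IsNoetherian.noetherian _
  have hmem : ∀ x ∈ s, x ∈ tors k n M := fun x hx => hs ▸ Submodule.subset_span hx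
  choose N hN using hmem
  refine ⟨s.attach.sup fun x => N x.1 x.2, fun r hr x hx => ?_⟩
  rw [← hs] at hx
  induction hx using Submodule.span_induction with
  | mem y hy => exact hN y hy r (Ideal.pow_le_pow_right (Finset.le_sup (f := fun x => N x.1 x.2) (Finset.mem_attach _ ⟨y, hy⟩)) hr)
  | zero => exact smul_zero r
  | add a b _ _ ha hb => rw [smul_add, ha, hb, add_zero]
  | smul c a _ ha => rw [smul_comm, ha, smul_zero]

lemma torsionFree_quot [Module.Finite (MvPolynomial (Fin n) k) M] (x : M ⧸ tors k n M)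
    (hx : x ∈ tors k n (M ⧸ tors k n M)) : x = 0 := by
  obtain ⟨m, rfl⟩ := Submodule.Quotient.mk_surjective _ x
  obtain ⟨a, ha⟩ := hx
  obtain ⟨N, hN⟩ := exists_kill_tors (k := k) (n := n) (M := M)
  refine (Submodule.Quotient.mk_eq_zero _).2 ⟨N + a, fun r hr => ?_⟩
  rw [pow_add] at hr
  refine Submodule.mul_induction_on hr (fun p hp q hq => ?_) (fun p q hp hq => by rw [add_smul, hp, hq, add_zero])
  rw [mul_smul]
  exact hN p hp _ ((Submodule.Quotient.mk_eq_zero _).1 (by rw [Submodule.Quotient.mk_smul]; exact ha q hq))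

lemma mem_irrel_pow_of_deg : ∀ (m : ℕ) {e : ℤ}, (m : ℤ) ≤ e → ∀ p ∈ GrSyz.stdGr k (Fin n) e,
    p ∈ (GrSyz.irrel (GrSyz.stdGr k (Fin n))).toIdeal ^ m := by
  intro m
  induction m with
  | zero => intro e _ p _; rw [pow_zero, Ideal.one_eq_top]; trivial
  | succ m ih =>
    intro e he p hp
    have hmem : p ∈ Ideal.span (Set.range fun j : Fin n => (MvPolynomial.X j : MvPolynomial (Fin n) k)) := by
      have h1 : p ∈ Ideal.ofList (GrSyzMin.vars k n) := by
        rw [GrSyzMin.ofList_vars, GrSyzMin.mem_irrel_iff]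
        exact GrSyzMin.cst_eq_zero_of_ne (by omega) hp
      convert h1 using 2
      refine Set.ext fun y => ?_
      simp only [GrSyzMin.vars, List.mem_ofFn, Set.mem_ofPred_eq, Set.mem_range]
    obtain ⟨c, hc⟩ := (Submodule.mem_span_range_iff_exists_fun _).1 hmem
    rw [← pr_of_mem (GrSyz.stdGr k (Fin n)) hp, ← hc, map_sum]
    refine Submodule.sum_mem _ fun j _ => ?_
    rw [smul_eq_mul, mul_comm, ← smul_eq_mul, pr_smul (GrSyz.stdGr k (Fin n)) (GrSyz.stdGr k (Fin n)) (GrSyzMin.X_mem j),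
      smul_eq_mul, pow_succ']
    exact Ideal.mul_mem_mul (Ideal.subset_span ⟨1, one_pos, GrSyzMin.X_mem j⟩) (ih (by omega) _ (pr_mem _ _ _))

lemma exists_bound_tors [Module.Finite (MvPolynomial (Fin n) k) M] :
    ∃ b : ℤ, ∀ e, b ≤ e → ∀ x ∈ ℳ e, x ∈ tors k n M → x = 0 := by
  letI := GrSyzMin.subDec ℳ (tors k n M) (homog_tors ℳ)
  haveI : Module.Finite (MvPolynomial (Fin n) k) (tors k n M) := Module.Finite.iff_fg.2 (IsNoetherian.noetherian _)
  obtain ⟨m, deg, c, hc, hs⟩ := GrSyzMin.exists_homog_gens (n := n) (GrSyzMin.subGr ℳ (tors k n M))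
    (GrSyzMin.homog_top _) Module.Finite.fg_top
  obtain ⟨N, hN⟩ := exists_kill_tors (k := k) (n := n) (M := M)
  obtain ⟨D, hD⟩ := (Set.finite_range deg).bddAbove
  refine ⟨D + N, fun e he x hx hxt => ?_⟩
  obtain ⟨v, hv, hvx⟩ := GrSyzMin.exists_lift (n := n) (GrSyzMin.subGr ℳ (tors k n M)) hc
    (show (⟨x, hxt⟩ : tors k n M) ∈ GrSyzMin.subGr ℳ (tors k n M) e from hx)
    (by rw [Fintype.range_linearCombination, hs]; trivial)
  have h0 : Fintype.linearCombination (MvPolynomial (Fin n) k) c v = 0 := by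
    rw [Fintype.linearCombination_apply]
    refine Finset.sum_eq_zero fun b _ => Subtype.ext ?_
    have := hD ⟨b, rfl⟩
    exact hN _ (mem_irrel_pow_of_deg N (by omega) _ ((GrSyzMin.mem_vec deg).1 hv b)) _ (c b).2
  rw [h0] at hvx
  exact (congrArg Subtype.val hvx).symm

variable (ℳ) in
/-- All torsion lives in degrees at most `d`. -/
def TorsLE (n : ℕ) [Module (MvPolynomial (Fin n) k) M] (d : ℤ) : Prop :=
  ∀ e, d < e → ∀ x ∈ ℳ e, x ∈ tors k n M → x = 0

lemma van_zero_iff_torsLE (E : GrLC.StarInjRes (GrSyz.stdGr k (Fin n)) ℳ) (d : ℤ) :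
    (∀ e, d < e → Van E (GrSyz.irrel (GrSyz.stdGr k (Fin n))) 0 e) ↔ TorsLE ℳ n d :=
  forall₂_congr fun e _ => van_zero_iff E _ e

lemma isSES_tors : letI := GrSyzMin.subDec ℳ (tors k n M) (homog_tors ℳ)
    letI := GrSyzMin.quotDec ℳ (tors k n M) (homog_tors ℳ)
    IsSES (GrSyzMin.subGr ℳ (tors k n M)) ℳ (GrSyzMin.quotGr ℳ (tors k n M)) (tors k n M).subtype (tors k n M).mkQ :=
  ⟨Submodule.injective_subtype _, Submodule.mkQ_surjective _, by rw [Submodule.range_subtype, Submodule.ker_mkQ],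
    fun _ _ hx => hx, fun _ _ hx => GrSyzMin.mk_mem_quotGr hx⟩

theorem van_succ_iff_quot [Module.Finite (MvPolynomial (Fin n) k) M] (E : GrLC.StarInjRes (GrSyz.stdGr k (Fin n)) ℳ)
    (EQ : letI := GrSyzMin.quotDec ℳ (tors k n M) (homog_tors ℳ); GrLC.StarInjRes (GrSyz.stdGr k (Fin n)) (GrSyzMin.quotGr ℳ (tors k n M)))
    (i : ℕ) (e : ℤ) :
    Van E (GrSyz.irrel (GrSyz.stdGr k (Fin n))) (i + 1) e ↔
      (letI := GrSyzMin.quotDec ℳ (tors k n M) (homog_tors ℳ); Van EQ (GrSyz.irrel (GrSyz.stdGr k (Fin n))) (i + 1) e) := by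
  letI := GrSyzMin.subDec ℳ (tors k n M) (homog_tors ℳ)
  letI := GrSyzMin.quotDec ℳ (tors k n M) (homog_tors ℳ)
  obtain ⟨ET⟩ := nonempty_starInjRes (GrSyz.stdGr k (Fin n)) (GrSyzMin.subGr ℳ (tors k n M))
  exact ⟨fun h => van_right isSES_tors ET E EQ _ h (van_succ_of_torsion ET gam_tors_eq_top (i + 1) e),
    fun h => van_mid isSES_tors ET E EQ _ (van_succ_of_torsion ET gam_tors_eq_top i e) h⟩

theorem isRegLE_iff_quot [Module.Finite (MvPolynomial (Fin n) k) M] (d : ℤ) :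
    GrSyz.IsRegLE (GrSyz.stdGr k (Fin n)) ℳ (GrSyz.irrel (GrSyz.stdGr k (Fin n))).toIdeal d ↔
      TorsLE ℳ n d ∧ (letI := GrSyzMin.quotDec ℳ (tors k n M) (homog_tors ℳ);
        GrSyz.IsRegLE (GrSyz.stdGr k (Fin n)) (GrSyzMin.quotGr ℳ (tors k n M)) (GrSyz.irrel (GrSyz.stdGr k (Fin n))).toIdeal d) := by
  letI := GrSyzMin.subDec ℳ (tors k n M) (homog_tors ℳ)
  letI := GrSyzMin.quotDec ℳ (tors k n M) (homog_tors ℳ)
  haveI : Module.Finite (MvPolynomial (Fin n) k) (tors k n M) := Module.Finite.iff_fg.2 (IsNoetherian.noetherian _)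
  have hfd : GrLC.IsGrHomDeg (GrSyzMin.subGr ℳ (tors k n M)) ℳ (tors k n M).subtype 0 := fun e x hx => by
    rw [add_zero]; exact hx
  have hs := isSES_tors (k := k) (n := n) (ℳ := ℳ)
  have hbound : ∀ r, TorsLE ℳ n r → ∀ e, r < e → GrSyzMin.subGr ℳ (tors k n M) e = ⊥ := fun r hr e he =>
    eq_bot_iff.2 fun x hx => (Submodule.mem_bot k).2 (Subtype.ext (hr e he x.1 hx x.2))
  constructor
  · intro hd
    have hT : TorsLE ℳ n d := by
      intro e₀ he₀ x hx hxt
      by_contra hx0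
      obtain ⟨b, hb⟩ := exists_bound_tors (k := k) (n := n) (ℳ := ℳ)
      obtain ⟨t, ⟨ht, hdt⟩, hmax⟩ := Int.exists_greatest_of_bdd (P := fun e => GrSyzMin.subGr ℳ (tors k n M) e ≠ ⊥ ∧ d < e)
        ⟨b, fun z hz => by
          by_contra hh
          exact hz.1 (eq_bot_iff.2 fun y hy => (Submodule.mem_bot k).2 (Subtype.ext (hb z (by omega) y.1 hy y.2)))⟩
        ⟨e₀, fun h => hx0 (congrArg Subtype.val ((Submodule.eq_bot_iff _).1 h ⟨x, hxt⟩ hx)), he₀⟩
      have htop : ∀ e, t < e → GrSyzMin.subGr ℳ (tors k n M) e = ⊥ := fun e he => by_contra fun he' => by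
        have := hmax e ⟨he', by omega⟩
        omega
      let K := (GrSyzMin.topPiece (n := n) t htop).map (tors k n M).subtype
      have hKt : ∀ y ∈ K, y ∈ ℳ t := by
        rintro _ ⟨y, hy, rfl⟩
        exact hy
      have hK : GrSyzMin.Homog ℳ K := fun y hy e => by
        by_cases he : t = e
        · subst he
          rw [GrSyzHilb.comp_of_mem ℳ (hKt y hy)]
          exact hy
        · rw [GrSyzHilb.comp_of_mem_ne ℳ (hKt y hy) he]
          exact Submodule.zero_mem _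
      obtain ⟨F, hF, hFr⟩ := hd
      obtain ⟨c, hc⟩ := GrSyzMin.exists_top_deg K hK (d := t) (fun e he => eq_bot_iff.2 fun y hy =>
          (Submodule.mem_bot k).2 (Subtype.ext (by
            rw [← GrSyzHilb.comp_of_mem ℳ (show (y : M) ∈ ℳ e from hy), GrSyzHilb.comp_of_mem_ne ℳ (hKt y.1 y.2) (Ne.symm he)]
            rfl))) (by
          intro h0
          refine ht (eq_bot_iff.2 fun y hy => (Submodule.mem_bot k).2 (Subtype.ext ?_))
          exact congrArg (fun z : ↥K => (z.1 : M)) ((Submodule.eq_bot_iff _).1 h0 ⟨y.1, ⟨y, hy, rfl⟩⟩ hy)) hF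
      have := hFr n c
      omega
    exact ⟨hT, GrSyzMin.regLE_right (GrSyzMin.subGr ℳ (tors k n M)) ℳ (GrSyzMin.quotGr ℳ (tors k n M)) hfd hs.inj hs.surj hs.exact hs.grg d
      (GrSyzMin.isRegLE_of_bound _ (d - 0 + 1) fun e he => hbound d hT e (by omega)) hd⟩
  · rintro ⟨hT, hQ⟩
    exact GrSyzMin.regLE_mid (GrSyzMin.subGr ℳ (tors k n M)) ℳ (GrSyzMin.quotGr ℳ (tors k n M)) hfd hs.inj hs.surj hs.exact hs.grg d
      (GrSyzMin.isRegLE_of_bound _ (d - 0) fun e he => hbound d hT e (by omega)) hQ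

end Groth.Agent.GrLCLib
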