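import Groth.Agent.GrLCLib.AInv
import Groth.Agent.GrLCLib.MulRes
import Groth.Agent.CartierEq.Basic
import Groth.Agent.CechX.KoszulPoly

/-!
Standard graded algebras over a field with a-invariant minus the dimension are polynomial rings.
-/

set_option autoImplicit false
set_option linter.unusedSectionVars false
set_option linter.style.haveILetI false
universe u

open scoped Classical
open DirectSum MvPolynomial

noncomputable section

namespace Groth.Agent.GrLCLib

open Kos

variable {R : Type u} [CommRing R] {𝒜 : ℤ → AddSubgroup R} [GradedRing 𝒜]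
variable {n : ℕ} (x : Fin n → R)

variable (𝒜) in
/-- The presentation of a graded algebra by elements. -/
def pres : MvPolynomial (Fin n) (GrLC.deg0 𝒜) →+* R :=
  MvPolynomial.eval₂Hom (GrLC.deg0 𝒜).subtype x

lemma pres_X (b : Fin n) : pres 𝒜 x (X b) = x b := by simp [pres]

lemma pres_C (c : GrLC.deg0 𝒜) : pres 𝒜 x (C c) = (c : R) := by simp [pres]

variable {x} (hx : ∀ b, x b ∈ 𝒜 1)

include hx in
lemma pres_monomial_mem (d : Fin n →₀ ℕ) (c : GrLC.deg0 𝒜) : pres 𝒜 x (monomial d c) ∈ 𝒜 (d.degree : ℤ) := by
  induction d using Finsupp.induction with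
  | zero => simpa [pres] using c.2
  | single_add a k d _ _ ih =>
    have hpow : ∀ k : ℕ, x a ^ k ∈ 𝒜 (k : ℤ) := fun k => by
      induction k with
      | zero => simpa using SetLike.one_mem_graded 𝒜
      | succ k ihk => rw [pow_succ, Nat.cast_succ]; exact SetLike.mul_mem_graded ihk (hx a)
    rw [monomial_single_add, map_mul, map_pow, pres_X, Finsupp.degree.map_add, Finsupp.degree_single, Nat.cast_add]
    exact SetLike.mul_mem_graded (hpow k) ih

include hx in
lemma pres_mem {p : MvPolynomial (Fin n) (GrLC.deg0 𝒜)} {j : ℕ} (hp : p.IsHomogeneous j) : pres 𝒜 x p ∈ 𝒜 (j : ℤ) := by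
  rw [p.as_sum, map_sum]
  refine sum_mem fun d hd => ?_
  have h := pres_monomial_mem hx d (coeff d p)
  have hdeg : d.degree = j := by
    have := hp (MvPolynomial.mem_support_iff.1 hd)
    rwa [Finsupp.degree_eq_weight_one]
  rwa [hdeg] at h

include hx in
lemma pres_homogeneousComponent (j : ℕ) (p : MvPolynomial (Fin n) (GrLC.deg0 𝒜)) :
    pres 𝒜 x (homogeneousComponent j p) = pr 𝒜 (j : ℤ) (pres 𝒜 x p) := by
  induction p using MvPolynomial.induction_on' with
  | monomial d c =>
    by_cases h : d.degree = j
    · rw [homogeneousComponent_of_mem ((mem_homogeneousSubmodule _ _).2 (isHomogeneous_monomial c h)), if_pos rfl,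
        pr_of_mem 𝒜 (h ▸ pres_monomial_mem hx d c)]
    · rw [homogeneousComponent_of_mem ((mem_homogeneousSubmodule _ _).2 (isHomogeneous_monomial c rfl)),
        if_neg (Ne.symm h), map_zero, pr_of_mem_ne 𝒜 (pres_monomial_mem hx d c) (by exact_mod_cast h)]
  | add p q hp hq => rw [map_add, map_add, map_add, map_add, hp, hq]

lemma homogeneousComponent_X_mul {A : Type u} [CommRing A] (b : Fin n) (j : ℕ) (p : MvPolynomial (Fin n) A) :
    homogeneousComponent (j + 1) (X b * p) = X b * homogeneousComponent j p := by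
  induction p using MvPolynomial.induction_on' with
  | monomial d c =>
    have hm : X b * monomial d c = monomial (Finsupp.single b 1 + d) c := by rw [X, monomial_mul, one_mul]
    rw [hm, homogeneousComponent_of_mem ((mem_homogeneousSubmodule _ _).2 (isHomogeneous_monomial c rfl)),
      homogeneousComponent_of_mem ((mem_homogeneousSubmodule _ _).2 (isHomogeneous_monomial c (rfl : d.degree = _))),
      Finsupp.degree.map_add, Finsupp.degree_single]
    by_cases h : j = d.degree
    · rw [if_pos (by omega), if_pos h, hm]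
    · rw [if_neg (by omega), if_neg h, mul_zero]
  | add p q hp hq => rw [mul_add, map_add, map_add, hp, hq, mul_add]

lemma exists_sum_X {A : Type u} [CommRing A] {j : ℕ} {p : MvPolynomial (Fin n) A} (hp : p.IsHomogeneous (j + 1)) :
    ∃ g : Fin n → MvPolynomial (Fin n) A, (∀ b, (g b).IsHomogeneous j) ∧ p = ∑ b, X b * g b := by
  have hmem : p ∈ Ideal.span (Set.range (X : Fin n → MvPolynomial (Fin n) A)) := by
    rw [← Set.image_univ, mem_ideal_span_X_image]
    intro d hd
    have h1 : d.degree = j + 1 := by
      rw [Finsupp.degree_eq_weight_one]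
      exact hp (MvPolynomial.mem_support_iff.1 hd)
    by_contra h
    push Not at h
    have : d = 0 := Finsupp.ext fun b => h b (Set.mem_univ b)
    rw [this, map_zero] at h1
    omega
  obtain ⟨c, hc⟩ := (Submodule.mem_span_range_iff_exists_fun _).1 hmem
  refine ⟨fun b => homogeneousComponent j (c b), fun b => homogeneousComponent_isHomogeneous j _, ?_⟩
  conv_lhs => rw [← homogeneousComponent_eq_self hp, ← hc, map_sum]
  exact Finset.sum_congr rfl fun b _ => by rw [smul_eq_mul, mul_comm, homogeneousComponent_X_mul]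

lemma map_dVal {S : Type u} [CommRing S] {T : Type u} [CommRing T] (φ : S →+* T) (y : Fin n → S) (j : ℕ)
    (v : KC n j S) (t : Finset (Fin n)) : φ (dVal y j v t) = dVal (fun b => φ (y b)) j (fun s => φ (v s)) t := by
  rw [dVal, dVal, map_sum]
  refine Finset.sum_congr rfl fun a _ => ?_
  rw [smul_eq_mul, smul_eq_mul, map_mul, map_mul]
  simp only [Kos.ext, LinearMap.coe_mk, AddHom.coe_mk, Kos.sgn, map_pow, map_neg, map_one]
  split_ifs with h <;> simp

lemma dVal_zero (y : Fin n → R) (v : KC n 1 R) :
    dVal y 1 v ∅ = ∑ b, y b * v ⟨{b}, Finset.card_singleton b⟩ := by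
  rw [dVal, Finset.compl_empty]
  refine Finset.sum_congr rfl fun b _ => ?_
  rw [ext_of_card v (by simp)]
  simp [Kos.sgn]

section Surj

variable (hpos : ∀ n : ℤ, n < 0 → 𝒜 n = ⊥) (hgen : (irr 𝒜).toIdeal = Ideal.span (Set.range x))

include hx hpos hgen in
theorem pres_surjective : Function.Surjective (pres 𝒜 x) := by
  have key : ∀ (j : ℕ) (r : R), r ∈ 𝒜 (j : ℤ) → r ∈ (pres 𝒜 x).range := by
    intro j
    induction j with
    | zero => intro r hr; exact ⟨C ⟨r, show r ∈ 𝒜 0 by simpa using hr⟩, pres_C x _⟩
    | succ j ih =>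
      intro r hr
      have h1 : r ∈ Ideal.span (Set.range x) := hgen ▸ Ideal.subset_span (Set.mem_iUnion₂.2 ⟨_, show (0 : ℤ) < ((j + 1 : ℕ) : ℤ) by omega, hr⟩)
      obtain ⟨c, hc⟩ := (Submodule.mem_span_range_iff_exists_fun _).1 h1
      rw [← pr_of_mem 𝒜 hr, ← hc, map_sum]
      refine sum_mem fun b _ => ?_
      rw [smul_eq_mul, mul_comm, pr_mul 𝒜 (hx b)]
      refine mul_mem ⟨X b, pres_X x b⟩ (ih _ ?_)
      rw [show ((j + 1 : ℕ) : ℤ) - 1 = (j : ℤ) by push_cast; ring]
      exact pr_mem 𝒜 _ _
  intro r
  refine RingHom.mem_range.1 ?_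
  induction r using DirectSum.Decomposition.inductionOn 𝒜 with
  | zero => exact zero_mem _
  | @homogeneous i q =>
    rcases lt_or_ge i 0 with h | h
    · rw [show (q : R) = 0 from (hpos i h).le q.2]; exact zero_mem _
    · exact key i.toNat q (by rw [Int.toNat_of_nonneg h]; exact q.2)
  | add a b ha hb => exact add_mem ha hb

include hx hpos hgen in
theorem pres_injective [IsNoetherianRing R] (E : GrLC.StarInjRes 𝒜 𝒜)
    (hvan : ∀ (i : ℕ) (e : ℤ), 0 < e + i → Van E (irr 𝒜) i e)
    (hind : ∀ c : Fin n → GrLC.deg0 𝒜, ∑ b, (c b : R) * x b = 0 → ∀ b, c b = 0) :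
    Function.Injective (pres 𝒜 x) := by
  have key : ∀ (j : ℕ) (p : MvPolynomial (Fin n) (GrLC.deg0 𝒜)), p.IsHomogeneous j → pres 𝒜 x p = 0 → p = 0 := by
    intro j
    induction j with
    | zero =>
      intro p hp h0
      rw [← homogeneousComponent_eq_self hp, homogeneousComponent_zero] at h0 ⊢
      rw [pres_C] at h0
      rw [show coeff 0 p = 0 from Subtype.ext h0, map_zero]
    | succ j ih =>
      intro p hp h0
      obtain ⟨g, hg, rfl⟩ := exists_sum_X hp
      have h0' : ∑ b, x b * pres 𝒜 x (g b) = 0 := by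
        rw [map_sum] at h0
        simpa [map_mul, pres_X] using h0
      rcases Nat.eq_zero_or_pos j with rfl | hj
      · have hgC : ∀ b, g b = C (coeff 0 (g b)) := fun b => by
          conv_lhs => rw [← homogeneousComponent_eq_self (hg b), homogeneousComponent_zero]
        have hc := hind (fun b => coeff 0 (g b)) (Eq.trans (Finset.sum_congr rfl fun b _ => by
          conv_rhs => rw [hgC b, pres_C, mul_comm]) h0')
        exact Finset.sum_eq_zero fun b _ => by rw [hgC b, hc b, map_zero, mul_zero]
      · have hsing : ∀ s : T n 1, ∃ b, s = ⟨{b}, Finset.card_singleton b⟩ := fun s => by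
          obtain ⟨b, hb⟩ := Finset.card_eq_one.1 s.2
          exact ⟨b, Subtype.ext hb⟩
        choose idx hidx using hsing
        have hidx' : ∀ b, idx ⟨{b}, Finset.card_singleton b⟩ = b := fun b => by
          have := congrArg Subtype.val (hidx ⟨{b}, Finset.card_singleton b⟩)
          exact (Finset.singleton_inj.1 this).symm
        let gs : KC n 1 (MvPolynomial (Fin n) (GrLC.deg0 𝒜)) := fun s => g (idx s)
        obtain ⟨w, hw, hwz⟩ := exists_koszul_of_van (M := R) 𝒜 (irr 𝒜) hx hgen E (e := ((j + 1 : ℕ) : ℤ))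
          (fun i => hvan i _ (by push_cast; omega)) (fun s => pres 𝒜 x (gs s))
          (fun s => by
            rw [show ((j + 1 : ℕ) : ℤ) - 1 = (j : ℤ) by push_cast; ring]
            exact pres_mem hx (hg _))
          (funext fun s => by
            obtain ⟨s, hs⟩ := s
            obtain rfl := Finset.card_eq_zero.1 hs
            refine (dVal_zero x _).trans ?_
            simp only [gs, hidx']
            exact h0')
        have hlift : ∀ s : T n 2, ∃ q : MvPolynomial (Fin n) (GrLC.deg0 𝒜), q.IsHomogeneous (j - 1) ∧ pres 𝒜 x q = w s := fun s => by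
          obtain ⟨q, hq⟩ := pres_surjective hx hpos hgen (w s)
          refine ⟨homogeneousComponent (j - 1) q, homogeneousComponent_isHomogeneous _ _, ?_⟩
          rw [pres_homogeneousComponent hx, hq, pr_of_mem 𝒜]
          have := hw s
          rwa [show ((j + 1 : ℕ) : ℤ) - 2 = ((j - 1 : ℕ) : ℤ) by omega] at this
        choose W hW hWw using hlift
        have hdW : ∀ s : T n 1, gs s = dK (X : Fin n → MvPolynomial (Fin n) (GrLC.deg0 𝒜)) 1 W s := by
          intro s
          refine sub_eq_zero.1 (ih _ ?_ ?_)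
          · refine (hg _).sub ?_
            rw [dK_apply, dVal]
            refine IsHomogeneous.sum _ _ _ fun a ha => ?_
            rw [smul_eq_mul, ext_of_card W (by rw [Finset.card_insert_of_notMem (Finset.mem_compl.1 ha), s.2]),
              show j = 0 + 1 + (j - 1) by omega]
            refine ((?_ : IsHomogeneous _ 0).mul (isHomogeneous_X _ a)).mul (hW _)
            rcases neg_one_pow_eq_or (MvPolynomial (Fin n) (GrLC.deg0 𝒜)) ((s.1).filter (· < a)).card with h | h
            · rw [Kos.sgn, h]; exact isHomogeneous_one _ _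
            · rw [Kos.sgn, h]; exact (isHomogeneous_one _ _).neg
          · rw [map_sub, sub_eq_zero, dK_apply, map_dVal]
            refine (congrFun hwz s).symm.trans ?_
            rw [dK_apply]
            exact congrArg₂ (fun y v => dVal y (1 + 1) v s.1) (funext fun b => (pres_X x b).symm) (funext fun s => (hWw s).symm)
        have h2 := congrFun (dK_dK (X : Fin n → MvPolynomial (Fin n) (GrLC.deg0 𝒜)) 0 W) ⟨∅, rfl⟩
        rw [← funext hdW] at h2
        refine Eq.trans (Finset.sum_congr rfl fun b _ => ?_) ((dVal_zero (R := MvPolynomial (Fin n) (GrLC.deg0 𝒜)) X gs).symm.trans h2)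
        simp only [gs, hidx']
  refine (injective_iff_map_eq_zero _).2 fun p hp => ?_
  rw [← sum_homogeneousComponent p]
  exact Finset.sum_eq_zero fun i _ => key i _ (homogeneousComponent_isHomogeneous i p)
    (by rw [pres_homogeneousComponent hx, hp, map_zero])

end Surj

end Groth.Agent.GrLCLib
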