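import Groth.Agent.GrLCLib.Basic
import Groth.Prelude.Def_GrLC

/-!
Replacing a graded ring by its underlying family of additive subgroups.
-/

set_option autoImplicit false
set_option linter.unusedSectionVars false
set_option linter.style.haveILetI false
set_option backward.isDefEq.respectTransparency false
set_option backward.isDefEq.respectTransparency.types false
universe u

open scoped Classical
open DirectSum

noncomputable section

namespace Groth.Agent.GrLCLib

variable {ι : Type} [AddCommGroup ι] [DecidableEq ι]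
variable {R : Type u} [CommRing R] {σ : Type u} [SetLike σ R] [AddSubgroupClass σ R] (𝒜 : ι → σ) [GradedRing 𝒜]

/-- The pieces as additive subgroups. -/
def addGr (g : ι) : AddSubgroup R := AddSubgroup.ofClass (𝒜 g)

instance addGr_gradedMonoid : SetLike.GradedMonoid (addGr 𝒜) where
  one_mem := SetLike.one_mem_graded 𝒜
  mul_mem {_ _ _ _} ha hb := SetLike.mul_mem_graded (A := 𝒜) ha hb

/-- The change of carriers of one piece. -/
def addGrHom (g : ι) : 𝒜 g →+ addGr 𝒜 g where
  toFun x := ⟨(x : R), x.2⟩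
  map_zero' := rfl
  map_add' _ _ := rfl

instance addGr_gradedRing : GradedRing (addGr 𝒜) where
  toGradedMonoid := addGr_gradedMonoid 𝒜
  decompose' x := DirectSum.map (addGrHom 𝒜) (DirectSum.decompose 𝒜 x)
  left_inv x := by
    induction x using DirectSum.Decomposition.inductionOn 𝒜 with
    | zero => simp
    | @homogeneous j q => simp [DirectSum.map_of, addGrHom]
    | add a b ha hb => simp only at ha hb ⊢; rw [DirectSum.decompose_add, map_add, map_add, ha, hb]
  right_inv w := by
    induction w using DirectSum.induction_on with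
    | zero => simp
    | of j q =>
      simp only [DirectSum.coeAddMonoidHom_of]
      rw [DirectSum.decompose_of_mem 𝒜 q.2, DirectSum.map_of]
      rfl
    | add a b ha hb => simp only at ha hb ⊢; rw [map_add, DirectSum.decompose_add, map_add, ha, hb]

/-- The homogeneous ideal for the additive pieces. -/
def idealAdd (m : HomogeneousIdeal 𝒜) : HomogeneousIdeal (addGr 𝒜) :=
  ⟨m.toIdeal, fun i x hx => by
    show ((DirectSum.map (addGrHom 𝒜) (DirectSum.decompose 𝒜 x)) i : R) ∈ m.toIdeal
    rw [DirectSum.map_apply]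
    exact m.isHomogeneous i hx⟩

/-- The inverse of `idealAdd`. -/
def idealOfAdd (n : HomogeneousIdeal (addGr 𝒜)) : HomogeneousIdeal 𝒜 :=
  ⟨n.toIdeal, fun i x hx => by
    have h := n.isHomogeneous i hx
    rwa [show ((DirectSum.decompose (addGr 𝒜) x) i : R) = (DirectSum.decompose 𝒜 x i : R) from by
      show ((DirectSum.map (addGrHom 𝒜) (DirectSum.decompose 𝒜 x)) i : R) = _
      rw [DirectSum.map_apply]
      rfl] at h⟩

theorem isStarLocal_idealAdd {m : HomogeneousIdeal 𝒜} (hm : GrLC.IsStarLocal 𝒜 m) :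
    GrLC.IsStarLocal (addGr 𝒜) (idealAdd 𝒜 m) := by
  refine ⟨⟨fun h => hm.1.1 (HomogeneousIdeal.ext ((congrArg HomogeneousIdeal.toIdeal h).trans
    (HomogeneousIdeal.toIdeal_top.trans HomogeneousIdeal.toIdeal_top.symm))), fun n hn => ?_⟩, fun n hn => ?_⟩
  · have h := hm.1.2 (idealOfAdd 𝒜 n) hn
    exact HomogeneousIdeal.ext ((congrArg HomogeneousIdeal.toIdeal h).trans
      (HomogeneousIdeal.toIdeal_top.trans HomogeneousIdeal.toIdeal_top.symm))
  · have hc : IsCoatom (idealOfAdd 𝒜 n) := by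
      refine ⟨fun h => hn.1 (HomogeneousIdeal.ext ((congrArg HomogeneousIdeal.toIdeal h).trans
        (HomogeneousIdeal.toIdeal_top.trans HomogeneousIdeal.toIdeal_top.symm))), fun n' hn' => ?_⟩
      have h := hn.2 (idealAdd 𝒜 n') hn'
      exact HomogeneousIdeal.ext ((congrArg HomogeneousIdeal.toIdeal h).trans
        (HomogeneousIdeal.toIdeal_top.trans HomogeneousIdeal.toIdeal_top.symm))
    have h := hm.2 _ hc
    exact HomogeneousIdeal.ext (show n.toIdeal = m.toIdeal from congrArg HomogeneousIdeal.toIdeal h)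

section Mod

variable {M : Type u} [AddCommGroup M] [Module R M] {τ : Type u} [SetLike τ M] [AddSubgroupClass τ M] (ℳ : ι → τ)

instance addGr_gradedSMul [SetLike.GradedSMul 𝒜 ℳ] : SetLike.GradedSMul (addGr 𝒜) ℳ :=
  ⟨fun {_ _ _ _} hr hx => SetLike.GradedSMul.smul_mem (A := 𝒜) (B := ℳ) hr hx⟩

/-- An object over the additive pieces as an object over the original ones. -/
def objOfAdd (A : GrLC.GMod.{u} (addGr 𝒜)) : GrLC.GMod.{u} 𝒜 :=
  haveI : SetLike.GradedSMul 𝒜 A.gr :=
    ⟨fun {_ _ _ _} hr hx => SetLike.GradedSMul.smul_mem (A := addGr 𝒜) (B := A.gr) hr hx⟩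
  GrLC.GMod.of 𝒜 A.carrier A.gr

/-- An object as an object over the additive pieces. -/
def objAdd (A : GrLC.GMod.{u} 𝒜) : GrLC.GMod.{u} (addGr 𝒜) := GrLC.GMod.of (addGr 𝒜) A.carrier A.gr

theorem isStarInj_addGr [DirectSum.Decomposition ℳ] [SetLike.GradedSMul 𝒜 ℳ] (h : GrLC.IsStarInj 𝒜 ℳ) :
    GrLC.IsStarInj (addGr 𝒜) ℳ := fun A B f hf hinj g hg => h (objOfAdd 𝒜 A) (objOfAdd 𝒜 B) f hf hinj g hg

/-- A resolution over the additive pieces. -/
def resAdd [DirectSum.Decomposition ℳ] [SetLike.GradedSMul 𝒜 ℳ] (I : GrLC.StarInjRes 𝒜 ℳ) :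
    GrLC.StarInjRes (addGr 𝒜) ℳ where
  X i := objAdd 𝒜 (I.X i)
  d := I.d
  ε := I.ε
  d_grHom := I.d_grHom
  ε_grHom := I.ε_grHom
  ε_injective := I.ε_injective
  exact_zero := I.exact_zero
  exact_succ := I.exact_succ
  starInj i := isStarInj_addGr 𝒜 (I.X i).gr (I.starInj i)

end Mod

/-- A resolution of the ring over the additive pieces. -/
def resSelfAdd (I : GrLC.StarInjRes 𝒜 𝒜) : GrLC.StarInjRes (addGr 𝒜) (addGr 𝒜) where
  X i := objAdd 𝒜 (I.X i)
  d := I.d
  ε := I.ε
  d_grHom := I.d_grHom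
  ε_grHom g x hx := I.ε_grHom g x hx
  ε_injective := I.ε_injective
  exact_zero := I.exact_zero
  exact_succ := I.exact_succ
  starInj i := isStarInj_addGr 𝒜 (I.X i).gr (I.starInj i)

end Groth.Agent.GrLCLib
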